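import Mathlib

/-!
Pointwise stabilisers of lists of points, and the orbit count along a chain of them. (helper8)
-/

set_option autoImplicit false

namespace Cfsg.Agent.Lib.Helper8.Ru2

section

variable (G : Type*) [Group G] {Ω : Type*} [MulAction G Ω]

/-- the pointwise stabiliser of a list of points -/
def fixer (bs : List Ω) : Subgroup G where
  carrier := {g | ∀ b ∈ bs, g • b = b}
  one_mem' := fun b _ => one_smul _ b
  mul_mem' := by
    intro g h hg hh b hb
    rw [mul_smul, hh b hb, hg b hb]
  inv_mem' := by
    intro g hg b hb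
    rw [inv_smul_eq_iff]
    exact (hg b hb).symm

theorem mem_fixer (bs : List Ω) (g : G) : g ∈ fixer G bs ↔ ∀ b ∈ bs, g • b = b := Iff.rfl

/-- one step of the chain: the orbit of `v` under the stabiliser of `bs` lies in a finite set `T` -/
theorem fixer_step (bs : List Ω) (v : Ω) (T : Set Ω) (hT : T.Finite)
    (horb : ∀ g ∈ fixer G bs, g • v ∈ T) (hfin : Finite (fixer G (v :: bs))) :
    Finite (fixer G bs) ∧ Nat.card (fixer G bs) ≤ T.ncard * Nat.card (fixer G (v :: bs)) := by
  let K : Subgroup (fixer G bs) := MulAction.stabilizer (fixer G bs) v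
  have e : K ≃ fixer G (v :: bs) :=
    { toFun := fun k => ⟨k.1.1, by
        intro b hb
        rcases List.mem_cons.1 hb with rfl | hb
        · exact k.2
        · exact k.1.2 b hb⟩
      invFun := fun g => ⟨⟨g.1, fun b hb => g.2 b (List.mem_cons_of_mem _ hb)⟩, g.2 v List.mem_cons_self⟩
      left_inv := fun k => rfl
      right_inv := fun g => rfl }
  have : Finite K := Finite.of_equiv _ e.symm
  have horbit : MulAction.orbit (fixer G bs) v ⊆ T := by
    rintro _ ⟨h, rfl⟩
    exact horb h.1 h.2
  have hofin : (MulAction.orbit (fixer G bs) v).Finite := hT.subset horbit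
  have : Finite (MulAction.orbit (fixer G bs) v) := hofin.to_subtype
  have : Finite ((fixer G bs) ⧸ K) :=
    Finite.of_equiv _ (MulAction.orbitEquivQuotientStabilizer (fixer G bs) v)
  have e2 : (fixer G bs) ≃ ((fixer G bs) ⧸ K) × K := Subgroup.groupEquivQuotientProdSubgroup
  have : Finite (fixer G bs) := Finite.of_equiv _ e2.symm
  refine ⟨inferInstance, ?_⟩
  rw [Nat.card_congr e2, Nat.card_prod, Nat.card_congr e,
    ← Nat.card_congr (MulAction.orbitEquivQuotientStabilizer (fixer G bs) v)]
  apply Nat.mul_le_mul_right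
  rw [Nat.card_coe_set_eq]
  exact Set.ncard_le_ncard horbit hT

/-- the stabiliser of the empty list is the whole group -/
theorem fixer_nil : fixer G ([] : List Ω) = ⊤ := by
  ext g
  simp [mem_fixer]

end

end Cfsg.Agent.Lib.Helper8.Ru2
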