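import Cfsg.Agent.Lib.Helper8.Ru2.Cand2
import Cfsg.Agent.Lib.Helper8.Ru2.FixChain

/-!
The automorphisms of the Rudvalis lattice preserve the Hermitian form; the possible images of a vector under
the automorphisms fixing some explicit vectors. (helper8)
-/

set_option autoImplicit false

namespace Cfsg.Agent.Lib.Helper8.Ru2

open Cfsg.Spor Cfsg.Agent.Lib.Helper8.RuLat

theorem mem_fourRu (f : Equiv.Perm ruLattice) : f ∈ fourRu ↔
    (∀ v w : ruLattice, f (v + w) = f v + f w) ∧ (∀ v : ruLattice, f (ruI v) = ruI (f v)) ∧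
    ∀ v : ruLattice, ruNorm ((f v : ruLattice) : RuVec) = ruNorm (v : RuVec) := Iff.rfl

theorem smul_eq_apply (g : fourRu) (v : ruLattice) : g • v = g.1 v := rfl

theorem coe_ruI (v : ruLattice) : ((ruI v : ruLattice) : RuVec) = gI • (v : RuVec) := rfl

theorem fourRu_add (g : fourRu) (v w : ruLattice) : g.1 (v + w) = g.1 v + g.1 w :=
  ((mem_fourRu g.1).1 g.2).1 v w

theorem fourRu_I (g : fourRu) (v : ruLattice) : g.1 (ruI v) = ruI (g.1 v) :=
  ((mem_fourRu g.1).1 g.2).2.1 v

theorem fourRu_norm (g : fourRu) (v : ruLattice) :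
    ruNorm ((g.1 v : ruLattice) : RuVec) = ruNorm (v : RuVec) :=
  ((mem_fourRu g.1).1 g.2).2.2 v

theorem fourRu_re_herm (g : fourRu) (v w : ruLattice) :
    (herm ((g.1 v : ruLattice) : RuVec) ((g.1 w : ruLattice) : RuVec)).re =
      (herm (v : RuVec) (w : RuVec)).re := by
  have h1 := fourRu_norm g (v + w)
  rw [fourRu_add, AddSubgroup.coe_add, AddSubgroup.coe_add, ruNorm_add, ruNorm_add, fourRu_norm,
    fourRu_norm] at h1
  omega

/-- automorphisms preserve the Hermitian form -/
theorem fourRu_herm (g : fourRu) (v w : ruLattice) :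
    herm ((g.1 v : ruLattice) : RuVec) ((g.1 w : ruLattice) : RuVec) = herm (v : RuVec) (w : RuVec) := by
  apply Zsqrtd.ext
  · exact fourRu_re_herm g v w
  · rw [← re_herm_gI, ← re_herm_gI, ← coe_ruI, ← coe_ruI, ← fourRu_I]
    exact fourRu_re_herm g v (ruI w)

theorem fix_ruI (g : fourRu) (b : ruLattice) (h : g.1 b = b) : g.1 (ruI b) = ruI b := by
  rw [fourRu_I, h]

/-- the index of a coordinate -/
def idx28 (p : RuIdx) : Fin 28 := ⟨4 * p.1.val + p.2.val, by
  have h1 := p.1.isLt
  have h2 := p.2.isLt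
  omega⟩

/-! ### sets of lattice vectors given by lists of residues -/

/-- the vectors with coordinates in `{1, -1, 0}` whose residues are in a list -/
def Tcode (F : List ℕ) : Set ruLattice :=
  {y | code (y : RuVec) ∈ F ∧ ∀ r, rc (y : RuVec) r = sg (dig (code (y : RuVec)) r)}

theorem Tcode_inj (F : List ℕ) : Set.InjOn (fun y : ruLattice => code (y : RuVec)) (Tcode F) := by
  intro y hy z hz h
  apply Subtype.ext
  apply rc_injective
  intro r
  have h' : code (y : RuVec) = code (z : RuVec) := h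
  rw [hy.2 r, hz.2 r, h']

theorem Tcode_finite (F : List ℕ) : (Tcode F).Finite :=
  Set.Finite.of_injOn (f := fun y : ruLattice => code (y : RuVec)) (t := {n | n ∈ F})
    (fun _ hy => hy.1) (Tcode_inj F) (List.finite_toSet F)

theorem Tcode_ncard (F : List ℕ) : (Tcode F).ncard ≤ F.length := by
  have h1 : (Tcode F).ncard ≤ ({n | n ∈ F} : Set ℕ).ncard :=
    Set.ncard_le_ncard_of_injOn _ (fun _ hy => hy.1) (Tcode_inj F) (List.finite_toSet F)
  have h2 : ({n | n ∈ F} : Set ℕ) = ↑F.toFinset := by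
    ext n
    simp
  rw [h2, Set.ncard_coe_finset] at h1
  exact h1.trans (List.toFinset_card_le F)

/-! ### the vectors of norm 16 -/

/-- the vectors of norm 16 -/
def Tmin : Set ruLattice := {y | ruNorm (y : RuVec) = 16}

/-- the real coordinates of the vectors of norm 16 -/
def Umin : Set (Fin 64 → ℤ) :=
  (fun (X : ℕ) (r : Fin 64) => sg (dig X r)) '' {X | X ∈ leavesAll} ∪
    Set.range (fun (q : Fin 64 × Bool) (r : Fin 64) => if r = q.1 then cond q.2 (4 : ℤ) (-4) else 0)

theorem Umin_finite : Umin.Finite :=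
  Set.Finite.union ((List.finite_toSet leavesAll).image _) (Set.finite_range _)

set_option maxRecDepth 1000000 in
theorem leavesAll_length : leavesAll.length = 16129 := by decide +kernel

theorem Umin_ncard : Umin.ncard ≤ 16257 := by
  have h1 : ((fun (X : ℕ) (r : Fin 64) => sg (dig X r)) '' {X | X ∈ leavesAll}).ncard ≤ 16129 := by
    refine (Set.ncard_image_le (List.finite_toSet leavesAll)).trans ?_
    have h2 : ({n | n ∈ leavesAll} : Set ℕ) = ↑leavesAll.toFinset := by
      ext n
      simp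
    rw [h2, Set.ncard_coe_finset, ← leavesAll_length]
    exact List.toFinset_card_le _
  have h3 : (Set.range (fun (q : Fin 64 × Bool) (r : Fin 64) =>
      if r = q.1 then cond q.2 (4 : ℤ) (-4) else 0)).ncard ≤ 128 := by
    rw [← Set.image_univ]
    refine (Set.ncard_image_le Set.finite_univ).trans ?_
    rw [Set.ncard_univ]
    simp
  exact (Set.ncard_union_le _ _).trans (by omega)

theorem Tmin_maps : ∀ y ∈ Tmin, (fun r => rc ((y : ruLattice) : RuVec) r) ∈ Umin := by
  intro y hy
  by_cases h0 : code (y : RuVec) = 0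
  · right
    obtain ⟨r0, s, h⟩ := frame_of_code_zero hy h0
    exact ⟨(r0, s), funext fun r => (h r).symm⟩
  · left
    have hmem := code_mem_leaves y.2 hy
    exact ⟨code (y : RuVec), hmem, funext fun r => (unit_of_code hy (leaves_ok _ hmem) h0 r).symm⟩

theorem rcv_inj : Set.InjOn (fun (y : ruLattice) (r : Fin 64) => rc (y : RuVec) r) Tmin := by
  intro y _ z _ h
  apply Subtype.ext
  apply rc_injective
  intro r
  exact congrFun h r

theorem Tmin_finite : Tmin.Finite :=
  Set.Finite.of_injOn (f := fun (y : ruLattice) (r : Fin 64) => rc (y : RuVec) r) Tmin_maps rcv_inj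
    Umin_finite

theorem Tmin_ncard : Tmin.ncard ≤ 16257 :=
  (Set.ncard_le_ncard_of_injOn _ Tmin_maps rcv_inj Umin_finite).trans Umin_ncard

/-! ### candidates -/

/-- the first frame vector -/
def e0 : RuVec := Pi.single ((0, 0) : RuIdx) (4 : GaussianInt)

/-- the first frame vector, in the lattice -/
def e0L : ruLattice := ⟨e0, single_mem _⟩

theorem herm_e0 (x : RuVec) : herm x e0 = 4 * x (0, 0) := by
  unfold herm e0
  rw [Finset.sum_eq_single ((0, 0) : RuIdx)]
  · rw [Pi.single_eq_same, star_four, mul_comm]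
  · intro b _ hb
    rw [Pi.single_eq_of_ne hb, star_zero, mul_zero]
  · intro h
    exact absurd (Finset.mem_univ _) h

theorem rc_zero_eq (y : RuVec) : rc y 0 = (y (0, 0)).re := by
  have := rc_re y ((0, 0) : RuIdx) (by decide)
  exact this

theorem rc_one_eq (y : RuVec) : rc y 1 = (y (0, 0)).im := by
  have := rc_im y ((0, 0) : RuIdx) (by decide)
  exact this

/-- the image of `v` under an automorphism fixing the first frame vector and some more vectors -/
theorem orbit_cand (g : fourRu) (hg0 : g.1 e0L = e0L) (v : ruLattice) (hv : ruNorm (v : RuVec) = 16)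
    (a0 a1 val : ℕ) (ha0 : (((v : RuVec) (0, 0)).re % 4).toNat = a0)
    (ha1 : (((v : RuVec) (0, 0)).im % 4).toNat = a1) (hval : val = a0 + 256 * a1)
    (hodd : a0 ≠ 0 ∨ a1 ≠ 0) (conds : List (ℕ × ℕ))
    (hconds : ∀ c ∈ conds, ∃ b : ruLattice, g.1 b = b ∧ code (b : RuVec) = c.1 ∧
      (∀ r, -1 ≤ rc (b : RuVec) r ∧ rc (b : RuVec) r ≤ 1) ∧ ruNorm (b : RuVec) = 16 ∧
      (c.2 : ℤ) = 88 + 2 * (herm (v : RuVec) (b : RuVec)).re) :
    g.1 v ∈ Tcode (leavesAll.filter (predP val conds)) := by
  have hn : ruNorm ((g.1 v : ruLattice) : RuVec) = 16 := (fourRu_norm g v).trans hv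
  have h00 : ((g.1 v : ruLattice) : RuVec) (0, 0) = (v : RuVec) (0, 0) := by
    have h := fourRu_herm g v e0L
    rw [hg0] at h
    have h' : herm ((g.1 v : ruLattice) : RuVec) e0 = herm (v : RuVec) e0 := h
    rw [herm_e0, herm_e0] at h'
    exact mul_left_cancel₀ (by decide) h'
  refine candP (g.1 v).2 hn a0 a1 val ?_ ?_ hval hodd conds ?_
  · rw [dig_code, rc_zero_eq, h00, ha0]
  · rw [dig_code, rc_one_eq, h00, ha1]
  · intro c hc
    obtain ⟨b, hfix, hB, hb1, hbn, hval'⟩ := hconds c hc
    refine ⟨(b : RuVec), hB, hb1, hbn, ?_⟩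
    have h := fourRu_herm g v b
    rw [hfix] at h
    rw [h]
    exact hval'

end Cfsg.Agent.Lib.Helper8.Ru2
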