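import Cfsg.Agent.Lib.Helper8.Ru2.DfsData

/-! Part 1 of the search (generated). (helper8) -/

set_option autoImplicit false

namespace Cfsg.Agent.Lib.Helper8.Ru2

/-- the final states of part 1 -/
def leaves1 : List ℕ := []

set_option maxRecDepth 1000000 in
theorem part1 : dfsG okF addG tail19 78804012411137228414196786911200723171449065833940150075536387754330428317192701144435552040003046021355222348070914 [] = leaves1 := by
  decide +kernel

end Cfsg.Agent.Lib.Helper8.Ru2
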