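import Cfsg.Agent.Lib.Helper8.Ru2.DfsData

/-! Part 2 of the search (generated). (helper8) -/

set_option autoImplicit false

namespace Cfsg.Agent.Lib.Helper8.Ru2

/-- the final states of part 2 -/
def leaves2 : List ℕ := []

set_option maxRecDepth 1000000 in
theorem part2 : dfsG okF addG tail20 18348269993910680782755330903180351232660220223923806509955844580424227927422594063995742234706026065756417 [] = leaves2 := by
  decide +kernel

end Cfsg.Agent.Lib.Helper8.Ru2
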