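import Cfsg.Agent.Lib.Helper8.Ru2.DfsData

/-! Part 3 of the search (generated). (helper8) -/

set_option autoImplicit false

namespace Cfsg.Agent.Lib.Helper8.Ru2

/-- the final states of part 3 -/
def leaves3 : List ℕ := []

set_option maxRecDepth 1000000 in
theorem part3 : dfsG okF addG tail20 5700695875500992647366071202381570926445505863906690341787893360377293858035220521255217236809605493129735627474105571938982711984387 [] = leaves3 := by
  decide +kernel

end Cfsg.Agent.Lib.Helper8.Ru2
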