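import Cfsg.Agent.Lib.Helper8.Ru2.DfsData

/-! Part 4 of the search (generated). (helper8) -/

set_option autoImplicit false

namespace Cfsg.Agent.Lib.Helper8.Ru2

/-- the final states of part 4 -/
def leaves4 : List ℕ := []

set_option maxRecDepth 1000000 in
theorem part4 : dfsG okF addG tail17 78804012411136948450375988756521592360235185433745795305187792093148871599021325763617422677208848955507624286224384 [] = leaves4 := by
  decide +kernel

end Cfsg.Agent.Lib.Helper8.Ru2
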