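import Cfsg.Agent.Lib.Helper8.Ru2.DfsData

/-! Part 5 of the search (generated). (helper8) -/

set_option autoImplicit false

namespace Cfsg.Agent.Lib.Helper8.Ru2

/-- the final states of part 5 -/
def leaves5 : List ℕ := []

set_option maxRecDepth 1000000 in
theorem part5 : dfsG okF addG tail16 78804012392788958428830054272129047775181560232226502606376056278018209073416692529928649775512693957478992322887680 [] = leaves5 := by
  decide +kernel

end Cfsg.Agent.Lib.Helper8.Ru2
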