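import Cfsg.Agent.Lib.Helper8.Ru2.DfsData

/-! Part 6 of the search (generated). (helper8) -/

set_option autoImplicit false

namespace Cfsg.Agent.Lib.Helper8.Ru2

/-- the final states of part 6 -/
def leaves6 : List ℕ := []

set_option maxRecDepth 1000000 in
theorem part6 : dfsG okF addG tail15 78804012411137227324843398591538546614059191355567352148017296817234199886175081552058022515894405345848429375456000 [] = leaves6 := by
  decide +kernel

end Cfsg.Agent.Lib.Helper8.Ru2
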