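import Cfsg.Agent.Lib.Helper8.Ru2.DfsData

/-! Part 7 of the search (generated). (helper8) -/

set_option autoImplicit false

namespace Cfsg.Agent.Lib.Helper8.Ru2

/-- the final states of part 7 -/
def leaves7 : List ℕ := []

set_option maxRecDepth 1000000 in
theorem part7 : dfsG okF addG tail14 78804012392789238396922826625471324580093688361189554263657302159234361983138379311741218496239855759657103456928001 [] = leaves7 := by
  decide +kernel

end Cfsg.Agent.Lib.Helper8.Ru2
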