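import Cfsg.Agent.Lib.Helper8.Ru2.DfsData

/-! Part 10 of the search (generated). (helper8) -/

set_option autoImplicit false

namespace Cfsg.Agent.Lib.Helper8.Ru2

/-- the final states of part 10 -/
def leaves10 : List ℕ := []

set_option maxRecDepth 1000000 in
theorem part10 : dfsG okF addG tail11 78804012392825215935146114029129380083964631974744943621717799798045354474097155262584705277034491992258109394518784 [] = leaves10 := by
  decide +kernel

end Cfsg.Agent.Lib.Helper8.Ru2
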