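import Cfsg.Agent.Lib.Helper8.Ru2.DfsData

/-! Part 11 of the search (generated). (helper8) -/

set_option autoImplicit false

namespace Cfsg.Agent.Lib.Helper8.Ru2

/-- the final states of part 11 -/
def leaves11 : List ℕ := []

set_option maxRecDepth 1000000 in
theorem part11 : dfsG okF addG tail10 78804014768925196970970524450142802028547834856184970560053191928780919602817095127218847693086606951591691558126081 [] = leaves11 := by
  decide +kernel

end Cfsg.Agent.Lib.Helper8.Ru2
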