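import Cfsg.Agent.Lib.Helper8.Ru2.DfsData

/-! Part 13 of the search (generated). (helper8) -/

set_option autoImplicit false

namespace Cfsg.Agent.Lib.Helper8.Ru2

/-- the final states of part 13 -/
def leaves13 : List ℕ := []

set_option maxRecDepth 1000000 in
theorem part13 : dfsG okF addG tail11 78804613628971930707694752655820033506480938546172091951785063054765285432801102623016724646547753530632053461156608 [] = leaves13 := by
  decide +kernel

end Cfsg.Agent.Lib.Helper8.Ru2
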