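import Cfsg.Agent.Lib.Helper8.Ru2.DfsData

/-! Part 16 of the search (generated). (helper8) -/

set_option autoImplicit false

namespace Cfsg.Agent.Lib.Helper8.Ru2

/-- the final states of part 16 -/
def leaves16 : List ℕ := []

set_option maxRecDepth 1000000 in
theorem part16 : dfsG okF addG tail18 155121246766346139116733460387124615580382444831952871928232420535670935573370787660897289651339118854975973753601 [] = leaves16 := by
  decide +kernel

end Cfsg.Agent.Lib.Helper8.Ru2
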