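import Cfsg.Agent.Lib.Helper8.Ru2.DfsData

/-! Part 17 of the search (generated). (helper8) -/

set_option autoImplicit false

namespace Cfsg.Agent.Lib.Helper8.Ru2

/-- the final states of part 17 -/
def leaves17 : List ℕ := []

set_option maxRecDepth 1000000 in
theorem part17 : dfsG okF addG tail17 155121246766626102937531615066255426794262872633714278605806692367670300235510499061353118297013186751082977690371 [] = leaves17 := by
  decide +kernel

end Cfsg.Agent.Lib.Helper8.Ru2
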