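import Cfsg.Agent.Lib.Helper8.Ru2.DfsData

/-! Part 18 of the search (generated). (helper8) -/

set_option autoImplicit false

namespace Cfsg.Agent.Lib.Helper8.Ru2

/-- the final states of part 18 -/
def leaves18 : List ℕ := []

set_option maxRecDepth 1000000 in
theorem part18 : dfsG okF addG tail16 155121265114616124483466099458799893277696868497561528180603365975785175336140809136194384840600982611873140704003 [] = leaves18 := by
  decide +kernel

end Cfsg.Agent.Lib.Helper8.Ru2
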