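import Cfsg.Agent.Lib.Helper8.Ru2.DfsData

/-! Part 19 of the search (generated). (helper8) -/

set_option autoImplicit false

namespace Cfsg.Agent.Lib.Helper8.Ru2

/-- the final states of part 19 -/
def leaves19 : List ℕ := []

set_option maxRecDepth 1000000 in
theorem part19 : dfsG okF addG tail15 155121246766347228470121780053201747374375589334843504269744108280525428514585540566966166316309507688966402408963 [] = leaves19 := by
  decide +kernel

end Cfsg.Agent.Lib.Helper8.Ru2
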