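import Cfsg.Agent.Lib.Helper8.Ru2.DfsData

/-! Part 20 of the search (generated). (helper8) -/

set_option autoImplicit false

namespace Cfsg.Agent.Lib.Helper8.Ru2

/-- the final states of part 20 -/
def leaves20 : List ℕ := []

set_option maxRecDepth 1000000 in
theorem part20 : dfsG okF addG tail14 155121265114336156390694001748437338082851243340345903849515026600961462058635654928374928664496506886872090476544 [] = leaves20 := by
  decide +kernel

end Cfsg.Agent.Lib.Helper8.Ru2
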