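import Cfsg.Agent.Lib.Helper8.Ru2.DfsData

/-! Part 21 of the search (generated). (helper8) -/

set_option autoImplicit false

namespace Cfsg.Agent.Lib.Helper8.Ru2

/-- the final states of part 21 -/
def leaves21 : List ℕ := []

set_option maxRecDepth 1000000 in
theorem part21 : dfsG okF addG tail13 155121265114335062765364329138206139897000923653598710991321126057554365127121236925443711027286450781482209444098 [] = leaves21 := by
  decide +kernel

end Cfsg.Agent.Lib.Helper8.Ru2
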