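import Cfsg.Agent.Lib.Helper8.Ru2.DfsData

/-! Part 22 of the search (generated). (helper8) -/

set_option autoImplicit false

namespace Cfsg.Agent.Lib.Helper8.Ru2

/-- the final states of part 22 -/
def leaves22 : List ℕ := []

set_option maxRecDepth 1000000 in
theorem part22 : dfsG okF addG tail12 78959133657903294585229091845921795028942308631114101925161047489320065680458763221388485396459410724689411752132867 [] = leaves22 := by
  decide +kernel

end Cfsg.Agent.Lib.Helper8.Ru2
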