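import Cfsg.Agent.Lib.Helper8.Ru2.DfsData

/-! Part 24 of the search (generated). (helper8) -/

set_option autoImplicit false

namespace Cfsg.Agent.Lib.Helper8.Ru2

/-- the final states of part 24 -/
def leaves24 : List ℕ := []

set_option maxRecDepth 1000000 in
theorem part24 : dfsG okF addG tail11 155123604554876810782792091699389467609139412694254886640637422708732406428730860856350597416391153036792613110016 [] = leaves24 := by
  decide +kernel

end Cfsg.Agent.Lib.Helper8.Ru2
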