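import Cfsg.Agent.Lib.Helper8.Ru2.DfsData

/-! Part 26 of the search (generated). (helper8) -/

set_option autoImplicit false

namespace Cfsg.Agent.Lib.Helper8.Ru2

/-- the final states of part 26 -/
def leaves26 : List ℕ := []

set_option maxRecDepth 1000000 in
theorem part26 : dfsG okF addG tail11 78959734857354313657271739595517291138643491536063792690247019287656657070215355027479094008248043710311240202126083 [] = leaves26 := by
  decide +kernel

end Cfsg.Agent.Lib.Helper8.Ru2
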