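import Cfsg.Agent.Lib.Helper8.Ru2.DfsData

/-! Part 27 of the search (generated). (helper8) -/

set_option autoImplicit false

namespace Cfsg.Agent.Lib.Helper8.Ru2

/-- the final states of part 27 -/
def leaves27 : List ℕ := []

set_option maxRecDepth 1000000 in
theorem part27 : dfsG okF addG tail11 155722464601050611321475846324011939173542018628580635522803883661600234525138861772665261807294799150649807274499 [] = leaves27 := by
  decide +kernel

end Cfsg.Agent.Lib.Helper8.Ru2
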