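import Cfsg.Agent.Lib.Helper8.Ru2.DfsData

/-! Part 28 of the search (generated). (helper8) -/

set_option autoImplicit false

namespace Cfsg.Agent.Lib.Helper8.Ru2

/-- the final states of part 28 -/
def leaves28 : List ℕ := []

set_option maxRecDepth 1000000 in
theorem part28 : dfsG okF addG tail10 155724840558247919832050739655402854748985010226928925560389522474150486952485109405112381306305229052435998179584 [] = leaves28 := by
  decide +kernel

end Cfsg.Agent.Lib.Helper8.Ru2
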