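import Cfsg.Agent.Lib.Helper8.Ru2.DfsData

/-! Part 29 of the search (generated). (helper8) -/

set_option autoImplicit false

namespace Cfsg.Agent.Lib.Helper8.Ru2

/-- the final states of part 29 -/
def leaves29 : List ℕ := []

set_option maxRecDepth 1000000 in
theorem part29 : dfsG okF addG tail7 10205119604893763771750714680447294731252807650136481142912566940256949433527442164554303388949248321283077734968525315 [] = leaves29 := by
  decide +kernel

end Cfsg.Agent.Lib.Helper8.Ru2
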