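import Cfsg.Agent.Lib.Helper8.Ru2.DfsData

/-! Part 39 of the search (generated). (helper8) -/

set_option autoImplicit false

namespace Cfsg.Agent.Lib.Helper8.Ru2

/-- the final states of part 39 -/
def leaves39 : List ℕ := []

set_option maxRecDepth 1000000 in
theorem part39 : dfsG okF addG tail2 2850304445556217849474984816597090847688906473523999792981753037108107527498448218737781138365410737701351360903312349225865185394691 [] = leaves39 := by
  decide +kernel

end Cfsg.Agent.Lib.Helper8.Ru2
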