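import Cfsg.Agent.Lib.Helper8.Ru2.DfsP00
import Cfsg.Agent.Lib.Helper8.Ru2.DfsP01
import Cfsg.Agent.Lib.Helper8.Ru2.DfsP02
import Cfsg.Agent.Lib.Helper8.Ru2.DfsP03
import Cfsg.Agent.Lib.Helper8.Ru2.DfsP04
import Cfsg.Agent.Lib.Helper8.Ru2.DfsP05
import Cfsg.Agent.Lib.Helper8.Ru2.DfsP06
import Cfsg.Agent.Lib.Helper8.Ru2.DfsP07
import Cfsg.Agent.Lib.Helper8.Ru2.DfsP08
import Cfsg.Agent.Lib.Helper8.Ru2.DfsP09
import Cfsg.Agent.Lib.Helper8.Ru2.DfsP10
import Cfsg.Agent.Lib.Helper8.Ru2.DfsP11
import Cfsg.Agent.Lib.Helper8.Ru2.DfsP12
import Cfsg.Agent.Lib.Helper8.Ru2.DfsP13
import Cfsg.Agent.Lib.Helper8.Ru2.DfsP14
import Cfsg.Agent.Lib.Helper8.Ru2.DfsP15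
import Cfsg.Agent.Lib.Helper8.Ru2.DfsP16
import Cfsg.Agent.Lib.Helper8.Ru2.DfsP17
import Cfsg.Agent.Lib.Helper8.Ru2.DfsP18
import Cfsg.Agent.Lib.Helper8.Ru2.DfsP19
import Cfsg.Agent.Lib.Helper8.Ru2.DfsP20
import Cfsg.Agent.Lib.Helper8.Ru2.DfsP21
import Cfsg.Agent.Lib.Helper8.Ru2.DfsP22
import Cfsg.Agent.Lib.Helper8.Ru2.DfsP23
import Cfsg.Agent.Lib.Helper8.Ru2.DfsP24
import Cfsg.Agent.Lib.Helper8.Ru2.DfsP25
import Cfsg.Agent.Lib.Helper8.Ru2.DfsP26
import Cfsg.Agent.Lib.Helper8.Ru2.DfsP27
import Cfsg.Agent.Lib.Helper8.Ru2.DfsP28
import Cfsg.Agent.Lib.Helper8.Ru2.DfsP29
import Cfsg.Agent.Lib.Helper8.Ru2.DfsP30
import Cfsg.Agent.Lib.Helper8.Ru2.DfsP31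
import Cfsg.Agent.Lib.Helper8.Ru2.DfsP32
import Cfsg.Agent.Lib.Helper8.Ru2.DfsP33
import Cfsg.Agent.Lib.Helper8.Ru2.DfsP34
import Cfsg.Agent.Lib.Helper8.Ru2.DfsP35
import Cfsg.Agent.Lib.Helper8.Ru2.DfsP36
import Cfsg.Agent.Lib.Helper8.Ru2.DfsP37
import Cfsg.Agent.Lib.Helper8.Ru2.DfsP38
import Cfsg.Agent.Lib.Helper8.Ru2.DfsP39

/-! The top of the search tree: every final state of the search is in the list of all leaves (generated).
(helper8) -/

set_option autoImplicit false

namespace Cfsg.Agent.Lib.Helper8.Ru2

/-- all final states -/
def leavesAll : List ℕ := leaves0 ++ (leaves1 ++ (leaves2 ++ (leaves3 ++ (leaves4 ++ (leaves5 ++ (leaves6 ++ (leaves7 ++ (leaves8 ++ (leaves9 ++ (leaves10 ++ (leaves11 ++ (leaves12 ++ (leaves13 ++ (leaves14 ++ (leaves15 ++ (leaves16 ++ (leaves17 ++ (leaves18 ++ (leaves19 ++ (leaves20 ++ (leaves21 ++ (leaves22 ++ (leaves23 ++ (leaves24 ++ (leaves25 ++ (leaves26 ++ (leaves27 ++ (leaves28 ++ (leaves29 ++ (leaves30 ++ (leaves31 ++ (leaves32 ++ (leaves33 ++ (leaves34 ++ (leaves35 ++ (leaves36 ++ (leaves37 ++ (leaves38 ++ (leaves39)))))))))))))))))))))))))))))))))))))))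

/-- membership in the list of all final states -/
def InLeaves (a : ℕ) : Prop := a ∈ leavesAll
theorem nd_r000000000000000000 : ∀ a ∈ dfsG okF addG tail18 0 [], InLeaves a := by
  intro a h
  rw [part0] at h
  exact List.mem_append_left _ h

theorem nd_r0000000000000000010 : ∀ a ∈ dfsG okF addG tail19 78804012411137228414196786911200723171449065833940150075536387754330428317192701144435552040003046021355222348070914 [], InLeaves a := by
  intro a h
  rw [part1] at h
  exact List.mem_append_right leaves0 (List.mem_append_left _ h)

theorem nd_r00000000000000000110 : ∀ a ∈ dfsG okF addG tail20 18348269993910680782755330903180351232660220223923806509955844580424227927422594063995742234706026065756417 [], InLeaves a := by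
  intro a h
  rw [part2] at h
  exact List.mem_append_right leaves0 (List.mem_append_right leaves1 (List.mem_append_left _ h))

theorem nd_r00000000000000000111 : ∀ a ∈ dfsG okF addG tail20 5700695875500992647366071202381570926445505863906690341787893360377293858035220521255217236809605493129735627474105571938982711984387 [], InLeaves a := by
  intro a h
  rw [part3] at h
  exact List.mem_append_right leaves0 (List.mem_append_right leaves1 (List.mem_append_right leaves2 (List.mem_append_left _ h)))

theorem nd_r0000000000000000011 : ∀ a ∈ dfsG okF addG tail19 18348269993910680782755330903180351232660220223923806509955844580424227927422594063995742234706026065756417 [], InLeaves a :=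
  dfsG_node okF addG tail19 st19 tail20 rfl 18348269993910680782755330903180351232660220223923806509955844580424227927422594063995742234706026065756417 5700695875500992647366071202381570926445505863906690341787893360377293858035220521255217236809605493129735627474105571938982711984387 InLeaves (by decide +kernel)
    (Or.inr nd_r00000000000000000110)
    (Or.inr nd_r00000000000000000111)

theorem nd_r000000000000000001 : ∀ a ∈ dfsG okF addG tail18 78804012411137228414196786911200723171449065833940150075536387754330428317192701144435552040003046021355222348070914 [], InLeaves a :=
  dfsG_node okF addG tail18 st18 tail19 rfl 78804012411137228414196786911200723171449065833940150075536387754330428317192701144435552040003046021355222348070914 18348269993910680782755330903180351232660220223923806509955844580424227927422594063995742234706026065756417 InLeaves (by decide +kernel)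
    (Or.inr nd_r0000000000000000010)
    (Or.inr nd_r0000000000000000011)

theorem nd_r00000000000000000 : ∀ a ∈ dfsG okF addG tail17 0 [], InLeaves a :=
  dfsG_node okF addG tail17 st17 tail18 rfl 0 78804012411137228414196786911200723171449065833940150075536387754330428317192701144435552040003046021355222348070914 InLeaves (by decide +kernel)
    (Or.inr nd_r000000000000000000)
    (Or.inr nd_r000000000000000001)

theorem nd_r00000000000000001 : ∀ a ∈ dfsG okF addG tail17 78804012411136948450375988756521592360235185433745795305187792093148871599021325763617422677208848955507624286224384 [], InLeaves a := by
  intro a h
  rw [part4] at h
  exact List.mem_append_right leaves0 (List.mem_append_right leaves1 (List.mem_append_right leaves2 (List.mem_append_right leaves3 (List.mem_append_left _ h))))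

theorem nd_r0000000000000000 : ∀ a ∈ dfsG okF addG tail16 0 [], InLeaves a :=
  dfsG_node okF addG tail16 st16 tail17 rfl 0 78804012411136948450375988756521592360235185433745795305187792093148871599021325763617422677208848955507624286224384 InLeaves (by decide +kernel)
    (Or.inr nd_r00000000000000000)
    (Or.inr nd_r00000000000000001)

theorem nd_r0000000000000001 : ∀ a ∈ dfsG okF addG tail16 78804012392788958428830054272129047775181560232226502606376056278018209073416692529928649775512693957478992322887680 [], InLeaves a := by
  intro a h
  rw [part5] at h
  exact List.mem_append_right leaves0 (List.mem_append_right leaves1 (List.mem_append_right leaves2 (List.mem_append_right leaves3 (List.mem_append_right leaves4 (List.mem_append_left _ h)))))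

theorem nd_r000000000000000 : ∀ a ∈ dfsG okF addG tail15 0 [], InLeaves a :=
  dfsG_node okF addG tail15 st15 tail16 rfl 0 78804012392788958428830054272129047775181560232226502606376056278018209073416692529928649775512693957478992322887680 InLeaves (by decide +kernel)
    (Or.inr nd_r0000000000000000)
    (Or.inr nd_r0000000000000001)

theorem nd_r000000000000001 : ∀ a ∈ dfsG okF addG tail15 78804012411137227324843398591538546614059191355567352148017296817234199886175081552058022515894405345848429375456000 [], InLeaves a := by
  intro a h
  rw [part6] at h
  exact List.mem_append_right leaves0 (List.mem_append_right leaves1 (List.mem_append_right leaves2 (List.mem_append_right leaves3 (List.mem_append_right leaves4 (List.mem_append_right leaves5 (List.mem_append_left _ h))))))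

theorem nd_r00000000000000 : ∀ a ∈ dfsG okF addG tail14 0 [], InLeaves a :=
  dfsG_node okF addG tail14 st14 tail15 rfl 0 78804012411137227324843398591538546614059191355567352148017296817234199886175081552058022515894405345848429375456000 InLeaves (by decide +kernel)
    (Or.inr nd_r000000000000000)
    (Or.inr nd_r000000000000001)

theorem nd_r00000000000001 : ∀ a ∈ dfsG okF addG tail14 78804012392789238396922826625471324580093688361189554263657302159234361983138379311741218496239855759657103456928001 [], InLeaves a := by
  intro a h
  rw [part7] at h
  exact List.mem_append_right leaves0 (List.mem_append_right leaves1 (List.mem_append_right leaves2 (List.mem_append_right leaves3 (List.mem_append_right leaves4 (List.mem_append_right leaves5 (List.mem_append_right leaves6 (List.mem_append_left _ h)))))))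

theorem nd_r0000000000000 : ∀ a ∈ dfsG okF addG tail13 0 [], InLeaves a :=
  dfsG_node okF addG tail13 st13 tail14 rfl 0 78804012392789238396922826625471324580093688361189554263657302159234361983138379311741218496239855759657103456928001 InLeaves (by decide +kernel)
    (Or.inr nd_r00000000000000)
    (Or.inr nd_r00000000000001)

theorem nd_r0000000000001 : ∀ a ∈ dfsG okF addG tail13 78804012392789239490548221737862310700512380084694966198250106452339967546579942112115387729058906407945890332606979 [], InLeaves a := by
  intro a h
  rw [part8] at h
  exact List.mem_append_right leaves0 (List.mem_append_right leaves1 (List.mem_append_right leaves2 (List.mem_append_right leaves3 (List.mem_append_right leaves4 (List.mem_append_right leaves5 (List.mem_append_right leaves6 (List.mem_append_right leaves7 (List.mem_append_left _ h))))))))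

theorem nd_r000000000000 : ∀ a ∈ dfsG okF addG tail12 0 [], InLeaves a :=
  dfsG_node okF addG tail12 st12 tail13 rfl 0 78804012392789239490548221737862310700512380084694966198250106452339967546579942112115387729058906407945890332606979 InLeaves (by decide +kernel)
    (Or.inr nd_r0000000000000)
    (Or.inr nd_r0000000000001)

theorem nd_r000000000001 : ∀ a ∈ dfsG okF addG tail12 279968101115925386617075255542869440048264929384855990923310403490615692929844345451442632639647908352 [], InLeaves a := by
  intro a h
  rw [part9] at h
  exact List.mem_append_right leaves0 (List.mem_append_right leaves1 (List.mem_append_right leaves2 (List.mem_append_right leaves3 (List.mem_append_right leaves4 (List.mem_append_right leaves5 (List.mem_append_right leaves6 (List.mem_append_right leaves7 (List.mem_append_right leaves8 (List.mem_append_left _ h)))))))))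

theorem nd_r00000000000 : ∀ a ∈ dfsG okF addG tail11 0 [], InLeaves a :=
  dfsG_node okF addG tail11 st11 tail12 rfl 0 279968101115925386617075255542869440048264929384855990923310403490615692929844345451442632639647908352 InLeaves (by decide +kernel)
    (Or.inr nd_r000000000000)
    (Or.inr nd_r000000000001)

theorem nd_r00000000001 : ∀ a ∈ dfsG okF addG tail11 78804012392825215935146114029129380083964631974744943621717799798045354474097155262584705277034491992258109394518784 [], InLeaves a := by
  intro a h
  rw [part10] at h
  exact List.mem_append_right leaves0 (List.mem_append_right leaves1 (List.mem_append_right leaves2 (List.mem_append_right leaves3 (List.mem_append_right leaves4 (List.mem_append_right leaves5 (List.mem_append_right leaves6 (List.mem_append_right leaves7 (List.mem_append_right leaves8 (List.mem_append_right leaves9 (List.mem_append_left _ h))))))))))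

theorem nd_r0000000000 : ∀ a ∈ dfsG okF addG tail10 0 [], InLeaves a :=
  dfsG_node okF addG tail10 st10 tail11 rfl 0 78804012392825215935146114029129380083964631974744943621717799798045354474097155262584705277034491992258109394518784 InLeaves (by decide +kernel)
    (Or.inr nd_r00000000000)
    (Or.inr nd_r00000000001)

theorem nd_r0000000001 : ∀ a ∈ dfsG okF addG tail10 78804014768925196970970524450142802028547834856184970560053191928780919602817095127218847693086606951591691558126081 [], InLeaves a := by
  intro a h
  rw [part11] at h
  exact List.mem_append_right leaves0 (List.mem_append_right leaves1 (List.mem_append_right leaves2 (List.mem_append_right leaves3 (List.mem_append_right leaves4 (List.mem_append_right leaves5 (List.mem_append_right leaves6 (List.mem_append_right leaves7 (List.mem_append_right leaves8 (List.mem_append_right leaves9 (List.mem_append_right leaves10 (List.mem_append_left _ h)))))))))))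

theorem nd_r000000000 : ∀ a ∈ dfsG okF addG tail9 0 [], InLeaves a :=
  dfsG_node okF addG tail9 st9 tail10 rfl 0 78804014768925196970970524450142802028547834856184970560053191928780919602817095127218847693086606951591691558126081 InLeaves (by decide +kernel)
    (Or.inr nd_r0000000000)
    (Or.inr nd_r0000000001)

theorem nd_r00000000100 : ∀ a ∈ dfsG okF addG tail11 601236147276895984907860755247509790116827134777217631049489958877824309616752530491734940258952550808123801600 [], InLeaves a := by
  intro a h
  rw [part12] at h
  exact List.mem_append_right leaves0 (List.mem_append_right leaves1 (List.mem_append_right leaves2 (List.mem_append_right leaves3 (List.mem_append_right leaves4 (List.mem_append_right leaves5 (List.mem_append_right leaves6 (List.mem_append_right leaves7 (List.mem_append_right leaves8 (List.mem_append_right leaves9 (List.mem_append_right leaves10 (List.mem_append_right leaves11 (List.mem_append_left _ h))))))))))))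

theorem nd_r00000000101 : ∀ a ∈ dfsG okF addG tail11 78804613628971930707694752655820033506480938546172091951785063054765285432801102623016724646547753530632053461156608 [], InLeaves a := by
  intro a h
  rw [part13] at h
  exact List.mem_append_right leaves0 (List.mem_append_right leaves1 (List.mem_append_right leaves2 (List.mem_append_right leaves3 (List.mem_append_right leaves4 (List.mem_append_right leaves5 (List.mem_append_right leaves6 (List.mem_append_right leaves7 (List.mem_append_right leaves8 (List.mem_append_right leaves9 (List.mem_append_right leaves10 (List.mem_append_right leaves11 (List.mem_append_right leaves12 (List.mem_append_left _ h)))))))))))))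

theorem nd_r0000000010 : ∀ a ∈ dfsG okF addG tail10 601236147276895984907860755247509790116827134777217631049489958877824309616752530491734940258952550808123801600 [], InLeaves a :=
  dfsG_node okF addG tail10 st10 tail11 rfl 601236147276895984907860755247509790116827134777217631049489958877824309616752530491734940258952550808123801600 78804613628971930707694752655820033506480938546172091951785063054765285432801102623016724646547753530632053461156608 InLeaves (by decide +kernel)
    (Or.inr nd_r00000000100)
    (Or.inr nd_r00000000101)

theorem nd_r0000000011 : ∀ a ∈ dfsG okF addG tail10 78804615968233152347614908146390214469725217602646767413804139311318778052251047539591359560469405370979376657596929 [], InLeaves a := by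
  intro a h
  rw [part14] at h
  exact List.mem_append_right leaves0 (List.mem_append_right leaves1 (List.mem_append_right leaves2 (List.mem_append_right leaves3 (List.mem_append_right leaves4 (List.mem_append_right leaves5 (List.mem_append_right leaves6 (List.mem_append_right leaves7 (List.mem_append_right leaves8 (List.mem_append_right leaves9 (List.mem_append_right leaves10 (List.mem_append_right leaves11 (List.mem_append_right leaves12 (List.mem_append_right leaves13 (List.mem_append_left _ h))))))))))))))

theorem nd_r000000001 : ∀ a ∈ dfsG okF addG tail9 601236147276895984907860755247509790116827134777217631049489958877824309616752530491734940258952550808123801600 [], InLeaves a :=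
  dfsG_node okF addG tail9 st9 tail10 rfl 601236147276895984907860755247509790116827134777217631049489958877824309616752530491734940258952550808123801600 78804615968233152347614908146390214469725217602646767413804139311318778052251047539591359560469405370979376657596929 InLeaves (by decide +kernel)
    (Or.inr nd_r0000000010)
    (Or.inr nd_r0000000011)

theorem nd_r00000000 : ∀ a ∈ dfsG okF addG tail8 0 [], InLeaves a :=
  dfsG_node okF addG tail8 st8 tail9 rfl 0 601236147276895984907860755247509790116827134777217631049489958877824309616752530491734940258952550808123801600 InLeaves (by decide +kernel)
    (Or.inr nd_r000000000)
    (Or.inr nd_r000000001)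

theorem nd_r000000010000000000 : ∀ a ∈ dfsG okF addG tail18 78959133657903574553313520371587847668458348899760318833702823119022288792209957402111381510930642398201350270747395 [], InLeaves a := by
  intro a h
  rw [part15] at h
  exact List.mem_append_right leaves0 (List.mem_append_right leaves1 (List.mem_append_right leaves2 (List.mem_append_right leaves3 (List.mem_append_right leaves4 (List.mem_append_right leaves5 (List.mem_append_right leaves6 (List.mem_append_right leaves7 (List.mem_append_right leaves8 (List.mem_append_right leaves9 (List.mem_append_right leaves10 (List.mem_append_right leaves11 (List.mem_append_right leaves12 (List.mem_append_right leaves13 (List.mem_append_right leaves14 (List.mem_append_left _ h)))))))))))))))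

theorem nd_r000000010000000001 : ∀ a ∈ dfsG okF addG tail18 155121246766346139116733460387124615580382444831952871928232420535670935573370787660897289651339118854975973753601 [], InLeaves a := by
  intro a h
  rw [part16] at h
  exact List.mem_append_right leaves0 (List.mem_append_right leaves1 (List.mem_append_right leaves2 (List.mem_append_right leaves3 (List.mem_append_right leaves4 (List.mem_append_right leaves5 (List.mem_append_right leaves6 (List.mem_append_right leaves7 (List.mem_append_right leaves8 (List.mem_append_right leaves9 (List.mem_append_right leaves10 (List.mem_append_right leaves11 (List.mem_append_right leaves12 (List.mem_append_right leaves13 (List.mem_append_right leaves14 (List.mem_append_right leaves15 (List.mem_append_left _ h))))))))))))))))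

theorem nd_r00000001000000000 : ∀ a ∈ dfsG okF addG tail17 78959133657903574553313520371587847668458348899760318833702823119022288792209957402111381510930642398201350270747395 [], InLeaves a :=
  dfsG_node okF addG tail17 st17 tail18 rfl 78959133657903574553313520371587847668458348899760318833702823119022288792209957402111381510930642398201350270747395 155121246766346139116733460387124615580382444831952871928232420535670935573370787660897289651339118854975973753601 InLeaves (by decide +kernel)
    (Or.inr nd_r000000010000000000)
    (Or.inr nd_r000000010000000001)

theorem nd_r00000001000000001 : ∀ a ∈ dfsG okF addG tail17 155121246766626102937531615066255426794262872633714278605806692367670300235510499061353118297013186751082977690371 [], InLeaves a := by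
  intro a h
  rw [part17] at h
  exact List.mem_append_right leaves0 (List.mem_append_right leaves1 (List.mem_append_right leaves2 (List.mem_append_right leaves3 (List.mem_append_right leaves4 (List.mem_append_right leaves5 (List.mem_append_right leaves6 (List.mem_append_right leaves7 (List.mem_append_right leaves8 (List.mem_append_right leaves9 (List.mem_append_right leaves10 (List.mem_append_right leaves11 (List.mem_append_right leaves12 (List.mem_append_right leaves13 (List.mem_append_right leaves14 (List.mem_append_right leaves15 (List.mem_append_right leaves16 (List.mem_append_left _ h)))))))))))))))))

theorem nd_r0000000100000000 : ∀ a ∈ dfsG okF addG tail16 78959133657903574553313520371587847668458348899760318833702823119022288792209957402111381510930642398201350270747395 [], InLeaves a :=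
  dfsG_node okF addG tail16 st16 tail17 rfl 78959133657903574553313520371587847668458348899760318833702823119022288792209957402111381510930642398201350270747395 155121246766626102937531615066255426794262872633714278605806692367670300235510499061353118297013186751082977690371 InLeaves (by decide +kernel)
    (Or.inr nd_r00000001000000000)
    (Or.inr nd_r00000001000000001)

theorem nd_r0000000100000001 : ∀ a ∈ dfsG okF addG tail16 155121265114616124483466099458799893277696868497561528180603365975785175336140809136194384840600982611873140704003 [], InLeaves a := by
  intro a h
  rw [part18] at h
  exact List.mem_append_right leaves0 (List.mem_append_right leaves1 (List.mem_append_right leaves2 (List.mem_append_right leaves3 (List.mem_append_right leaves4 (List.mem_append_right leaves5 (List.mem_append_right leaves6 (List.mem_append_right leaves7 (List.mem_append_right leaves8 (List.mem_append_right leaves9 (List.mem_append_right leaves10 (List.mem_append_right leaves11 (List.mem_append_right leaves12 (List.mem_append_right leaves13 (List.mem_append_right leaves14 (List.mem_append_right leaves15 (List.mem_append_right leaves16 (List.mem_append_right leaves17 (List.mem_append_left _ h))))))))))))))))))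

theorem nd_r000000010000000 : ∀ a ∈ dfsG okF addG tail15 78959133657903574553313520371587847668458348899760318833702823119022288792209957402111381510930642398201350270747395 [], InLeaves a :=
  dfsG_node okF addG tail15 st15 tail16 rfl 78959133657903574553313520371587847668458348899760318833702823119022288792209957402111381510930642398201350270747395 155121265114616124483466099458799893277696868497561528180603365975785175336140809136194384840600982611873140704003 InLeaves (by decide +kernel)
    (Or.inr nd_r0000000100000000)
    (Or.inr nd_r0000000100000001)

theorem nd_r000000010000001 : ∀ a ∈ dfsG okF addG tail15 155121246766347228470121780053201747374375589334843504269744108280525428514585540566966166316309507688966402408963 [], InLeaves a := by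
  intro a h
  rw [part19] at h
  exact List.mem_append_right leaves0 (List.mem_append_right leaves1 (List.mem_append_right leaves2 (List.mem_append_right leaves3 (List.mem_append_right leaves4 (List.mem_append_right leaves5 (List.mem_append_right leaves6 (List.mem_append_right leaves7 (List.mem_append_right leaves8 (List.mem_append_right leaves9 (List.mem_append_right leaves10 (List.mem_append_right leaves11 (List.mem_append_right leaves12 (List.mem_append_right leaves13 (List.mem_append_right leaves14 (List.mem_append_right leaves15 (List.mem_append_right leaves16 (List.mem_append_right leaves17 (List.mem_append_right leaves18 (List.mem_append_left _ h)))))))))))))))))))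

theorem nd_r00000001000000 : ∀ a ∈ dfsG okF addG tail14 78959133657903574553313520371587847668458348899760318833702823119022288792209957402111381510930642398201350270747395 [], InLeaves a :=
  dfsG_node okF addG tail14 st14 tail15 rfl 78959133657903574553313520371587847668458348899760318833702823119022288792209957402111381510930642398201350270747395 155121246766347228470121780053201747374375589334843504269744108280525428514585540566966166316309507688966402408963 InLeaves (by decide +kernel)
    (Or.inr nd_r000000010000000)
    (Or.inr nd_r000000010000001)

theorem nd_r00000001000001 : ∀ a ∈ dfsG okF addG tail14 155121265114336156390694001748437338082851243340345903849515026600961462058635654928374928664496506886872090476544 [], InLeaves a := by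
  intro a h
  rw [part20] at h
  exact List.mem_append_right leaves0 (List.mem_append_right leaves1 (List.mem_append_right leaves2 (List.mem_append_right leaves3 (List.mem_append_right leaves4 (List.mem_append_right leaves5 (List.mem_append_right leaves6 (List.mem_append_right leaves7 (List.mem_append_right leaves8 (List.mem_append_right leaves9 (List.mem_append_right leaves10 (List.mem_append_right leaves11 (List.mem_append_right leaves12 (List.mem_append_right leaves13 (List.mem_append_right leaves14 (List.mem_append_right leaves15 (List.mem_append_right leaves16 (List.mem_append_right leaves17 (List.mem_append_right leaves18 (List.mem_append_right leaves19 (List.mem_append_left _ h))))))))))))))))))))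

theorem nd_r0000000100000 : ∀ a ∈ dfsG okF addG tail13 78959133657903574553313520371587847668458348899760318833702823119022288792209957402111381510930642398201350270747395 [], InLeaves a :=
  dfsG_node okF addG tail13 st13 tail14 rfl 78959133657903574553313520371587847668458348899760318833702823119022288792209957402111381510930642398201350270747395 155121265114336156390694001748437338082851243340345903849515026600961462058635654928374928664496506886872090476544 InLeaves (by decide +kernel)
    (Or.inr nd_r00000001000000)
    (Or.inr nd_r00000001000001)

theorem nd_r0000000100001 : ∀ a ∈ dfsG okF addG tail13 155121265114335062765364329138206139897000923653598710991321126057554365127121236925443711027286450781482209444098 [], InLeaves a := by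
  intro a h
  rw [part21] at h
  exact List.mem_append_right leaves0 (List.mem_append_right leaves1 (List.mem_append_right leaves2 (List.mem_append_right leaves3 (List.mem_append_right leaves4 (List.mem_append_right leaves5 (List.mem_append_right leaves6 (List.mem_append_right leaves7 (List.mem_append_right leaves8 (List.mem_append_right leaves9 (List.mem_append_right leaves10 (List.mem_append_right leaves11 (List.mem_append_right leaves12 (List.mem_append_right leaves13 (List.mem_append_right leaves14 (List.mem_append_right leaves15 (List.mem_append_right leaves16 (List.mem_append_right leaves17 (List.mem_append_right leaves18 (List.mem_append_right leaves19 (List.mem_append_right leaves20 (List.mem_append_left _ h)))))))))))))))))))))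

theorem nd_r000000010000 : ∀ a ∈ dfsG okF addG tail12 78959133657903574553313520371587847668458348899760318833702823119022288792209957402111381510930642398201350270747395 [], InLeaves a :=
  dfsG_node okF addG tail12 st12 tail13 rfl 78959133657903574553313520371587847668458348899760318833702823119022288792209957402111381510930642398201350270747395 155121265114335062765364329138206139897000923653598710991321126057554365127121236925443711027286450781482209444098 InLeaves (by decide +kernel)
    (Or.inr nd_r0000000100000)
    (Or.inr nd_r0000000100001)

theorem nd_r000000010001 : ∀ a ∈ dfsG okF addG tail12 78959133657903294585229091845921795028942308631114101925161047489320065680458763221388485396459410724689411752132867 [], InLeaves a := by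
  intro a h
  rw [part22] at h
  exact List.mem_append_right leaves0 (List.mem_append_right leaves1 (List.mem_append_right leaves2 (List.mem_append_right leaves3 (List.mem_append_right leaves4 (List.mem_append_right leaves5 (List.mem_append_right leaves6 (List.mem_append_right leaves7 (List.mem_append_right leaves8 (List.mem_append_right leaves9 (List.mem_append_right leaves10 (List.mem_append_right leaves11 (List.mem_append_right leaves12 (List.mem_append_right leaves13 (List.mem_append_right leaves14 (List.mem_append_right leaves15 (List.mem_append_right leaves16 (List.mem_append_right leaves17 (List.mem_append_right leaves18 (List.mem_append_right leaves19 (List.mem_append_right leaves20 (List.mem_append_right leaves21 (List.mem_append_left _ h))))))))))))))))))))))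

theorem nd_r00000001000 : ∀ a ∈ dfsG okF addG tail11 78959133657903574553313520371587847668458348899760318833702823119022288792209957402111381510930642398201350270747395 [], InLeaves a :=
  dfsG_node okF addG tail11 st11 tail12 rfl 78959133657903574553313520371587847668458348899760318833702823119022288792209957402111381510930642398201350270747395 78959133657903294585229091845921795028942308631114101925161047489320065680458763221388485396459410724689411752132867 InLeaves (by decide +kernel)
    (Or.inr nd_r000000010000)
    (Or.inr nd_r000000010001)

theorem nd_r00000001001 : ∀ a ∈ dfsG okF addG tail11 155121265150311507363256622394538114786958355308373655958561035887868927232964329468688739681201959739068698984963 [], InLeaves a := by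
  intro a h
  rw [part23] at h
  exact List.mem_append_right leaves0 (List.mem_append_right leaves1 (List.mem_append_right leaves2 (List.mem_append_right leaves3 (List.mem_append_right leaves4 (List.mem_append_right leaves5 (List.mem_append_right leaves6 (List.mem_append_right leaves7 (List.mem_append_right leaves8 (List.mem_append_right leaves9 (List.mem_append_right leaves10 (List.mem_append_right leaves11 (List.mem_append_right leaves12 (List.mem_append_right leaves13 (List.mem_append_right leaves14 (List.mem_append_right leaves15 (List.mem_append_right leaves16 (List.mem_append_right leaves17 (List.mem_append_right leaves18 (List.mem_append_right leaves19 (List.mem_append_right leaves20 (List.mem_append_right leaves21 (List.mem_append_right leaves22 (List.mem_append_left _ h)))))))))))))))))))))))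

theorem nd_r0000000100 : ∀ a ∈ dfsG okF addG tail10 78959133657903574553313520371587847668458348899760318833702823119022288792209957402111381510930642398201350270747395 [], InLeaves a :=
  dfsG_node okF addG tail10 st10 tail11 rfl 78959133657903574553313520371587847668458348899760318833702823119022288792209957402111381510930642398201350270747395 155121265150311507363256622394538114786958355308373655958561035887868927232964329468688739681201959739068698984963 InLeaves (by decide +kernel)
    (Or.inr nd_r00000001000)
    (Or.inr nd_r00000001001)

theorem nd_r00000001010 : ∀ a ∈ dfsG okF addG tail11 155123604554876810782792091699389467609139412694254886640637422708732406428730860856350597416391153036792613110016 [], InLeaves a := by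
  intro a h
  rw [part24] at h
  exact List.mem_append_right leaves0 (List.mem_append_right leaves1 (List.mem_append_right leaves2 (List.mem_append_right leaves3 (List.mem_append_right leaves4 (List.mem_append_right leaves5 (List.mem_append_right leaves6 (List.mem_append_right leaves7 (List.mem_append_right leaves8 (List.mem_append_right leaves9 (List.mem_append_right leaves10 (List.mem_append_right leaves11 (List.mem_append_right leaves12 (List.mem_append_right leaves13 (List.mem_append_right leaves14 (List.mem_append_right leaves15 (List.mem_append_right leaves16 (List.mem_append_right leaves17 (List.mem_append_right leaves18 (List.mem_append_right leaves19 (List.mem_append_right leaves20 (List.mem_append_right leaves21 (List.mem_append_right leaves22 (List.mem_append_right leaves23 (List.mem_append_left _ h))))))))))))))))))))))))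

theorem nd_r00000001011 : ∀ a ∈ dfsG okF addG tail11 78959135997379530622492636886756435142932499214749799722356545879111217712325417585460844623053634856487331542794240 [], InLeaves a := by
  intro a h
  rw [part25] at h
  exact List.mem_append_right leaves0 (List.mem_append_right leaves1 (List.mem_append_right leaves2 (List.mem_append_right leaves3 (List.mem_append_right leaves4 (List.mem_append_right leaves5 (List.mem_append_right leaves6 (List.mem_append_right leaves7 (List.mem_append_right leaves8 (List.mem_append_right leaves9 (List.mem_append_right leaves10 (List.mem_append_right leaves11 (List.mem_append_right leaves12 (List.mem_append_right leaves13 (List.mem_append_right leaves14 (List.mem_append_right leaves15 (List.mem_append_right leaves16 (List.mem_append_right leaves17 (List.mem_append_right leaves18 (List.mem_append_right leaves19 (List.mem_append_right leaves20 (List.mem_append_right leaves21 (List.mem_append_right leaves22 (List.mem_append_right leaves23 (List.mem_append_right leaves24 (List.mem_append_left _ h)))))))))))))))))))))))))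

theorem nd_r0000000101 : ∀ a ∈ dfsG okF addG tail10 155123604554876810782792091699389467609139412694254886640637422708732406428730860856350597416391153036792613110016 [], InLeaves a :=
  dfsG_node okF addG tail10 st10 tail11 rfl 155123604554876810782792091699389467609139412694254886640637422708732406428730860856350597416391153036792613110016 78959135997379530622492636886756435142932499214749799722356545879111217712325417585460844623053634856487331542794240 InLeaves (by decide +kernel)
    (Or.inr nd_r00000001010)
    (Or.inr nd_r00000001011)

theorem nd_r000000010 : ∀ a ∈ dfsG okF addG tail9 78959133657903574553313520371587847668458348899760318833702823119022288792209957402111381510930642398201350270747395 [], InLeaves a :=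
  dfsG_node okF addG tail9 st9 tail10 rfl 78959133657903574553313520371587847668458348899760318833702823119022288792209957402111381510930642398201350270747395 155123604554876810782792091699389467609139412694254886640637422708732406428730860856350597416391153036792613110016 InLeaves (by decide +kernel)
    (Or.inr nd_r0000000100)
    (Or.inr nd_r0000000101)

theorem nd_r00000001100 : ∀ a ∈ dfsG okF addG tail11 78959734857354313657271739595517291138643491536063792690247019287656657070215355027479094008248043710311240202126083 [], InLeaves a := by
  intro a h
  rw [part26] at h
  exact List.mem_append_right leaves0 (List.mem_append_right leaves1 (List.mem_append_right leaves2 (List.mem_append_right leaves3 (List.mem_append_right leaves4 (List.mem_append_right leaves5 (List.mem_append_right leaves6 (List.mem_append_right leaves7 (List.mem_append_right leaves8 (List.mem_append_right leaves9 (List.mem_append_right leaves10 (List.mem_append_right leaves11 (List.mem_append_right leaves12 (List.mem_append_right leaves13 (List.mem_append_right leaves14 (List.mem_append_right leaves15 (List.mem_append_right leaves16 (List.mem_append_right leaves17 (List.mem_append_right leaves18 (List.mem_append_right leaves19 (List.mem_append_right leaves20 (List.mem_append_right leaves21 (List.mem_append_right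 leaves22 (List.mem_append_right leaves23 (List.mem_append_right leaves24 (List.mem_append_right leaves25 (List.mem_append_left _ h))))))))))))))))))))))))))

theorem nd_r00000001101 : ∀ a ∈ dfsG okF addG tail11 155722464601050611321475846324011939173542018628580635522803883661600234525138861772665261807294799150649807274499 [], InLeaves a := by
  intro a h
  rw [part27] at h
  exact List.mem_append_right leaves0 (List.mem_append_right leaves1 (List.mem_append_right leaves2 (List.mem_append_right leaves3 (List.mem_append_right leaves4 (List.mem_append_right leaves5 (List.mem_append_right leaves6 (List.mem_append_right leaves7 (List.mem_append_right leaves8 (List.mem_append_right leaves9 (List.mem_append_right leaves10 (List.mem_append_right leaves11 (List.mem_append_right leaves12 (List.mem_append_right leaves13 (List.mem_append_right leaves14 (List.mem_append_right leaves15 (List.mem_append_right leaves16 (List.mem_append_right leaves17 (List.mem_append_right leaves18 (List.mem_append_right leaves19 (List.mem_append_right leaves20 (List.mem_append_right leaves21 (List.mem_append_right leaves22 (List.mem_append_right leaves23 (List.mem_append_right leaves24 (List.mem_append_right leaves25 (List.mem_append_right leaves26 (List.mem_append_left _ h)))))))))))))))))))))))))))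

theorem nd_r0000000110 : ∀ a ∈ dfsG okF addG tail10 78959734857354313657271739595517291138643491536063792690247019287656657070215355027479094008248043710311240202126083 [], InLeaves a :=
  dfsG_node okF addG tail10 st10 tail11 rfl 78959734857354313657271739595517291138643491536063792690247019287656657070215355027479094008248043710311240202126083 155722464601050611321475846324011939173542018628580635522803883661600234525138861772665261807294799150649807274499 InLeaves (by decide +kernel)
    (Or.inr nd_r00000001100)
    (Or.inr nd_r00000001101)

theorem nd_r0000000111 : ∀ a ∈ dfsG okF addG tail10 155724840558247919832050739655402854748985010226928925560389522474150486952485109405112381306305229052435998179584 [], InLeaves a := by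
  intro a h
  rw [part28] at h
  exact List.mem_append_right leaves0 (List.mem_append_right leaves1 (List.mem_append_right leaves2 (List.mem_append_right leaves3 (List.mem_append_right leaves4 (List.mem_append_right leaves5 (List.mem_append_right leaves6 (List.mem_append_right leaves7 (List.mem_append_right leaves8 (List.mem_append_right leaves9 (List.mem_append_right leaves10 (List.mem_append_right leaves11 (List.mem_append_right leaves12 (List.mem_append_right leaves13 (List.mem_append_right leaves14 (List.mem_append_right leaves15 (List.mem_append_right leaves16 (List.mem_append_right leaves17 (List.mem_append_right leaves18 (List.mem_append_right leaves19 (List.mem_append_right leaves20 (List.mem_append_right leaves21 (List.mem_append_right leaves22 (List.mem_append_right leaves23 (List.mem_append_right leaves24 (List.mem_append_right leaves25 (List.mem_append_right leaves26 (List.mem_append_right leaves27 (List.mem_append_left _ h))))))))))))))))))))))))))))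

theorem nd_r000000011 : ∀ a ∈ dfsG okF addG tail9 78959734857354313657271739595517291138643491536063792690247019287656657070215355027479094008248043710311240202126083 [], InLeaves a :=
  dfsG_node okF addG tail9 st9 tail10 rfl 78959734857354313657271739595517291138643491536063792690247019287656657070215355027479094008248043710311240202126083 155724840558247919832050739655402854748985010226928925560389522474150486952485109405112381306305229052435998179584 InLeaves (by decide +kernel)
    (Or.inr nd_r0000000110)
    (Or.inr nd_r0000000111)

theorem nd_r00000001 : ∀ a ∈ dfsG okF addG tail8 78959133657903574553313520371587847668458348899760318833702823119022288792209957402111381510930642398201350270747395 [], InLeaves a :=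
  dfsG_node okF addG tail8 st8 tail9 rfl 78959133657903574553313520371587847668458348899760318833702823119022288792209957402111381510930642398201350270747395 78959734857354313657271739595517291138643491536063792690247019287656657070215355027479094008248043710311240202126083 InLeaves (by decide +kernel)
    (Or.inr nd_r000000010)
    (Or.inr nd_r000000011)

theorem nd_r0000000 : ∀ a ∈ dfsG okF addG tail7 0 [], InLeaves a :=
  dfsG_node okF addG tail7 st7 tail8 rfl 0 78959133657903574553313520371587847668458348899760318833702823119022288792209957402111381510930642398201350270747395 InLeaves (by decide +kernel)
    (Or.inr nd_r00000000)
    (Or.inr nd_r00000001)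

theorem nd_r0000001 : ∀ a ∈ dfsG okF addG tail7 10205119604893763771750714680447294731252807650136481142912566940256949433527442164554303388949248321283077734968525315 [], InLeaves a := by
  intro a h
  rw [part29] at h
  exact List.mem_append_right leaves0 (List.mem_append_right leaves1 (List.mem_append_right leaves2 (List.mem_append_right leaves3 (List.mem_append_right leaves4 (List.mem_append_right leaves5 (List.mem_append_right leaves6 (List.mem_append_right leaves7 (List.mem_append_right leaves8 (List.mem_append_right leaves9 (List.mem_append_right leaves10 (List.mem_append_right leaves11 (List.mem_append_right leaves12 (List.mem_append_right leaves13 (List.mem_append_right leaves14 (List.mem_append_right leaves15 (List.mem_append_right leaves16 (List.mem_append_right leaves17 (List.mem_append_right leaves18 (List.mem_append_right leaves19 (List.mem_append_right leaves20 (List.mem_append_right leaves21 (List.mem_append_right leaves22 (List.mem_append_right leaves23 (List.mem_append_right leaves24 (List.mem_append_right leaves25 (List.mem_append_right leaves26 (List.mem_append_right leaves27 (List.mem_append_right leaves28 (List.mem_append_left _ h)))))))))))))))))))))))))))))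

theorem nd_r000000 : ∀ a ∈ dfsG okF addG tail6 0 [], InLeaves a :=
  dfsG_node okF addG tail6 st6 tail7 rfl 0 10205119604893763771750714680447294731252807650136481142912566940256949433527442164554303388949248321283077734968525315 InLeaves (by decide +kernel)
    (Or.inr nd_r0000000)
    (Or.inr nd_r0000001)

theorem nd_r000001 : ∀ a ∈ dfsG okF addG tail6 2582289587921305915592018798313428852466261378408078971163607556020953993453423358989925124844039198882120080515448046083 [], InLeaves a := by
  intro a h
  rw [part30] at h
  exact List.mem_append_right leaves0 (List.mem_append_right leaves1 (List.mem_append_right leaves2 (List.mem_append_right leaves3 (List.mem_append_right leaves4 (List.mem_append_right leaves5 (List.mem_append_right leaves6 (List.mem_append_right leaves7 (List.mem_append_right leaves8 (List.mem_append_right leaves9 (List.mem_append_right leaves10 (List.mem_append_right leaves11 (List.mem_append_right leaves12 (List.mem_append_right leaves13 (List.mem_append_right leaves14 (List.mem_append_right leaves15 (List.mem_append_right leaves16 (List.mem_append_right leaves17 (List.mem_append_right leaves18 (List.mem_append_right leaves19 (List.mem_append_right leaves20 (List.mem_append_right leaves21 (List.mem_append_right leaves22 (List.mem_append_right leaves23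 (List.mem_append_right leaves24 (List.mem_append_right leaves25 (List.mem_append_right leaves26 (List.mem_append_right leaves27 (List.mem_append_right leaves28 (List.mem_append_right leaves29 (List.mem_append_left _ h))))))))))))))))))))))))))))))

theorem nd_r00000 : ∀ a ∈ dfsG okF addG tail5 0 [], InLeaves a :=
  dfsG_node okF addG tail5 st5 tail6 rfl 0 2582289587921305915592018798313428852466261378408078971163607556020953993453423358989925124844039198882120080515448046083 InLeaves (by decide +kernel)
    (Or.inr nd_r000000)
    (Or.inr nd_r000001)

theorem nd_r00001 : ∀ a ∈ dfsG okF addG tail5 661056008192259510779690079995301209216884158711320384527797699721968655211728257543974176332735408766817113294743128965122 [], InLeaves a := by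
  intro a h
  rw [part31] at h
  exact List.mem_append_right leaves0 (List.mem_append_right leaves1 (List.mem_append_right leaves2 (List.mem_append_right leaves3 (List.mem_append_right leaves4 (List.mem_append_right leaves5 (List.mem_append_right leaves6 (List.mem_append_right leaves7 (List.mem_append_right leaves8 (List.mem_append_right leaves9 (List.mem_append_right leaves10 (List.mem_append_right leaves11 (List.mem_append_right leaves12 (List.mem_append_right leaves13 (List.mem_append_right leaves14 (List.mem_append_right leaves15 (List.mem_append_right leaves16 (List.mem_append_right leaves17 (List.mem_append_right leaves18 (List.mem_append_right leaves19 (List.mem_append_right leaves20 (List.mem_append_right leaves21 (List.mem_append_right leaves22 (List.mem_append_right leaves23 (List.mem_append_right leaves24 (List.mem_append_right leaves25 (List.mem_append_right leaves26 (List.mem_append_right leaves27 (List.mem_append_right leaves28 (List.mem_append_right leaves29 (List.mem_append_right leaves30 (List.mem_append_left _ h)))))))))))))))))))))))))))))))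

theorem nd_r0000 : ∀ a ∈ dfsG okF addG tail4 0 [], InLeaves a :=
  dfsG_node okF addG tail4 st4 tail5 rfl 0 661056008192259510779690079995301209216884158711320384527797699721968655211728257543974176332735408766817113294743128965122 InLeaves (by decide +kernel)
    (Or.inr nd_r00000)
    (Or.inr nd_r00001)

theorem nd_r0001 : ∀ a ∈ dfsG okF addG tail4 170552460239918536842058571902959152868729455278858872313873775671384387652138366349901035770867035584176792149727805530177536 [], InLeaves a := by
  intro a h
  rw [part32] at h
  exact List.mem_append_right leaves0 (List.mem_append_right leaves1 (List.mem_append_right leaves2 (List.mem_append_right leaves3 (List.mem_append_right leaves4 (List.mem_append_right leaves5 (List.mem_append_right leaves6 (List.mem_append_right leaves7 (List.mem_append_right leaves8 (List.mem_append_right leaves9 (List.mem_append_right leaves10 (List.mem_append_right leaves11 (List.mem_append_right leaves12 (List.mem_append_right leaves13 (List.mem_append_right leaves14 (List.mem_append_right leaves15 (List.mem_append_right leaves16 (List.mem_append_right leaves17 (List.mem_append_right leaves18 (List.mem_append_right leaves19 (List.mem_append_right leaves20 (List.mem_append_right leaves21 (List.mem_append_right leaves22 (List.mem_append_right leaves23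 (List.mem_append_right leaves24 (List.mem_append_right leaves25 (List.mem_append_right leaves26 (List.mem_append_right leaves27 (List.mem_append_right leaves28 (List.mem_append_right leaves29 (List.mem_append_right leaves30 (List.mem_append_right leaves31 (List.mem_append_left _ h))))))))))))))))))))))))))))))))

theorem nd_r000 : ∀ a ∈ dfsG okF addG tail3 0 [], InLeaves a :=
  dfsG_node okF addG tail3 st3 tail4 rfl 0 170552460239918536842058571902959152868729455278858872313873775671384387652138366349901035770867035584176792149727805530177536 InLeaves (by decide +kernel)
    (Or.inr nd_r0000)
    (Or.inr nd_r0001)

theorem nd_r001 : ∀ a ∈ dfsG okF addG tail3 43322963970756246027702908191953331577393215280653787773669721726420965710472642718724707731121193446196108945713514655420318209 [], InLeaves a := by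
  intro a h
  rw [part33] at h
  exact List.mem_append_right leaves0 (List.mem_append_right leaves1 (List.mem_append_right leaves2 (List.mem_append_right leaves3 (List.mem_append_right leaves4 (List.mem_append_right leaves5 (List.mem_append_right leaves6 (List.mem_append_right leaves7 (List.mem_append_right leaves8 (List.mem_append_right leaves9 (List.mem_append_right leaves10 (List.mem_append_right leaves11 (List.mem_append_right leaves12 (List.mem_append_right leaves13 (List.mem_append_right leaves14 (List.mem_append_right leaves15 (List.mem_append_right leaves16 (List.mem_append_right leaves17 (List.mem_append_right leaves18 (List.mem_append_right leaves19 (List.mem_append_right leaves20 (List.mem_append_right leaves21 (List.mem_append_right leaves22 (List.mem_append_right leaves23 (List.mem_append_right leaves24 (List.mem_append_right leaves25 (List.mem_append_right leaves26 (List.mem_append_right leaves27 (List.mem_append_right leaves28 (List.mem_append_right leaves29 (List.mem_append_right leaves30 (List.mem_append_right leaves31 (List.mem_append_right leaves32 (List.mem_append_left _ h)))))))))))))))))))))))))))))))))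

theorem nd_r00 : ∀ a ∈ dfsG okF addG tail2 0 [], InLeaves a :=
  dfsG_node okF addG tail2 st2 tail3 rfl 0 43322963970756246027702908191953331577393215280653787773669721726420965710472642718724707731121193446196108945713514655420318209 InLeaves (by decide +kernel)
    (Or.inr nd_r000)
    (Or.inr nd_r001)

theorem nd_r0100 : ∀ a ∈ dfsG okF addG tail4 11090678776483298840324568564487633363303968218406745715965084388487308812732708753085177624812828124352823991261706523769286230528 [], InLeaves a := by
  intro a h
  rw [part34] at h
  exact List.mem_append_right leaves0 (List.mem_append_right leaves1 (List.mem_append_right leaves2 (List.mem_append_right leaves3 (List.mem_append_right leaves4 (List.mem_append_right leaves5 (List.mem_append_right leaves6 (List.mem_append_right leaves7 (List.mem_append_right leaves8 (List.mem_append_right leaves9 (List.mem_append_right leaves10 (List.mem_append_right leaves11 (List.mem_append_right leaves12 (List.mem_append_right leaves13 (List.mem_append_right leaves14 (List.mem_append_right leaves15 (List.mem_append_right leaves16 (List.mem_append_right leaves17 (List.mem_append_right leaves18 (List.mem_append_right leaves19 (List.mem_append_right leaves20 (List.mem_append_right leaves21 (List.mem_append_right leaves22 (List.mem_append_right leaves23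 (List.mem_append_right leaves24 (List.mem_append_right leaves25 (List.mem_append_right leaves26 (List.mem_append_right leaves27 (List.mem_append_right leaves28 (List.mem_append_right leaves29 (List.mem_append_right leaves30 (List.mem_append_right leaves31 (List.mem_append_right leaves32 (List.mem_append_right leaves33 (List.mem_append_left _ h))))))))))))))))))))))))))))))))))

theorem nd_r0101 : ∀ a ∈ dfsG okF addG tail4 11090849328943381150827194178271612595971458605550912969932191612722091862557720537786463396426308620125249541705945151472419275264 [], InLeaves a := by
  intro a h
  rw [part35] at h
  exact List.mem_append_right leaves0 (List.mem_append_right leaves1 (List.mem_append_right leaves2 (List.mem_append_right leaves3 (List.mem_append_right leaves4 (List.mem_append_right leaves5 (List.mem_append_right leaves6 (List.mem_append_right leaves7 (List.mem_append_right leaves8 (List.mem_append_right leaves9 (List.mem_append_right leaves10 (List.mem_append_right leaves11 (List.mem_append_right leaves12 (List.mem_append_right leaves13 (List.mem_append_right leaves14 (List.mem_append_right leaves15 (List.mem_append_right leaves16 (List.mem_append_right leaves17 (List.mem_append_right leaves18 (List.mem_append_right leaves19 (List.mem_append_right leaves20 (List.mem_append_right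 leaves21 (List.mem_append_right leaves22 (List.mem_append_right leaves23 (List.mem_append_right leaves24 (List.mem_append_right leaves25 (List.mem_append_right leaves26 (List.mem_append_right leaves27 (List.mem_append_right leaves28 (List.mem_append_right leaves29 (List.mem_append_right leaves30 (List.mem_append_right leaves31 (List.mem_append_right leaves32 (List.mem_append_right leaves33 (List.mem_append_right leaves34 (List.mem_append_left _ h)))))))))))))))))))))))))))))))))))

theorem nd_r010 : ∀ a ∈ dfsG okF addG tail3 11090678776483298840324568564487633363303968218406745715965084388487308812732708753085177624812828124352823991261706523769286230528 [], InLeaves a :=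
  dfsG_node okF addG tail3 st3 tail4 rfl 11090678776483298840324568564487633363303968218406745715965084388487308812732708753085177624812828124352823991261706523769286230528 11090849328943381150827194178271612595971458605550912969932191612722091862557720537786463396426308620125249541705945151472419275264 InLeaves (by decide +kernel)
    (Or.inr nd_r0100)
    (Or.inr nd_r0101)

theorem nd_r011 : ∀ a ∈ dfsG okF addG tail3 11134001740453897478327449198784881704201977642032604080456104986972440466768667019527942100759639372917645196241321892699011416065 [], InLeaves a := by
  intro a h
  rw [part36] at h
  exact List.mem_append_right leaves0 (List.mem_append_right leaves1 (List.mem_append_right leaves2 (List.mem_append_right leaves3 (List.mem_append_right leaves4 (List.mem_append_right leaves5 (List.mem_append_right leaves6 (List.mem_append_right leaves7 (List.mem_append_right leaves8 (List.mem_append_right leaves9 (List.mem_append_right leaves10 (List.mem_append_right leaves11 (List.mem_append_right leaves12 (List.mem_append_right leaves13 (List.mem_append_right leaves14 (List.mem_append_right leaves15 (List.mem_append_right leaves16 (List.mem_append_right leaves17 (List.mem_append_right leaves18 (List.mem_append_right leaves19 (List.mem_append_right leaves20 (List.mem_append_right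 leaves21 (List.mem_append_right leaves22 (List.mem_append_right leaves23 (List.mem_append_right leaves24 (List.mem_append_right leaves25 (List.mem_append_right leaves26 (List.mem_append_right leaves27 (List.mem_append_right leaves28 (List.mem_append_right leaves29 (List.mem_append_right leaves30 (List.mem_append_right leaves31 (List.mem_append_right leaves32 (List.mem_append_right leaves33 (List.mem_append_right leaves34 (List.mem_append_right leaves35 (List.mem_append_left _ h))))))))))))))))))))))))))))))))))))

theorem nd_r01 : ∀ a ∈ dfsG okF addG tail2 11090678776483298840324568564487633363303968218406745715965084388487308812732708753085177624812828124352823991261706523769286230528 [], InLeaves a :=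
  dfsG_node okF addG tail2 st2 tail3 rfl 11090678776483298840324568564487633363303968218406745715965084388487308812732708753085177624812828124352823991261706523769286230528 11134001740453897478327449198784881704201977642032604080456104986972440466768667019527942100759639372917645196241321892699011416065 InLeaves (by decide +kernel)
    (Or.inr nd_r010)
    (Or.inr nd_r011)

theorem nd_r0 : ∀ a ∈ dfsG okF addG tail1 0 [], InLeaves a :=
  dfsG_node okF addG tail1 st1 tail2 rfl 0 11090678776483298840324568564487633363303968218406745715965084388487308812732708753085177624812828124352823991261706523769286230528 InLeaves (by decide +kernel)
    (Or.inr nd_r00)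
    (Or.inr nd_r01)

theorem nd_r100 : ∀ a ∈ dfsG okF addG tail3 2839213766779734708242694427780853346025399246822130591575083950228851093886211981152069417098557441444700784226653178495237590352387 [], InLeaves a := by
  intro a h
  rw [part37] at h
  exact List.mem_append_right leaves0 (List.mem_append_right leaves1 (List.mem_append_right leaves2 (List.mem_append_right leaves3 (List.mem_append_right leaves4 (List.mem_append_right leaves5 (List.mem_append_right leaves6 (List.mem_append_right leaves7 (List.mem_append_right leaves8 (List.mem_append_right leaves9 (List.mem_append_right leaves10 (List.mem_append_right leaves11 (List.mem_append_right leaves12 (List.mem_append_right leaves13 (List.mem_append_right leaves14 (List.mem_append_right leaves15 (List.mem_append_right leaves16 (List.mem_append_right leaves17 (List.mem_append_right leaves18 (List.mem_append_right leaves19 (List.mem_append_right leaves20 (List.mem_append_right leaves21 (List.mem_append_right leaves22 (List.mem_append_right leaves23 (List.mem_append_right leaves24 (List.mem_append_right leaves25 (List.mem_append_right leaves26 (List.mem_append_right leaves27 (List.mem_append_right leaves28 (List.mem_append_right leaves29 (List.mem_append_right leaves30 (List.mem_append_right leaves31 (List.mem_append_right leaves32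 (List.mem_append_right leaves33 (List.mem_append_right leaves34 (List.mem_append_right leaves35 (List.mem_append_right leaves36 (List.mem_append_left _ h)))))))))))))))))))))))))))))))))))))

theorem nd_r101 : ∀ a ∈ dfsG okF addG tail3 2839257089743705306880697308415150594399541174120571533910556754036333746227038712811229115645302158358028064080834971993228322078720 [], InLeaves a := by
  intro a h
  rw [part38] at h
  exact List.mem_append_right leaves0 (List.mem_append_right leaves1 (List.mem_append_right leaves2 (List.mem_append_right leaves3 (List.mem_append_right leaves4 (List.mem_append_right leaves5 (List.mem_append_right leaves6 (List.mem_append_right leaves7 (List.mem_append_right leaves8 (List.mem_append_right leaves9 (List.mem_append_right leaves10 (List.mem_append_right leaves11 (List.mem_append_right leaves12 (List.mem_append_right leaves13 (List.mem_append_right leaves14 (List.mem_append_right leaves15 (List.mem_append_right leaves16 (List.mem_append_right leaves17 (List.mem_append_right leaves18 (List.mem_append_right leaves19 (List.mem_append_right leaves20 (List.mem_append_right leaves21 (List.mem_append_right leaves22 (List.mem_append_right leaves23 (List.mem_append_right leaves24 (List.mem_append_right leaves25 (List.mem_append_right leaves26 (List.mem_append_right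 leaves27 (List.mem_append_right leaves28 (List.mem_append_right leaves29 (List.mem_append_right leaves30 (List.mem_append_right leaves31 (List.mem_append_right leaves32 (List.mem_append_right leaves33 (List.mem_append_right leaves34 (List.mem_append_right leaves35 (List.mem_append_right leaves36 (List.mem_append_right leaves37 (List.mem_append_left _ h))))))))))))))))))))))))))))))))))))))

theorem nd_r10 : ∀ a ∈ dfsG okF addG tail2 2839213766779734708242694427780853346025399246822130591575083950228851093886211981152069417098557441444700784226653178495237590352387 [], InLeaves a :=
  dfsG_node okF addG tail2 st2 tail3 rfl 2839213766779734708242694427780853346025399246822130591575083950228851093886211981152069417098557441444700784226653178495237590352387 2839257089743705306880697308415150594399541174120571533910556754036333746227038712811229115645302158358028064080834971993228322078720 InLeaves (by decide +kernel)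
    (Or.inr nd_r100)
    (Or.inr nd_r101)

theorem nd_r11 : ∀ a ∈ dfsG okF addG tail2 2850304445556217849474984816597090847688906473523999792981753037108107527498448218737781138365410737701351360903312349225865185394691 [], InLeaves a := by
  intro a h
  rw [part39] at h
  exact List.mem_append_right leaves0 (List.mem_append_right leaves1 (List.mem_append_right leaves2 (List.mem_append_right leaves3 (List.mem_append_right leaves4 (List.mem_append_right leaves5 (List.mem_append_right leaves6 (List.mem_append_right leaves7 (List.mem_append_right leaves8 (List.mem_append_right leaves9 (List.mem_append_right leaves10 (List.mem_append_right leaves11 (List.mem_append_right leaves12 (List.mem_append_right leaves13 (List.mem_append_right leaves14 (List.mem_append_right leaves15 (List.mem_append_right leaves16 (List.mem_append_right leaves17 (List.mem_append_right leaves18 (List.mem_append_right leaves19 (List.mem_append_right leaves20 (List.mem_append_right leaves21 (List.mem_append_right leaves22 (List.mem_append_right leaves23 (List.mem_append_right leaves24 (List.mem_append_right leaves25 (List.mem_append_right leaves26 (List.mem_append_right leaves27 (List.mem_append_right leaves28 (List.mem_append_right leaves29 (List.mem_append_right leaves30 (List.mem_append_right leaves31 (List.mem_append_right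 leaves32 (List.mem_append_right leaves33 (List.mem_append_right leaves34 (List.mem_append_right leaves35 (List.mem_append_right leaves36 (List.mem_append_right leaves37 (List.mem_append_right leaves38 (h)))))))))))))))))))))))))))))))))))))))

theorem nd_r1 : ∀ a ∈ dfsG okF addG tail1 2839213766779734708242694427780853346025399246822130591575083950228851093886211981152069417098557441444700784226653178495237590352387 [], InLeaves a :=
  dfsG_node okF addG tail1 st1 tail2 rfl 2839213766779734708242694427780853346025399246822130591575083950228851093886211981152069417098557441444700784226653178495237590352387 2850304445556217849474984816597090847688906473523999792981753037108107527498448218737781138365410737701351360903312349225865185394691 InLeaves (by decide +kernel)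
    (Or.inr nd_r10)
    (Or.inr nd_r11)

theorem nd_r : ∀ a ∈ dfsG okF addG tail0 0 [], InLeaves a :=
  dfsG_node okF addG tail0 st0 tail1 rfl 0 2839213766779734708242694427780853346025399246822130591575083950228851093886211981152069417098557441444700784226653178495237590352387 InLeaves (by decide +kernel)
    (Or.inr nd_r0)
    (Or.inr nd_r1)

/-- every final state of the search is in the list -/
theorem dfs_all : ∀ a ∈ dfsG okF addG stepsAll 0 [], InLeaves a := nd_r

end Cfsg.Agent.Lib.Helper8.Ru2
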