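import Cfsg.Agent.Lib.Helper8.Ru2.MinVec
import Cfsg.Agent.Lib.Helper8.Ru2.DfsTree

/-!
The vectors of norm 16 of the Rudvalis lattice with given Hermitian products with some explicit vectors,
read off from the list of all residues modulo 4. (helper8)
-/

set_option autoImplicit false

namespace Cfsg.Agent.Lib.Helper8.Ru2

open Cfsg.Spor Cfsg.Agent.Lib.Helper8.RuLat

set_option maxRecDepth 1000000 in
theorem leaves_ok : ∀ X ∈ leavesAll, leafOK X = true := by
  decide +kernel

/-- the residues of a vector of norm 16 of the lattice are in the list -/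
theorem code_mem_leaves {x : RuVec} (hx : x ∈ ruLattice) (hn : ruNorm x = 16) : code x ∈ leavesAll :=
  dfs_all _ (code_mem_dfs (ruLattice_le_ruM hx) hn)

/-- the real part of the Hermitian product of the vector with a given code and an explicit vector -/
def dotP (Y : ℕ) (b : RuVec) : ℤ := ∑ r : Fin 64, sg (dig Y r) * rc b r

/-- one condition on a Hermitian product -/
def condOK (Y : ℕ) (bc : RuVec × GaussianInt) : Bool :=
  dotP Y bc.1 == bc.2.re && dotP Y (gI • bc.1) == bc.2.im

/-- the conditions on a candidate: its first entry and some Hermitian products -/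
def pred (a0 a1 : ℕ) (conds : List (RuVec × GaussianInt)) (Y : ℕ) : Bool :=
  dig Y 0 == a0 && (dig Y 1 == a1 && conds.all (condOK Y))

theorem re_herm_gI (y b : RuVec) : (herm y (gI • b)).re = (herm y b).im := by
  rw [herm_smul_right, star_gI]
  simp [gI]

theorem cand {y : RuVec} (hy : y ∈ ruLattice) (hn : ruNorm y = 16) (a0 a1 : ℕ)
    (h0 : dig (code y) 0 = a0) (h1 : dig (code y) 1 = a1) (hodd : a0 ≠ 0 ∨ a1 ≠ 0)
    (conds : List (RuVec × GaussianInt)) (hc : ∀ bc ∈ conds, herm y bc.1 = bc.2) :
    code y ∈ leavesAll.filter (pred a0 a1 conds) ∧ ∀ r, rc y r = sg (dig (code y) r) := by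
  have hmem := code_mem_leaves hy hn
  have hne : code y ≠ 0 := by
    rcases hodd with h | h
    · exact code_ne_zero_of_dig 0 (by rw [h0]; exact h)
    · exact code_ne_zero_of_dig 1 (by rw [h1]; exact h)
  have hunit := unit_of_code hn (leaves_ok _ hmem) hne
  refine ⟨List.mem_filter.2 ⟨hmem, ?_⟩, hunit⟩
  have hdot : ∀ b : RuVec, dotP (code y) b = (herm y b).re := by
    intro b
    rw [re_herm_rc]
    unfold dotP
    refine Finset.sum_congr rfl fun r _ => ?_
    rw [hunit r]
  unfold pred
  rw [h0, h1]
  simp only [beq_self_eq_true, Bool.true_and, List.all_eq_true]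
  intro bc hbc
  unfold condOK
  rw [hdot, hdot, re_herm_gI, hc bc hbc]
  simp

end Cfsg.Agent.Lib.Helper8.Ru2
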