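import Cfsg.Agent.Lib.Helper8.Ru2.Cand

/-!
Hermitian products with explicit vectors, computed on the packed residues: the norm of the sum. (helper8)
-/

set_option autoImplicit false

namespace Cfsg.Agent.Lib.Helper8.Ru2

open Cfsg.Spor Cfsg.Agent.Lib.Helper8.RuLat

/-- the step that computes the norm of a vector with small coordinates -/
def sFull : Step := ⟨0, 0, ONES, 2 * ONES, 72⟩

theorem sFull_ok : StepOK sFull := by decide +kernel

theorem dig_zero (r : Fin 64) : dig 0 r = 0 := by
  unfold dig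
  simp

theorem ONES_pad : ∀ r : Fin 64, dig ONES r = 0 → 56 ≤ r.val := by decide

theorem ONES_sum : ∑ r : Fin 64, dig ONES r = 56 := by decide +kernel

theorem w2_sq (z : ℤ) (h1 : -2 ≤ z) (h2 : z ≤ 2) : ((w2 ((z % 4).toNat) : ℕ) : ℤ) = z * z := by
  interval_cases z <;> decide

/-- the packed computation of the norm -/
theorem lbF_sFull (z : RuVec) (hz : ∀ r, -2 ≤ rc z r ∧ rc z r ≤ 2) (hn : ruNorm z ≤ 199) :
    (lbF sFull (code z) : ℤ) = ruNorm z + 56 := by
  have key : ∀ r : Fin 64, ((dig sFull.k1 r * ((rc z r % 4).toNat % 2) +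
      dig sFull.k2a r * (w2 ((rc z r % 4).toNat) + 1) : ℕ) : ℤ) = rc z r * rc z r + (dig ONES r : ℕ) := by
    intro r
    have e1 : dig sFull.k1 r = 0 := dig_zero r
    have e2 : dig sFull.k2a r = dig ONES r := rfl
    rw [e1, e2, zero_mul, zero_add]
    have h1 : dig ONES r ≤ 1 := dig_ONES_le r
    rcases Nat.eq_zero_or_pos (dig ONES r) with h | h
    · rw [h, zero_mul, rc_pad z r (ONES_pad r h)]
      simp
    · have h' : dig ONES r = 1 := by omega
      rw [h', one_mul]
      push_cast
      rw [w2_sq _ (hz r).1 (hz r).2]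
  have hsum : ((∑ r : Fin 64, (dig sFull.k1 r * ((rc z r % 4).toNat % 2) +
      dig sFull.k2a r * (w2 ((rc z r % 4).toNat) + 1)) : ℕ) : ℤ) = ruNorm z + 56 := by
    rw [Nat.cast_sum, Finset.sum_congr rfl fun r _ => key r, Finset.sum_add_distrib, ← ruNorm_rc,
      ← Nat.cast_sum, ONES_sum]
    rfl
  have hnn : 0 ≤ ruNorm z := by
    rw [ruNorm_rc]
    exact Finset.sum_nonneg fun r _ => mul_self_nonneg _
  have hlt : ∑ r : Fin 64, (dig sFull.k1 r * ((rc z r % 4).toNat % 2) +
      dig sFull.k2a r * (w2 ((rc z r % 4).toNat) + 1)) < 256 := by omega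
  have h := lbF_pk sFull sFull_ok (fun r => (rc z r % 4).toNat) (fun r => res_lt _) hlt
  rw [show code z = pk 64 (fun r => (rc z r % 4).toNat) from rfl, h, hsum]

/-- the residues of a sum -/
theorem code_add (y b : RuVec) : code (y + b) = addG (code y) (code b) := by
  unfold code
  rw [addG_pk _ _ (fun r => res_lt _) (fun r => res_lt _)]
  apply pk_congr
  intro r
  have : rc (y + b) r = rc y r + rc b r := rcN_add y b r.val
  rw [this]
  omega

/-- one condition: the packed residues of an explicit vector and 88 plus twice the real part of the product -/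
noncomputable def condP (Y : ℕ) (c : ℕ × ℕ) : Bool := Nat.beq (lbF sFull (addG Y c.1)) c.2

/-- the conditions on a candidate: its first entry and some Hermitian products -/
noncomputable def predP (val : ℕ) (conds : List (ℕ × ℕ)) (Y : ℕ) : Bool :=
  and (Nat.beq (Nat.land Y 65535) val) (conds.all (condP Y))

theorem land_two_bytes (X : ℕ) : Nat.land X 65535 = dig X 0 + 256 * dig X 1 := by
  have h : Nat.land X 65535 = X % 65536 := Nat.and_two_pow_sub_one_eq_mod X 16
  rw [h]
  unfold dig
  simp only [Fin.val_zero, pow_zero, Nat.div_one, Fin.val_one, pow_one]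
  omega

theorem sg_bound (a : ℕ) : -1 ≤ sg a ∧ sg a ≤ 1 := by
  unfold sg
  split_ifs <;> constructor <;> decide

theorem candP {y : RuVec} (hy : y ∈ ruLattice) (hn : ruNorm y = 16) (a0 a1 val : ℕ)
    (h0 : dig (code y) 0 = a0) (h1 : dig (code y) 1 = a1) (hval : val = a0 + 256 * a1)
    (hodd : a0 ≠ 0 ∨ a1 ≠ 0) (conds : List (ℕ × ℕ))
    (hc : ∀ c ∈ conds, ∃ b : RuVec, code b = c.1 ∧ (∀ r, -1 ≤ rc b r ∧ rc b r ≤ 1) ∧ ruNorm b = 16 ∧
      (c.2 : ℤ) = 88 + 2 * (herm y b).re) :
    code y ∈ leavesAll.filter (predP val conds) ∧ ∀ r, rc y r = sg (dig (code y) r) := by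
  have hmem := code_mem_leaves hy hn
  have hne : code y ≠ 0 := by
    rcases hodd with h | h
    · exact code_ne_zero_of_dig 0 (by rw [h0]; exact h)
    · exact code_ne_zero_of_dig 1 (by rw [h1]; exact h)
  have hunit := unit_of_code hn (leaves_ok _ hmem) hne
  refine ⟨List.mem_filter.2 ⟨hmem, ?_⟩, hunit⟩
  unfold predP
  rw [land_two_bytes, h0, h1, ← hval]
  have hbeq : Nat.beq val val = true := Nat.beq_refl val
  rw [hbeq, Bool.true_and, List.all_eq_true]
  intro c hcm
  obtain ⟨b, hB, hb1, hbn, hval⟩ := hc c hcm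
  unfold condP
  suffices hsuff : lbF sFull (addG (code y) c.1) = c.2 by
    rw [hsuff]
    exact Nat.beq_refl _
  rw [← hB, ← code_add]
  have hz : ∀ r, -2 ≤ rc (y + b) r ∧ rc (y + b) r ≤ 2 := by
    intro r
    have e : rc (y + b) r = rc y r + rc b r := rcN_add y b r.val
    have h2 := sg_bound (dig (code y) r)
    rw [← hunit r] at h2
    have h3 := hb1 r
    rw [e]
    omega
  have hnorm : ruNorm (y + b) = 32 + 2 * (herm y b).re := by
    rw [ruNorm_add, hn, hbn]
    norm_num
  have h := lbF_sFull (y + b) hz (by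
    rw [hnorm]
    have : (c.2 : ℤ) ≤ 255 ∨ 255 < (c.2 : ℤ) := le_or_gt _ _
    have hre : (herm y b).re ≤ 16 := by
      by_contra hcon
      have hcs : 0 ≤ ruNorm (y - b) := by
        rw [ruNorm_rc]
        exact Finset.sum_nonneg fun r _ => mul_self_nonneg _
      rw [sub_eq_add_neg, ruNorm_add, ruNorm_neg, herm_neg_right, hn, hbn] at hcs
      simp only [Zsqrtd.re_neg] at hcs
      omega
    omega)
  rw [hnorm] at h
  have : (lbF sFull (code (y + b)) : ℤ) = (c.2 : ℤ) := by rw [h, hval]; ring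
  exact_mod_cast this

end Cfsg.Agent.Lib.Helper8.Ru2
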