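import Cfsg.Agent.Lib.Helper8.Ru2.Cand2

/-! The candidates for the images of the vectors of the chain, part 0 (generated). (helper8) -/

set_option autoImplicit false

namespace Cfsg.Agent.Lib.Helper8.Ru2

set_option maxRecDepth 1000000 in
theorem filt1 : (leavesAll.filter (predP 1 [])).length = 2304 := by
  decide +kernel

set_option maxRecDepth 1000000 in
theorem filt2 : (leavesAll.filter (predP 768 [(97778224210146321334605818730260118812877848595657285361025437449294887246028553370931888129, 88), (25031225397774692726368641776568886110251878068943774316709297895819745065493469214974893097216, 96)])).length = 78 := by
  decide +kernel

set_option maxRecDepth 1000000 in
theorem filt3 : (leavesAll.filter (predP 256 [(97778224210146321334605818730260118812877848595657285361025437449294887246028553370931888129, 88), (25031225397774692726368641776568886110251878068943774316709297895819745065493469214974893097216, 80), (32593072952265665857049545956852071274680627559244404636090783076453890632115705204634026752, 88), (8343826675757244924110702198526975843789853466884716020419940040048693898388184086202602946561, 88)])).length = 25 := by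
  decide +kernel

set_option maxRecDepth 1000000 in
theorem filt4 : (leavesAll.filter (predP 768 [(97778224210146321334605818730260118812877848595657285361025437449294887246028553370931888129, 88), (25031225397774692726368641776568886110251878068943774316709297895819745065493469214974893097216, 80), (32593072952265665857049545956852071274680627559244404636090783076453890632115705204634026752, 88), (8343826675757244924110702198526975843789853466884716020419940040048693898388184086202602946561, 80), (32593072952265665857049545956852071274489062705050874728073098497279797380588184909541015808, 80), (8343826675757244924110702198526975843740812861288124487815209890126473289091133503517952638979, 88)])).length = 8 := by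
  decide +kernel

end Cfsg.Agent.Lib.Helper8.Ru2
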