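import Cfsg.Agent.Lib.Helper8.Ru2.ChainData

/-!
The 28 vectors of the stabiliser chain: the checks of the data, and the candidates for their images. (helper8)
-/

set_option autoImplicit false

namespace Cfsg.Agent.Lib.Helper8.Ru2

open Cfsg.Spor Cfsg.Agent.Lib.Helper8.RuLat

set_option maxRecDepth 1000000 in
theorem wv_div4 : ∀ (j : Fin 28) (l : Fin 19),
    (4 : ℤ) ∣ (herm (wv j) (ruB l)).re ∧ (4 : ℤ) ∣ (herm (wv j) (ruB l)).im := by
  decide +kernel

theorem wv_mem (j : Fin 28) : wv j ∈ ruLattice :=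
  (mem_ruLattice_iff _).2 fun l => (four_dvd_iff _).2 (wv_div4 j l)

/-- the 28 vectors, in the lattice -/
def wL (j : Fin 28) : ruLattice := ⟨wv j, wv_mem j⟩

set_option maxRecDepth 1000000 in
theorem wv_norm : ∀ j, ruNorm (wv j) = 16 := by
  decide +kernel

set_option maxRecDepth 1000000 in
theorem wv_zero : ∀ p, wv 0 p = e0 p := by
  decide +kernel

theorem wL_zero : wL 0 = e0L := Subtype.ext (funext wv_zero)

set_option maxRecDepth 1000000 in
theorem wv_rc : ∀ (j : Fin 28) (r : Fin 64), 1 ≤ j.val → rc (wv j) r = sg (dig (kW j) r) := by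
  decide +kernel

set_option maxRecDepth 1000000 in
theorem wv_val : ∀ j : Fin 28,
    valT j = ((wv j (0, 0)).re % 4).toNat + 256 * ((wv j (0, 0)).im % 4).toNat := by
  decide +kernel

set_option maxRecDepth 1000000 in
theorem wv_odd : ∀ j : Fin 28, 1 ≤ j.val →
    ((wv j (0, 0)).re % 4).toNat ≠ 0 ∨ ((wv j (0, 0)).im % 4).toNat ≠ 0 := by
  decide +kernel

theorem half_lt (k : Fin 8) : k.val / 2 + 1 < 28 := by
  have := k.isLt
  omega

/-- the vectors 1 to 4 and their multiples by `i` -/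
def bB (k : Fin 8) : RuVec :=
  if k.val % 2 = 0 then wv ⟨k.val / 2 + 1, half_lt k⟩ else gI • wv ⟨k.val / 2 + 1, half_lt k⟩

/-- the vectors 1 to 4 and their multiples by `i`, in the lattice -/
def bBL (k : Fin 8) : ruLattice :=
  if k.val % 2 = 0 then wL ⟨k.val / 2 + 1, half_lt k⟩ else ruI (wL ⟨k.val / 2 + 1, half_lt k⟩)

theorem bBL_coe (k : Fin 8) : ((bBL k : ruLattice) : RuVec) = bB k := by
  unfold bBL bB
  split_ifs <;> rfl

set_option maxRecDepth 1000000 in
theorem bB_code : ∀ k, code (bB k) = kB k := by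
  decide +kernel

set_option maxRecDepth 1000000 in
theorem bB_small : ∀ k r, -1 ≤ rc (bB k) r ∧ rc (bB k) r ≤ 1 := by
  decide +kernel

set_option maxRecDepth 1000000 in
theorem bB_norm : ∀ k, ruNorm (bB k) = 16 := by
  decide +kernel

set_option maxRecDepth 1000000 in
theorem nT_ok : ∀ (j : Fin 28) (k : Fin 8), (nT j k : ℤ) = 88 + 2 * (herm (wv j) (bB k)).re := by
  decide +kernel

/-- the conditions for the image of the `j`-th vector under the stabiliser of the first `m / 2` vectors -/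
def condsT (j : Fin 28) (m : ℕ) : List (ℕ × ℕ) :=
  ((List.finRange 8).filter (fun k => decide (k.val < m))).map (fun k => (kB k, nT j k))

/-- the candidates for the image of the `j`-th vector -/
theorem level_cand (j : Fin 28) (hj : 1 ≤ j.val) (m : ℕ) (g : fourRu) (hg0 : g.1 e0L = e0L)
    (hfix : ∀ k : Fin 8, k.val < m → g.1 (bBL k) = bBL k) :
    g.1 (wL j) ∈ Tcode (leavesAll.filter (predP (valT j) (condsT j m))) := by
  refine orbit_cand g hg0 (wL j) (wv_norm j) _ _ (valT j) rfl rfl (wv_val j) (wv_odd j hj) (condsT j m) ?_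
  intro c hc
  unfold condsT at hc
  rw [List.mem_map] at hc
  obtain ⟨k, hk, rfl⟩ := hc
  have hkm : k.val < m := by simpa using (List.mem_filter.1 hk).2
  refine ⟨bBL k, hfix k hkm, ?_, ?_, ?_, ?_⟩
  · rw [bBL_coe]
    exact bB_code k
  · intro r
    rw [bBL_coe]
    exact bB_small k r
  · rw [bBL_coe]
    exact bB_norm k
  · rw [bBL_coe]
    exact nT_ok j k

/-- an automorphism fixing the vectors 1 to `i` fixes their multiples by `i` -/
theorem fix_bBL (g : fourRu) (i : ℕ) (h : ∀ t : Fin 28, 1 ≤ t.val → t.val ≤ i → g.1 (wL t) = wL t)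
    (k : Fin 8) (hk : k.val < 2 * i) : g.1 (bBL k) = bBL k := by
  unfold bBL
  have h1 := h ⟨k.val / 2 + 1, half_lt k⟩ (by simp) (by simp only; omega)
  split_ifs
  · exact h1
  · exact fix_ruI g _ h1

end Cfsg.Agent.Lib.Helper8.Ru2
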