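import Cfsg.Agent.Lib.Helper8.Ru2.Final
import Cfsg.Prelude.Def_KGroupFacts

/-!
The commutator subgroup of the automorphism group of the Rudvalis lattice is a perfect central extension of
`Ru`; its kernel contains minus the identity. So `Ru` has a finite stem extension with a kernel of order at
least 2, and the Schur multiplier of `Ru` is cyclic of order 2 as soon as the kernels of the finite stem
extensions of `Ru` are images of the cyclic group of order 2. (helper8)
-/

set_option autoImplicit false

namespace Cfsg.Agent.Lib.Helper8.Ru2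

open Cfsg Cfsg.Spor Cfsg.Agent.Lib.Helper8.RuLat Cfsg.Agent.Lib.Helper6.RuSub Cfsg.Agent.Lib.Helper6
open scoped commutatorElement

theorem finite_fourRu : Finite fourRu := fourRu_card_le.1

theorem ru_not_comm : ¬ ∀ a b : Ru, a * b = b * a := by
  intro h
  have hf : Finite fourRu := finite_fourRu
  let _ : CommGroup Ru := { (inferInstance : Group Ru) with mul_comm := h }
  have hs : IsSimpleGroup Ru := ru_simple
  have hp := IsSimpleGroup.prime_card (α := Ru)
  rw [card_facts.2] at hp
  norm_num at hp

theorem ru_perfect : commutator Ru = ⊤ := by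
  have hs : IsSimpleGroup Ru := ru_simple
  have hn : (commutator Ru).Normal := by
    rw [commutator_def]
    infer_instance
  rcases hn.eq_bot_or_eq_top with h | h
  · exfalso
    apply ru_not_comm
    intro a b
    have h1 : a * b * a⁻¹ * b⁻¹ ∈ commutator Ru := by
      rw [commutator_def, ← commutatorElement_def]
      exact Subgroup.commutator_mem_commutator (Subgroup.mem_top a) (Subgroup.mem_top b)
    rw [h, Subgroup.mem_bot] at h1
    calc a * b = (a * b * a⁻¹ * b⁻¹) * (b * a) := by group
      _ = b * a := by rw [h1, one_mul]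
  · exact h

/-- the projection of the commutator subgroup of the automorphism group onto `Ru` -/
def covHom : commutator fourRu →* Ru :=
  (QuotientGroup.mk' (Subgroup.center fourRu)).comp (commutator fourRu).subtype

theorem covHom_apply (γ : commutator fourRu) : covHom γ = QuotientGroup.mk (γ : fourRu) := rfl

theorem covHom_surjective : Function.Surjective covHom := by
  intro r
  have h : r ∈ (commutator fourRu).map (QuotientGroup.mk' (Subgroup.center fourRu)) := by
    rw [commutator_def, Subgroup.map_commutator, ← MonoidHom.range_eq_map,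
      MonoidHom.range_eq_top.2 (QuotientGroup.mk'_surjective _), ← commutator_def, ru_perfect]
    exact Subgroup.mem_top _
  obtain ⟨γ, hγ, rfl⟩ := h
  exact ⟨⟨γ, hγ⟩, rfl⟩

/-- every automorphism is a scalar times an element of the commutator subgroup -/
theorem exists_center_mul (f : fourRu) : ∃ z ∈ Subgroup.center fourRu, ∃ γ ∈ commutator fourRu, f = z * γ := by
  obtain ⟨γ, hγ⟩ := covHom_surjective (QuotientGroup.mk f)
  rw [covHom_apply] at hγ
  have h1 : (γ : fourRu)⁻¹ * f ∈ Subgroup.center fourRu := QuotientGroup.eq.1 hγ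
  refine ⟨(γ : fourRu)⁻¹ * f, h1, γ, γ.2, ?_⟩
  have hc := Subgroup.mem_center_iff.1 h1 (γ : fourRu)
  rw [← hc]
  group

theorem comm_center_left {G : Type*} [Group G] {z : G} (hz : z ∈ Subgroup.center G) (g h : G) :
    ⁅z * g, h⁆ = ⁅g, h⁆ := by
  have hc : z * (g * h * g⁻¹) = g * h * g⁻¹ * z := (Subgroup.mem_center_iff.1 hz _).symm
  rw [commutatorElement_def, commutatorElement_def]
  calc z * g * h * (z * g)⁻¹ * h⁻¹ = z * (g * h * g⁻¹) * z⁻¹ * h⁻¹ := by group
    _ = g * h * g⁻¹ * z * z⁻¹ * h⁻¹ := by rw [hc]
    _ = g * h * g⁻¹ * h⁻¹ := by group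

theorem comm_center_right {G : Type*} [Group G] {z : G} (hz : z ∈ Subgroup.center G) (g h : G) :
    ⁅g, z * h⁆ = ⁅g, h⁆ := by
  have hc : g * z = z * g := Subgroup.mem_center_iff.1 hz g
  have hc2 : z * (g * h * g⁻¹ * h⁻¹) = g * h * g⁻¹ * h⁻¹ * z := (Subgroup.mem_center_iff.1 hz _).symm
  rw [commutatorElement_def, commutatorElement_def]
  calc g * (z * h) * g⁻¹ * (z * h)⁻¹ = g * z * h * g⁻¹ * h⁻¹ * z⁻¹ := by group
    _ = z * g * h * g⁻¹ * h⁻¹ * z⁻¹ := by rw [hc]
    _ = z * (g * h * g⁻¹ * h⁻¹) * z⁻¹ := by group
    _ = g * h * g⁻¹ * h⁻¹ * z * z⁻¹ := by rw [hc2]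
    _ = g * h * g⁻¹ * h⁻¹ := by group

theorem comm_self : ⁅commutator fourRu, commutator fourRu⁆ = commutator fourRu := by
  apply le_antisymm
  · rw [commutator_def]
    exact Subgroup.commutator_mono le_top le_top
  · rw [commutator_def, Subgroup.commutator_le]
    intro f1 _ f2 _
    obtain ⟨z1, hz1, γ1, hγ1, rfl⟩ := exists_center_mul f1
    obtain ⟨z2, hz2, γ2, hγ2, rfl⟩ := exists_center_mul f2
    rw [comm_center_left hz1, comm_center_right hz2, ← commutator_def]
    exact Subgroup.commutator_mem_commutator hγ1 hγ2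

/-- the commutator subgroup is perfect -/
theorem gam_perfect : commutator (commutator fourRu) = ⊤ := by
  have h := Subgroup.map_subtype_commutator (commutator fourRu)
  rw [comm_self] at h
  apply Subgroup.map_injective (commutator fourRu).subtype_injective
  rw [h, ← MonoidHom.range_eq_map, Subgroup.range_subtype]

theorem covHom_ker_le_center : covHom.ker ≤ Subgroup.center (commutator fourRu) := by
  intro γ hγ
  rw [MonoidHom.mem_ker, covHom_apply] at hγ
  have hz : (γ : fourRu) ∈ Subgroup.center fourRu := (QuotientGroup.eq_one_iff _).1 hγ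
  rw [Subgroup.mem_center_iff]
  intro δ
  apply Subtype.ext
  exact Subgroup.mem_center_iff.1 hz δ.1

/-- the commutator subgroup of the automorphism group is a stem extension of `Ru` -/
theorem covHom_stem : IsStemExtension covHom :=
  ⟨covHom_surjective, covHom_ker_le_center, by rw [gam_perfect]; exact le_top⟩

/-! ### minus the identity is a product of commutators -/

theorem pow_mod_two {A : Type*} [Monoid A] (a : A) (ha : a * a = 1) (n : ℕ) : a ^ n = a ^ (n % 2) := by
  conv_lhs => rw [← Nat.div_add_mod n 2]
  rw [pow_add, pow_mul, pow_two, ha, one_pow, one_mul]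

/-- a word in commuting involutions -/
theorem ab_word {A : Type*} [CommGroup A] (e : Fin 5 → A) (he : ∀ g, e g * e g = 1) (w : List (Fin 5)) :
    (w.map e).prod = ∏ g : Fin 5, e g ^ (w.count g % 2) := by
  rw [Finset.prod_list_map_count]
  rw [Finset.prod_subset (Finset.subset_univ w.toFinset)]
  · exact Finset.prod_congr rfl fun g _ => pow_mod_two (e g) (he g) _
  · intro g _ hg
    rw [List.mem_toFinset] at hg
    rw [List.count_eq_zero_of_not_mem hg, pow_zero]

/-- the images of the five automorphisms in the abelianisation -/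
def eAb (g : Fin 5) : Abelianization fourRu := Abelianization.of (genAut g)

theorem eAb_sq (g : Fin 5) : eAb g * eAb g = 1 := by
  unfold eAb
  rw [← map_mul, genAut_mul_self, map_one]

theorem ab_of_word (w : List (Fin 5)) (s : Bool) (tr : Fin 5 → List RuVec)
    (h : ∀ k : Fin 5, wordChk w (tr k) (wv (Fin.castLE (by decide) k)) s = true) :
    ∏ g : Fin 5, eAb g ^ (w.count g % 2) = Abelianization.of (cond s negAut 1) := by
  rw [← ab_word eAb eAb_sq, ← word_central w s tr h, map_list_prod, List.map_map]
  rfl

theorem eAb_y : eAb 1 = 1 := by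
  have h := ab_of_word rW33 false rT33 rC33
  rw [Fin.prod_univ_five] at h
  have c0 : rW33.count 0 % 2 = 0 := by decide
  have c1 : rW33.count 1 % 2 = 1 := by decide
  have c2 : rW33.count 2 % 2 = 0 := by decide
  have c3 : rW33.count 3 % 2 = 0 := by decide
  have c4 : rW33.count 4 % 2 = 0 := by decide
  rw [c0, c1, c2, c3, c4] at h
  simpa using h

theorem eAb_x : eAb 0 = 1 := by
  have h := ab_of_word rW1 false rT1 rC1
  rw [Fin.prod_univ_five] at h
  have c0 : rW1.count 0 % 2 = 1 := by decide
  have c1 : rW1.count 1 % 2 = 1 := by decide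
  have c2 : rW1.count 2 % 2 = 0 := by decide
  have c3 : rW1.count 3 % 2 = 0 := by decide
  have c4 : rW1.count 4 % 2 = 0 := by decide
  rw [c0, c1, c2, c3, c4, eAb_y] at h
  simpa using h

theorem eAb_z : eAb 2 = 1 := by
  have h := ab_of_word rW7 false rT7 rC7
  rw [Fin.prod_univ_five] at h
  have c0 : rW7.count 0 % 2 = 0 := by decide
  have c1 : rW7.count 1 % 2 = 1 := by decide
  have c2 : rW7.count 2 % 2 = 1 := by decide
  have c3 : rW7.count 3 % 2 = 0 := by decide
  have c4 : rW7.count 4 % 2 = 0 := by decide
  rw [c0, c1, c2, c3, c4, eAb_y] at h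
  simpa using h

theorem eAb_t : eAb 3 = 1 := by
  have h := ab_of_word rW27 false rT27 rC27
  rw [Fin.prod_univ_five] at h
  have c0 : rW27.count 0 % 2 = 1 := by decide
  have c1 : rW27.count 1 % 2 = 0 := by decide
  have c2 : rW27.count 2 % 2 = 1 := by decide
  have c3 : rW27.count 3 % 2 = 1 := by decide
  have c4 : rW27.count 4 % 2 = 0 := by decide
  rw [c0, c1, c2, c3, c4, eAb_x, eAb_z] at h
  simpa using h

/-- minus the identity is a product of commutators -/
theorem negAut_mem_commutator : negAut ∈ commutator fourRu := by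
  have h := ab_of_word rW32 true rT32 rC32
  rw [Fin.prod_univ_five] at h
  have c0 : rW32.count 0 % 2 = 1 := by decide
  have c1 : rW32.count 1 % 2 = 1 := by decide
  have c2 : rW32.count 2 % 2 = 0 := by decide
  have c3 : rW32.count 3 % 2 = 1 := by decide
  have c4 : rW32.count 4 % 2 = 0 := by decide
  rw [c0, c1, c2, c3, c4, eAb_x, eAb_y, eAb_t] at h
  have h' : Abelianization.of negAut = 1 := by simpa using h.symm
  rw [← Abelianization.ker_of (G := fourRu)]
  exact h'

/-- minus the identity, in the commutator subgroup -/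
def negGam : commutator fourRu := ⟨negAut, negAut_mem_commutator⟩

theorem negGam_mem_ker : negGam ∈ covHom.ker := by
  rw [MonoidHom.mem_ker, covHom_apply]
  exact (QuotientGroup.eq_one_iff _).2 negAut_central

theorem negGam_ne_one : negGam ≠ 1 := by
  intro h
  exact negAut_ne_one (congrArg Subtype.val h)

theorem two_le_card_ker : 2 ≤ Nat.card covHom.ker := by
  have hf : Finite fourRu := finite_fourRu
  have h1 : (⟨negGam, negGam_mem_ker⟩ : covHom.ker) ≠ 1 := by
    intro h
    exact negGam_ne_one (congrArg Subtype.val h)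
  have : Nontrivial covHom.ker := ⟨⟨_, _, h1⟩⟩
  exact Finite.one_lt_card

theorem card_zmod_two : Nat.card (Multiplicative (ZMod 2)) = 2 := by
  show Nat.card (ZMod 2) = 2
  rw [Nat.card_eq_fintype_card, ZMod.card]

/-- **the Schur multiplier of `Ru` is cyclic of order 2**, as soon as the kernels of the finite stem extensions
of `Ru` are images of the cyclic group of order 2 -/
theorem multiplier_of_upper
    (hub : ∀ (Γ : Type) [Group Γ] [Finite Γ] (σ : Γ →* Ru), IsStemExtension σ →
      ∃ π : Multiplicative (ZMod 2) →* σ.ker, Function.Surjective π) :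
    HasCyclicSchurMultiplier Ru 2 := by
  have hf : Finite fourRu := finite_fourRu
  refine ⟨⟨commutator fourRu, inferInstance, inferInstance, covHom, covHom_stem, ?_⟩, hub⟩
  obtain ⟨π, hπ⟩ := hub (commutator fourRu) covHom covHom_stem
  have hb : Function.Bijective π :=
    hπ.bijective_of_nat_card_le (by rw [card_zmod_two]; exact two_le_card_ker)
  exact ⟨(MulEquiv.ofBijective π hb).symm⟩

end Cfsg.Agent.Lib.Helper8.Ru2
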