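import Mathlib

/-!
Vectors of small natural numbers packed into one natural number, base 256: bytewise operations and the sum
of the bytes. (helper8)
-/

set_option autoImplicit false

namespace Cfsg.Agent.Lib.Helper8.Ru2

/-- pack the bytes `f r < 256` -/
def pk (n : ℕ) (f : Fin n → ℕ) : ℕ := ∑ r : Fin n, f r * 256 ^ (r : ℕ)

theorem pk_zero (f : Fin 0 → ℕ) : pk 0 f = 0 := by simp [pk]

theorem pk_succ (n : ℕ) (f : Fin (n + 1) → ℕ) :
    pk (n + 1) f = f 0 + 256 * pk n (fun r => f r.succ) := by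
  simp only [pk, Fin.sum_univ_succ, Fin.val_zero, pow_zero, mul_one, Fin.val_succ, pow_succ,
    Finset.mul_sum]
  congr 1
  refine Finset.sum_congr rfl fun r _ => ?_
  ring

theorem pk_add (n : ℕ) (f g : Fin n → ℕ) : pk n f + pk n g = pk n (fun r => f r + g r) := by
  simp only [pk, ← Finset.sum_add_distrib, add_mul]

theorem pk_const_mul (n : ℕ) (c : ℕ) (f : Fin n → ℕ) : c * pk n f = pk n (fun r => c * f r) := by
  simp only [pk, Finset.mul_sum, mul_assoc]

theorem pk_lt : ∀ (n : ℕ) (f : Fin n → ℕ), (∀ r, f r < 256) → pk n f < 256 ^ n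
  | 0, f, _ => by simp [pk]
  | n + 1, f, h => by
    rw [pk_succ, pow_succ]
    have := pk_lt n (fun r => f r.succ) (fun r => h r.succ)
    have := h 0
    omega

theorem pk_congr (n : ℕ) (f g : Fin n → ℕ) (h : ∀ r, f r = g r) : pk n f = pk n g := by
  have : f = g := funext h
  rw [this]

theorem land_pk : ∀ (n : ℕ) (f g : Fin n → ℕ), (∀ r, f r < 256) → (∀ r, g r < 256) →
    Nat.land (pk n f) (pk n g) = pk n (fun r => Nat.land (f r) (g r))
  | 0, f, g, _, _ => by simp [pk]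
  | n + 1, f, g, hf, hg => by
    rw [pk_succ, pk_succ, pk_succ]
    have ih := land_pk n (fun r => f r.succ) (fun r => g r.succ) (fun r => hf r.succ) (fun r => hg r.succ)
    simp only [Nat.land_eq] at ih ⊢
    have hf0 := hf 0
    have hg0 := hg 0
    set F := pk n (fun r => f r.succ)
    set G := pk n (fun r => g r.succ)
    have h1 : ((f 0 + 256 * F) &&& (g 0 + 256 * G)) % 2 ^ 8 = f 0 &&& g 0 := by
      rw [Nat.and_mod_two_pow]
      have e1 : (f 0 + 256 * F) % 2 ^ 8 = f 0 := by omega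
      have e2 : (g 0 + 256 * G) % 2 ^ 8 = g 0 := by omega
      rw [e1, e2]
    have h2 : ((f 0 + 256 * F) &&& (g 0 + 256 * G)) / 2 ^ 8 = F &&& G := by
      rw [Nat.and_div_two_pow]
      have e1 : (f 0 + 256 * F) / 2 ^ 8 = F := by omega
      have e2 : (g 0 + 256 * G) / 2 ^ 8 = G := by omega
      rw [e1, e2]
    rw [← ih, ← h1, ← h2]
    omega

theorem xor_pk : ∀ (n : ℕ) (f g : Fin n → ℕ), (∀ r, f r < 256) → (∀ r, g r < 256) →
    Nat.xor (pk n f) (pk n g) = pk n (fun r => Nat.xor (f r) (g r))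
  | 0, f, g, _, _ => by simp [pk]
  | n + 1, f, g, hf, hg => by
    rw [pk_succ, pk_succ, pk_succ]
    have ih := xor_pk n (fun r => f r.succ) (fun r => g r.succ) (fun r => hf r.succ) (fun r => hg r.succ)
    simp only [Nat.xor_eq] at ih ⊢
    have hf0 := hf 0
    have hg0 := hg 0
    set F := pk n (fun r => f r.succ)
    set G := pk n (fun r => g r.succ)
    have h1 : ((f 0 + 256 * F) ^^^ (g 0 + 256 * G)) % 2 ^ 8 = f 0 ^^^ g 0 := by
      rw [Nat.xor_mod_two_pow]
      have e1 : (f 0 + 256 * F) % 2 ^ 8 = f 0 := by omega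
      have e2 : (g 0 + 256 * G) % 2 ^ 8 = g 0 := by omega
      rw [e1, e2]
    have h2 : ((f 0 + 256 * F) ^^^ (g 0 + 256 * G)) / 2 ^ 8 = F ^^^ G := by
      rw [Nat.xor_div_two_pow]
      have e1 : (f 0 + 256 * F) / 2 ^ 8 = F := by omega
      have e2 : (g 0 + 256 * G) / 2 ^ 8 = G := by omega
      rw [e1, e2]
    rw [← ih, ← h1, ← h2]
    omega

theorem pk_eq_zero : ∀ (n : ℕ) (f : Fin n → ℕ), pk n f = 0 → ∀ r, f r = 0
  | 0, _, _ => fun r => r.elim0
  | n + 1, f, h => by
    rw [pk_succ] at h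
    have h0 : f 0 = 0 := by omega
    have h1 : pk n (fun r => f r.succ) = 0 := by omega
    have ih := pk_eq_zero n _ h1
    intro r
    refine Fin.cases h0 (fun i => ih i) r

theorem pk_inj : ∀ (n : ℕ) (f g : Fin n → ℕ), (∀ r, f r < 256) → (∀ r, g r < 256) →
    pk n f = pk n g → ∀ r, f r = g r
  | 0, _, _, _, _, _ => fun r => r.elim0
  | n + 1, f, g, hf, hg, h => by
    rw [pk_succ, pk_succ] at h
    have hf0 := hf 0
    have hg0 := hg 0
    have h0 : f 0 = g 0 := by omega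
    have h1 : pk n (fun r => f r.succ) = pk n (fun r => g r.succ) := by omega
    have ih := pk_inj n _ _ (fun r => hf r.succ) (fun r => hg r.succ) h1
    intro r
    refine Fin.cases h0 (fun i => ih i) r

/-- split a packed vector of even length -/
theorem pk_split (m : ℕ) (g : Fin (m + m) → ℕ) :
    pk (m + m) g = pk m (fun r => g (Fin.castAdd m r)) + 256 ^ m * pk m (fun r => g (Fin.natAdd m r)) := by
  simp only [pk, Fin.sum_univ_add, Fin.val_castAdd, Fin.val_natAdd, pow_add, Finset.mul_sum]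
  congr 1
  refine Finset.sum_congr rfl fun r _ => ?_
  ring

/-- one folding step -/
def fold1 (P Y : ℕ) : ℕ := Nat.add (Nat.mod Y P) (Nat.div Y P)

theorem fold_half (m : ℕ) (g : Fin (m + m) → ℕ) (hg : ∀ r, g r < 256) :
    fold1 (256 ^ m) (pk (m + m) g) = pk m (fun r => g (Fin.castAdd m r) + g (Fin.natAdd m r)) := by
  unfold fold1
  rw [pk_split, ← pk_add]
  have h1 := pk_lt m (fun r => g (Fin.castAdd m r)) (fun r => hg _)
  have hpos : 0 < 256 ^ m := by positivity
  show (pk m (fun r => g (Fin.castAdd m r)) + 256 ^ m * pk m fun r => g (Fin.natAdd m r)) % 256 ^ m +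
      (pk m (fun r => g (Fin.castAdd m r)) + 256 ^ m * pk m fun r => g (Fin.natAdd m r)) / 256 ^ m = _
  rw [Nat.add_mul_mod_self_left, Nat.mod_eq_of_lt h1, Nat.add_mul_div_left _ _ hpos,
    Nat.div_eq_of_lt h1, zero_add]

theorem sum_half (m : ℕ) (g : Fin (m + m) → ℕ) :
    ∑ r : Fin m, (g (Fin.castAdd m r) + g (Fin.natAdd m r)) = ∑ r, g r := by
  rw [Fin.sum_univ_add, Finset.sum_add_distrib]

/-- the sum of the 64 bytes, by folding -/
def hsum (Y : ℕ) : ℕ :=
  fold1 256 (fold1 65536 (fold1 4294967296 (fold1 18446744073709551616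
    (fold1 340282366920938463463374607431768211456
      (fold1 115792089237316195423570985008687907853269984665640564039457584007913129639936 Y)))))

theorem le_sum_of_mem {n : ℕ} (g : Fin n → ℕ) (r : Fin n) : g r ≤ ∑ i, g i :=
  Finset.single_le_sum (f := g) (fun _ _ => Nat.zero_le _) (Finset.mem_univ r)

theorem fold_half' (m P : ℕ) (hP : P = 256 ^ m) (g : Fin (m + m) → ℕ) (hg : ∀ r, g r < 256) :
    fold1 P (pk (m + m) g) = pk m (fun r => g (Fin.castAdd m r) + g (Fin.natAdd m r)) := by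
  rw [hP]
  exact fold_half m g hg

theorem hsum_pk (f : Fin 64 → ℕ) (h : ∑ r, f r < 256) : hsum (pk 64 f) = ∑ r, f r := by
  have hlt : ∀ {n : ℕ} (g : Fin n → ℕ), ∑ r, g r < 256 → ∀ r, g r < 256 :=
    fun g hg r => lt_of_le_of_lt (le_sum_of_mem g r) hg
  unfold hsum
  -- 64 -> 32
  have s32 := sum_half 32 f
  rw [show pk 64 f = pk (32 + 32) f from rfl, fold_half' 32 _ (by norm_num) f (hlt f h)]
  set f32 : Fin 32 → ℕ := fun r => f (Fin.castAdd 32 r) + f (Fin.natAdd 32 r) with hf32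
  have h32 : ∑ r, f32 r < 256 := by rw [s32]; exact h
  have s16 := sum_half 16 f32
  rw [show pk 32 f32 = pk (16 + 16) f32 from rfl, fold_half' 16 _ (by norm_num) f32 (hlt f32 h32)]
  set f16 : Fin 16 → ℕ := fun r => f32 (Fin.castAdd 16 r) + f32 (Fin.natAdd 16 r) with hf16
  have h16 : ∑ r, f16 r < 256 := by rw [s16]; exact h32
  have s8 := sum_half 8 f16
  rw [show pk 16 f16 = pk (8 + 8) f16 from rfl, fold_half' 8 _ (by norm_num) f16 (hlt f16 h16)]
  set f8 : Fin 8 → ℕ := fun r => f16 (Fin.castAdd 8 r) + f16 (Fin.natAdd 8 r) with hf8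
  have h8 : ∑ r, f8 r < 256 := by rw [s8]; exact h16
  have s4 := sum_half 4 f8
  rw [show pk 8 f8 = pk (4 + 4) f8 from rfl, fold_half' 4 _ (by norm_num) f8 (hlt f8 h8)]
  set f4 : Fin 4 → ℕ := fun r => f8 (Fin.castAdd 4 r) + f8 (Fin.natAdd 4 r) with hf4
  have h4 : ∑ r, f4 r < 256 := by rw [s4]; exact h8
  have s2 := sum_half 2 f4
  rw [show pk 4 f4 = pk (2 + 2) f4 from rfl, fold_half' 2 _ (by norm_num) f4 (hlt f4 h4)]
  set f2 : Fin 2 → ℕ := fun r => f4 (Fin.castAdd 2 r) + f4 (Fin.natAdd 2 r) with hf2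
  have h2 : ∑ r, f2 r < 256 := by rw [s2]; exact h4
  have s1 := sum_half 1 f2
  rw [show pk 2 f2 = pk (1 + 1) f2 from rfl, fold_half' 1 _ (by norm_num) f2 (hlt f2 h2)]
  rw [← s32, ← s16, ← s8, ← s4, ← s2, ← s1]
  simp [pk]

end Cfsg.Agent.Lib.Helper8.Ru2
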