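import Cfsg.Agent.Lib.Helper8.RuLat.Even
import Cfsg.Agent.Lib.Helper8.Ru2.Pack

/-!
The 56 real coordinates of a vector of `ℤ[i]²⁸`, padded by 8 zeros to a vector of length 64. (helper8)
-/

set_option autoImplicit false

namespace Cfsg.Agent.Lib.Helper8.Ru2

open Cfsg.Spor Cfsg.Agent.Lib.Helper8.RuLat

/-- the index `(n, t)` with `4 n + t = p` -/
def idxOf (p : ℕ) : RuIdx := (⟨p / 4 % 7, Nat.mod_lt _ (by decide)⟩, ⟨p % 4, Nat.mod_lt _ (by decide)⟩)

/-- the real coordinates: `rcN x (2 p)` and `rcN x (2 p + 1)` are the real and the imaginary part of the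
`p`-th entry; zero from 56 on -/
def rcN (x : RuVec) (k : ℕ) : ℤ :=
  if k < 56 then (if k % 2 = 0 then (x (idxOf (k / 2))).re else (x (idxOf (k / 2))).im) else 0

/-- the real coordinates as a vector of length 64 -/
def rc (x : RuVec) (r : Fin 64) : ℤ := rcN x r.val

theorem rcN_add (x y : RuVec) (k : ℕ) : rcN (x + y) k = rcN x k + rcN y k := by
  unfold rcN
  split_ifs <;> simp

theorem rcN_neg (x : RuVec) (k : ℕ) : rcN (-x) k = -rcN x k := by
  unfold rcN
  split_ifs <;> simp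

theorem rcN_zero (k : ℕ) : rcN 0 k = 0 := by
  unfold rcN
  split_ifs <;> simp

theorem rcN_sub (x y : RuVec) (k : ℕ) : rcN (x - y) k = rcN x k - rcN y k := by
  rw [sub_eq_add_neg, rcN_add, rcN_neg, sub_eq_add_neg]

theorem rcN_four_smul (y : RuVec) (k : ℕ) : rcN ((4 : GaussianInt) • y) k = 4 * rcN y k := by
  unfold rcN
  split_ifs <;> simp

theorem rcN_two_smul (y : RuVec) (k : ℕ) : rcN ((2 : GaussianInt) • y) k = 2 * rcN y k := by
  unfold rcN
  split_ifs <;> simp

theorem sum_range_pairs (a : ℕ → ℤ) : ∀ n : ℕ,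
    ∑ k ∈ Finset.range (2 * n), a k = ∑ p ∈ Finset.range n, (a (2 * p) + a (2 * p + 1))
  | 0 => by simp
  | n + 1 => by
    rw [show 2 * (n + 1) = 2 * n + 1 + 1 from by ring, Finset.sum_range_succ, Finset.sum_range_succ,
      sum_range_pairs a n, Finset.sum_range_succ]
    ring

theorem idxOf_eq (k : Fin 28) : idxOf k.val = finProdFinEquiv.symm k := by
  obtain ⟨k, hk⟩ := k
  apply Prod.ext
  · apply Fin.ext
    show k / 4 % 7 = k / 4
    omega
  · apply Fin.ext
    show k % 4 = k % 4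
    rfl

theorem sum_idx_range (g : RuIdx → ℤ) : ∑ p, g p = ∑ k ∈ Finset.range 28, g (idxOf k) := by
  rw [← Fin.sum_univ_eq_sum_range (fun k => g (idxOf k)) 28]
  rw [← Equiv.sum_comp (finProdFinEquiv (m := 7) (n := 4)).symm g]
  refine Finset.sum_congr rfl fun k _ => ?_
  rw [idxOf_eq]

theorem sum64_gen (φ ψ : RuIdx → ℤ) :
    ∑ k ∈ Finset.range 64, (if k < 56 then (if k % 2 = 0 then φ (idxOf (k / 2)) else ψ (idxOf (k / 2))) else 0) =
      ∑ p, (φ p + ψ p) := by
  rw [sum_idx_range]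
  set a : ℕ → ℤ := fun k =>
    (if k < 56 then (if k % 2 = 0 then φ (idxOf (k / 2)) else ψ (idxOf (k / 2))) else 0) with ha
  have e2 : ∑ k ∈ Finset.range 64, a k = ∑ k ∈ Finset.range (2 * 28), a k := by
    rw [show (64 : ℕ) = 2 * 28 + 8 from rfl, Finset.sum_range_add]
    have : ∑ k ∈ Finset.range 8, a (2 * 28 + k) = 0 := by
      apply Finset.sum_eq_zero
      intro k _
      simp only [ha]
      rw [if_neg (by omega)]
    rw [this, add_zero]
  rw [e2, sum_range_pairs]
  refine Finset.sum_congr rfl fun p hp => ?_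
  have hp' : p < 28 := Finset.mem_range.1 hp
  simp only [ha]
  rw [if_pos (by omega), if_pos (by omega), if_pos (by omega), if_neg (by omega)]
  rw [show 2 * p / 2 = p from by omega, show (2 * p + 1) / 2 = p from by omega]

theorem sum64_eq (x : RuVec) (F : ℤ → ℤ) (h0 : F 0 = 0) :
    ∑ r : Fin 64, F (rc x r) = ∑ p, (F (x p).re + F (x p).im) := by
  have e : ∑ r : Fin 64, F (rc x r) = ∑ k ∈ Finset.range 64, F (rcN x k) :=
    Fin.sum_univ_eq_sum_range (fun k => F (rcN x k)) 64
  rw [e, ← sum64_gen]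
  refine Finset.sum_congr rfl fun k _ => ?_
  unfold rcN
  split_ifs <;> simp [h0]

theorem sum64_eq2 (x y : RuVec) (F : ℤ → ℤ → ℤ) (h0 : F 0 0 = 0) :
    ∑ r : Fin 64, F (rc x r) (rc y r) = ∑ p, (F (x p).re (y p).re + F (x p).im (y p).im) := by
  have e : ∑ r : Fin 64, F (rc x r) (rc y r) = ∑ k ∈ Finset.range 64, F (rcN x k) (rcN y k) :=
    Fin.sum_univ_eq_sum_range (fun k => F (rcN x k) (rcN y k)) 64
  rw [e, ← sum64_gen]
  refine Finset.sum_congr rfl fun k _ => ?_
  unfold rcN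
  split_ifs <;> simp [h0]

theorem re_herm_rc (x y : RuVec) : (herm x y).re = ∑ r : Fin 64, rc x r * rc y r := by
  rw [sum64_eq2 x y (fun a b => a * b) (by simp)]
  unfold herm
  have : ∀ l : Finset RuIdx, (∑ p ∈ l, x p * star (y p)).re =
      ∑ p ∈ l, ((x p).re * (y p).re + (x p).im * (y p).im) := by
    intro l
    classical
    induction l using Finset.induction_on with
    | empty => simp
    | insert a s ha ih =>
      rw [Finset.sum_insert ha, Finset.sum_insert ha, Zsqrtd.re_add, ih]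
      congr 1
      obtain ⟨a1, a2⟩ := x a
      obtain ⟨b1, b2⟩ := y a
      simp [Zsqrtd.star_mk]
  rw [this]

theorem ruNorm_rc (x : RuVec) : ruNorm x = ∑ r : Fin 64, rc x r * rc x r := by
  rw [sum64_eq x (fun a => a * a) (by simp)]
  unfold ruNorm
  refine Finset.sum_congr rfl fun p _ => ?_
  rw [Zsqrtd.norm_def]
  ring

theorem rc_pad (x : RuVec) (r : Fin 64) (hr : 56 ≤ r.val) : rc x r = 0 := by
  unfold rc rcN
  rw [if_neg (by omega)]

end Cfsg.Agent.Lib.Helper8.Ru2
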