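import Cfsg.Agent.Lib.Helper8.Ru2.GenData
import Cfsg.Agent.Lib.Helper8.Ru2.Real

/-!
Every vector of `ruM` is, modulo `4 ℤ[i]²⁸`, a sum of some of the 19 + 37 generators: two binary codes of
length 64 (56 real coordinates and 8 padding coordinates). (helper8)
-/

set_option autoImplicit false

namespace Cfsg.Agent.Lib.Helper8.Ru2

open Cfsg.Spor Cfsg.Agent.Lib.Helper8.RuLat

/-- bit of a mask as an element of `ZMod 2` -/
def bitZ (m : ℕ) (r : ℕ) : ZMod 2 := if Nat.testBit m r then 1 else 0

/-- a linear code given by a check matrix, with a systematic generator matrix -/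
theorem code_param' {ι κ ρ : Type*} [Fintype ι] [Fintype κ] [Fintype ρ] [DecidableEq ι] [DecidableEq ρ]
    (H : κ → ρ → ZMod 2) (G : ι → ρ → ZMod 2) (info : ι → ρ) (K : ρ → κ → ZMod 2)
    (hHG : ∀ j i, ∑ q, H j q * G i q = 0)
    (hG : ∀ i i', G i (info i') = if i = i' then 1 else 0)
    (hK : ∀ p q, (∀ i, info i ≠ q) → ∑ j, K p j * H j q = if p = q then 1 else 0)
    (s : ρ → ZMod 2) (hs : ∀ j, ∑ q, H j q * s q = 0) :
    s = fun q => ∑ i, s (info i) * G i q := by
  set d : ρ → ZMod 2 := fun q => s q + ∑ i, s (info i) * G i q with hd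
  have hHd : ∀ j, ∑ q, H j q * d q = 0 := by
    intro j
    simp only [hd, mul_add, Finset.sum_add_distrib, hs j, zero_add, Finset.mul_sum]
    rw [Finset.sum_comm]
    apply Finset.sum_eq_zero
    intro i _
    have : ∑ q, H j q * (s (info i) * G i q) = s (info i) * ∑ q, H j q * G i q := by
      rw [Finset.mul_sum]
      refine Finset.sum_congr rfl fun q _ => ?_
      ring
    rw [this, hHG j i, mul_zero]
  have hdinfo : ∀ i', d (info i') = 0 := by
    intro i'
    simp only [hd, hG]
    rw [Finset.sum_eq_single i']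
    · simp only [if_true, mul_one]
      exact CharTwo.add_self_eq_zero _
    · intro b _ hb
      simp [hb]
    · intro h
      exact absurd (Finset.mem_univ _) h
  have hd0 : ∀ p, d p = 0 := by
    intro p
    have h1 : d p = ∑ q, (if p = q then 1 else 0) * d q := by
      simp
    have h2 : ∑ q, (if p = q then (1 : ZMod 2) else 0) * d q = ∑ q, (∑ j, K p j * H j q) * d q := by
      refine Finset.sum_congr rfl fun q _ => ?_
      by_cases hq : ∀ i, info i ≠ q
      · rw [hK p q hq]
      · simp only [ne_eq, not_forall, not_not] at hq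
        obtain ⟨i, rfl⟩ := hq
        rw [hdinfo i, mul_zero, mul_zero]
    rw [h1, h2]
    have h3 : ∑ q, (∑ j, K p j * H j q) * d q = ∑ j, K p j * ∑ q, H j q * d q := by
      simp only [Finset.sum_mul, Finset.mul_sum]
      rw [Finset.sum_comm]
      refine Finset.sum_congr rfl fun j _ => ?_
      refine Finset.sum_congr rfl fun q _ => ?_
      ring
    rw [h3]
    apply Finset.sum_eq_zero
    intro j _
    rw [hHd j, mul_zero]
  funext q
  have := hd0 q
  simp only [hd] at this
  exact (CharTwo.add_eq_zero.1 this)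

/-! ### the checks of the data -/

set_option maxRecDepth 100000 in
theorem HG_A : ∀ (j : Fin 45) (i : Fin 19), ∑ q : Fin 64, bitZ (mHA j) q * bitZ (mGA i) q = 0 := by
  decide +kernel

set_option maxRecDepth 100000 in
theorem Ginfo_A : ∀ i i' : Fin 19, bitZ (mGA i) (infoA i') = if i = i' then 1 else 0 := by
  decide +kernel

set_option maxRecDepth 100000 in
theorem KH_A : ∀ p q : Fin 64, (∀ i, infoA i ≠ q) →
    ∑ j : Fin 45, bitZ (mKA p) j * bitZ (mHA j) q = if p = q then 1 else 0 := by
  decide +kernel

set_option maxRecDepth 100000 in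
theorem HG_B : ∀ (j : Fin 27) (i : Fin 37), ∑ q : Fin 64, bitZ (mHB j) q * bitZ (mGB i) q = 0 := by
  decide +kernel

set_option maxRecDepth 100000 in
theorem Ginfo_B : ∀ i i' : Fin 37, bitZ (mGB i) (infoB i') = if i = i' then 1 else 0 := by
  decide +kernel

set_option maxRecDepth 100000 in
theorem KH_B : ∀ p q : Fin 64, (∀ i, infoB i ≠ q) →
    ∑ j : Fin 27, bitZ (mKB p) j * bitZ (mHB j) q = if p = q then 1 else 0 := by
  decide +kernel

end Cfsg.Agent.Lib.Helper8.Ru2
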