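import Cfsg.Agent.Lib.Helper8.Ru2.Decomp

/-!
The decomposition of a vector of `ruM` along the 19 + 37 generators, modulo 4. (helper8)
-/

set_option autoImplicit false

namespace Cfsg.Agent.Lib.Helper8.Ru2

open Cfsg.Spor Cfsg.Agent.Lib.Helper8.RuLat

/-! ### certificates -/

set_option maxRecDepth 100000 in
theorem gA_cert : ∀ j p, gA j p = (∑ l, cA j l * ruB l p) + 4 * zA j p := by
  decide +kernel

set_option maxRecDepth 100000 in
theorem gB_cert : ∀ j p, gB j p = (∑ l, cB j l * ruB l p) + 4 * zB j p := by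
  decide +kernel

theorem gA_eq (j : Fin 19) : gA j = (∑ l, cA j l • ruB l) + (4 : GaussianInt) • zA j := by
  funext p
  rw [gA_cert j p]
  simp [Finset.sum_apply]

theorem gB_eq (j : Fin 37) : gB j = (∑ l, cB j l • ruB l) + (4 : GaussianInt) • zB j := by
  funext p
  rw [gB_cert j p]
  simp [Finset.sum_apply]

theorem dvd_herm_gA {x : RuVec} (hx : x ∈ ruM) (j : Fin 19) : (4 : GaussianInt) ∣ herm x (gA j) := by
  rw [gA_eq]
  exact dvd_herm_comb hx _ _

theorem dvd_herm_gB {x : RuVec} (hx : x ∈ ruM) (j : Fin 37) : (4 : GaussianInt) ∣ herm x (gB j) := by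
  rw [gB_eq]
  exact dvd_herm_comb hx _ _

set_option maxRecDepth 100000 in
theorem gA_div4 : ∀ j l, (4 : ℤ) ∣ (herm (gA j) (ruB l)).re ∧ (4 : ℤ) ∣ (herm (gA j) (ruB l)).im := by
  decide +kernel

theorem gA_mem_ruM (j : Fin 19) : gA j ∈ ruM := by
  intro l
  rw [four_dvd_iff]
  exact gA_div4 j l

/-! ### the data as bits -/

set_option maxRecDepth 100000 in
theorem gA_par : ∀ (j : Fin 19) (r : Fin 64), ((rc (gA j) r : ℤ) : ZMod 2) = bitZ (mGA j) r := by
  decide +kernel

set_option maxRecDepth 100000 in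
theorem gB_half : ∀ (m : Fin 37) (r : Fin 64),
    rc (gB m) r = 2 * (if Nat.testBit (mGB m) r then 1 else 0) := by
  decide +kernel

set_option maxRecDepth 100000 in
theorem mHA_lo : ∀ m : Fin 37, mHA (Fin.castLE (by decide) m) = mGB m := by decide +kernel

set_option maxRecDepth 100000 in
theorem mHA_hi : ∀ k : Fin 8, mHA (Fin.natAdd 37 k) = 2 ^ (56 + k.val) := by decide +kernel

set_option maxRecDepth 100000 in
theorem mHB_lo : ∀ m : Fin 19, mHB (Fin.castLE (by decide) m) = mGA m := by decide +kernel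

set_option maxRecDepth 100000 in
theorem mHB_hi : ∀ k : Fin 8, mHB (Fin.natAdd 19 k) = 2 ^ (56 + k.val) := by decide +kernel

end Cfsg.Agent.Lib.Helper8.Ru2
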