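import Cfsg.Agent.Lib.Helper8.Ru2.Decomp2

/-!
The decomposition of a vector of `ruM` along the 19 + 37 generators, modulo 4: the theorem. (helper8)
-/

set_option autoImplicit false

namespace Cfsg.Agent.Lib.Helper8.Ru2

open Cfsg.Spor Cfsg.Agent.Lib.Helper8.RuLat

theorem bitZ_cast (m r : ℕ) : (((if Nat.testBit m r then 1 else 0 : ℤ)) : ZMod 2) = bitZ m r := by
  unfold bitZ
  split_ifs <;> simp

/-- a real coordinate as an additive map -/
def rcAdd (r : Fin 64) : RuVec →+ ℤ where
  toFun x := rc x r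
  map_zero' := rcN_zero _
  map_add' x y := rcN_add x y _

theorem rcAdd_apply (r : Fin 64) (x : RuVec) : rcAdd r x = rc x r := rfl

theorem bitZ_two_pow (k : ℕ) (q : ℕ) (h : q ≠ k) : bitZ (2 ^ k) q = 0 := by
  unfold bitZ
  rw [Nat.testBit_two_pow]
  have : decide (k = q) = false := decide_eq_false (fun h' => h h'.symm)
  rw [this]
  rfl

/-- the parities of the real coordinates form a word of the code of the 19 odd generators -/
theorem parity_decomp {x : RuVec} (hx : x ∈ ruM) (q : Fin 64) :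
    ((rc x q : ℤ) : ZMod 2) = ∑ i : Fin 19, ((rc x (infoA i) : ℤ) : ZMod 2) * bitZ (mGA i) q := by
  have hs : ∀ j : Fin 45, ∑ q : Fin 64, bitZ (mHA j) q * ((rc x q : ℤ) : ZMod 2) = 0 := by
    intro j
    rcases lt_or_ge j.val 37 with h | h
    · have ej : j = Fin.castLE (by decide) (⟨j.val, h⟩ : Fin 37) := Fin.ext rfl
      rw [ej, mHA_lo]
      generalize (⟨j.val, h⟩ : Fin 37) = m
      have h4 : (4 : ℤ) ∣ (herm x (gB m)).re := ((four_dvd_iff _).1 (dvd_herm_gB hx m)).1
      rw [re_herm_rc] at h4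
      have e : ∑ r : Fin 64, rc x r * rc (gB m) r =
          2 * ∑ r : Fin 64, rc x r * (if Nat.testBit (mGB m) r then 1 else 0) := by
        rw [Finset.mul_sum]
        refine Finset.sum_congr rfl fun r _ => ?_
        rw [gB_half]
        ring
      rw [e] at h4
      have h2 : (2 : ℤ) ∣ ∑ r : Fin 64, rc x r * (if Nat.testBit (mGB m) r then 1 else 0) := by
        obtain ⟨k, hk⟩ := h4
        exact ⟨k, by omega⟩
      have h0 := (ZMod.intCast_zmod_eq_zero_iff_dvd _ 2).2 h2
      rw [Int.cast_sum] at h0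
      rw [← h0]
      refine Finset.sum_congr rfl fun r _ => ?_
      rw [Int.cast_mul, bitZ_cast, mul_comm]
    · have ej : j = Fin.natAdd 37 (⟨j.val - 37, by omega⟩ : Fin 8) := Fin.ext (by simp; omega)
      rw [ej, mHA_hi]
      apply Finset.sum_eq_zero
      intro q _
      by_cases hq : 56 ≤ q.val
      · rw [rc_pad x q hq]
        simp
      · rw [bitZ_two_pow _ _ (by simp only; omega), zero_mul]
  have := code_param' (fun (j : Fin 45) (q : Fin 64) => bitZ (mHA j) q)
    (fun (i : Fin 19) (q : Fin 64) => bitZ (mGA i) q) infoA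
    (fun (p : Fin 64) (j : Fin 45) => bitZ (mKA p) j) HG_A Ginfo_A KH_A
    (fun q => ((rc x q : ℤ) : ZMod 2)) hs
  exact congrFun this q

/-- the halves of the real coordinates of an even vector form a word of the code of the 37 even generators -/
theorem half_decomp {y : RuVec} (hy : y ∈ ruM) (t : Fin 64 → ℤ) (ht : ∀ r, rc y r = 2 * t r) (q : Fin 64) :
    ((t q : ℤ) : ZMod 2) = ∑ m : Fin 37, ((t (infoB m) : ℤ) : ZMod 2) * bitZ (mGB m) q := by
  have hs : ∀ j : Fin 27, ∑ q : Fin 64, bitZ (mHB j) q * ((t q : ℤ) : ZMod 2) = 0 := by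
    intro j
    rcases lt_or_ge j.val 19 with h | h
    · have ej : j = Fin.castLE (by decide) (⟨j.val, h⟩ : Fin 19) := Fin.ext rfl
      rw [ej, mHB_lo]
      generalize (⟨j.val, h⟩ : Fin 19) = m
      have h4 : (4 : ℤ) ∣ (herm y (gA m)).re := ((four_dvd_iff _).1 (dvd_herm_gA hy m)).1
      rw [re_herm_rc] at h4
      have e : ∑ r : Fin 64, rc y r * rc (gA m) r = 2 * ∑ r : Fin 64, t r * rc (gA m) r := by
        rw [Finset.mul_sum]
        refine Finset.sum_congr rfl fun r _ => ?_
        rw [ht]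
        ring
      rw [e] at h4
      have h2 : (2 : ℤ) ∣ ∑ r : Fin 64, t r * rc (gA m) r := by
        obtain ⟨k, hk⟩ := h4
        exact ⟨k, by omega⟩
      have h0 := (ZMod.intCast_zmod_eq_zero_iff_dvd _ 2).2 h2
      rw [Int.cast_sum] at h0
      rw [← h0]
      refine Finset.sum_congr rfl fun r _ => ?_
      rw [Int.cast_mul, gA_par, mul_comm]
    · have ej : j = Fin.natAdd 19 (⟨j.val - 19, by omega⟩ : Fin 8) := Fin.ext (by simp; omega)
      rw [ej, mHB_hi]
      apply Finset.sum_eq_zero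
      intro q _
      by_cases hq : 56 ≤ q.val
      · have h1 := ht q
        rw [rc_pad y q hq] at h1
        have : t q = 0 := by omega
        rw [this]
        simp
      · rw [bitZ_two_pow _ _ (by simp only; omega), zero_mul]
  have := code_param' (fun (j : Fin 27) (q : Fin 64) => bitZ (mHB j) q)
    (fun (i : Fin 37) (q : Fin 64) => bitZ (mGB i) q) infoB
    (fun (p : Fin 64) (j : Fin 27) => bitZ (mKB p) j) HG_B Ginfo_B KH_B
    (fun q => ((t q : ℤ) : ZMod 2)) hs
  exact congrFun this q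

theorem cast_mod_two (z : ℤ) : ((z % 2 : ℤ) : ZMod 2) = (z : ZMod 2) := by
  have := ZMod.intCast_mod z 2
  exact_mod_cast this

/-- the decomposition modulo 4, with integer coefficients 0 or 1 -/
theorem decompZ {x : RuVec} (hx : x ∈ ruM) : ∃ (a : Fin 19 → ℤ) (b : Fin 37 → ℤ),
    (∀ i, a i = 0 ∨ a i = 1) ∧ (∀ m, b m = 0 ∨ b m = 1) ∧
    ∀ q : Fin 64, (4 : ℤ) ∣ rc x q - (∑ i, a i * rc (gA i) q + ∑ m, b m * rc (gB m) q) := by
  set a : Fin 19 → ℤ := fun i => rc x (infoA i) % 2 with ha
  set y : RuVec := x - ∑ i, a i • gA i with hy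
  have hyM : y ∈ ruM := ruM.sub_mem hx (ruM.sum_mem fun i _ => ruM.zsmul_mem (gA_mem_ruM i) _)
  have hyr : ∀ r, rc y r = rc x r - ∑ i, a i * rc (gA i) r := by
    intro r
    rw [← rcAdd_apply, hy, map_sub, map_sum]
    simp only [map_zsmul, rcAdd_apply, smul_eq_mul]
  have heven : ∀ r, (2 : ℤ) ∣ rc y r := by
    intro r
    apply (ZMod.intCast_zmod_eq_zero_iff_dvd _ 2).1
    rw [hyr, Int.cast_sub, Int.cast_sum, parity_decomp hx r]
    have : ∀ i, (((a i * rc (gA i) r : ℤ)) : ZMod 2) = ((rc x (infoA i) : ℤ) : ZMod 2) * bitZ (mGA i) r := by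
      intro i
      rw [Int.cast_mul, gA_par, ha]
      simp only
      rw [cast_mod_two]
    simp only [this, sub_self]
  set t : Fin 64 → ℤ := fun r => rc y r / 2 with ht
  have htr : ∀ r, rc y r = 2 * t r := by
    intro r
    have := heven r
    simp only [ht]
    omega
  set b : Fin 37 → ℤ := fun m => t (infoB m) % 2 with hb
  refine ⟨a, b, fun i => Int.emod_two_eq_zero_or_one _, fun m => Int.emod_two_eq_zero_or_one _, ?_⟩
  intro q
  have h1 := half_decomp hyM t htr q
  have h2 : (2 : ℤ) ∣ t q - ∑ m, b m * (if Nat.testBit (mGB m) q then 1 else 0) := by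
    apply (ZMod.intCast_zmod_eq_zero_iff_dvd _ 2).1
    rw [Int.cast_sub, Int.cast_sum, h1]
    have : ∀ m, (((b m * (if Nat.testBit (mGB m) q then 1 else 0) : ℤ)) : ZMod 2) =
        ((t (infoB m) : ℤ) : ZMod 2) * bitZ (mGB m) q := by
      intro m
      rw [Int.cast_mul, bitZ_cast, hb]
      simp only
      rw [cast_mod_two]
    simp only [this, sub_self]
  have e : rc x q - (∑ i, a i * rc (gA i) q + ∑ m, b m * rc (gB m) q) =
      2 * (t q - ∑ m, b m * (if Nat.testBit (mGB m) q then 1 else 0)) := by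
    have e1 : ∑ m, b m * rc (gB m) q = 2 * ∑ m, b m * (if Nat.testBit (mGB m) q then 1 else 0) := by
      rw [Finset.mul_sum]
      refine Finset.sum_congr rfl fun m _ => ?_
      rw [gB_half]
      ring
    have e2 := hyr q
    have e3 := htr q
    rw [e1]
    linarith
  rw [e]
  obtain ⟨k, hk⟩ := h2
  exact ⟨k, by rw [hk]; ring⟩

end Cfsg.Agent.Lib.Helper8.Ru2
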