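import Cfsg.Agent.Lib.Helper8.Ru2.Pack

/-!
The packed depth-first search: definitions, and the elementary lemmas on membership. (helper8)
-/

set_option autoImplicit false

namespace Cfsg.Agent.Lib.Helper8.Ru2

/-- a step of the search: the packed generator `g`; the coordinates that later generators change only
by even amounts (`k1`), or not at all (`k2a`, and `k2b = 2 k2a`); the bound `bd = 16 +` number of the latter -/
structure Step where
  g : ℕ
  k1 : ℕ
  k2a : ℕ
  k2b : ℕ
  bd : ℕ

/-- the search, for a test `ok` and an addition `ad`: all final states reachable through possible states,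
in front of `acc` -/
noncomputable def dfsG (ok : Step → ℕ → Bool) (ad : ℕ → ℕ → ℕ) (steps : List Step) : ℕ → List ℕ → List ℕ :=
  List.rec (motive := fun _ => ℕ → List ℕ → List ℕ)
    (fun X acc => X :: acc)
    (fun s _ ih X acc =>
      (fun X1 => (fun acc1 => cond (ok s X1) (ih X1 acc1) acc1) (cond (ok s X) (ih X acc) acc))
        (ad X s.g)) steps

section generic

variable (ok : Step → ℕ → Bool) (ad : ℕ → ℕ → ℕ)

theorem dfsG_nil (X : ℕ) (acc : List ℕ) : dfsG ok ad [] X acc = X :: acc := rfl

theorem dfsG_cons (s : Step) (rest : List Step) (X : ℕ) (acc : List ℕ) :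
    dfsG ok ad (s :: rest) X acc =
      cond (ok s (ad X s.g)) (dfsG ok ad rest (ad X s.g) (cond (ok s X) (dfsG ok ad rest X acc) acc))
        (cond (ok s X) (dfsG ok ad rest X acc) acc) := rfl

theorem mem_dfsG_acc (steps : List Step) :
    ∀ (X : ℕ) (acc : List ℕ) (a : ℕ), a ∈ acc → a ∈ dfsG ok ad steps X acc := by
  induction steps with
  | nil =>
    intro X acc a h
    rw [dfsG_nil]
    exact List.mem_cons_of_mem _ h
  | cons s rest ih =>
    intro X acc a h
    rw [dfsG_cons]
    have h1 : a ∈ cond (ok s X) (dfsG ok ad rest X acc) acc := by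
      cases ok s X
      · exact h
      · exact ih X acc a h
    cases ok s (ad X s.g)
    · exact h1
    · exact ih _ _ a h1

theorem mem_dfsG_zero (s : Step) (rest : List Step) (X : ℕ) (acc : List ℕ) (a : ℕ)
    (hok : ok s X = true) (h : a ∈ dfsG ok ad rest X acc) : a ∈ dfsG ok ad (s :: rest) X acc := by
  rw [dfsG_cons]
  have h1 : a ∈ cond (ok s X) (dfsG ok ad rest X acc) acc := by
    rw [hok]
    exact h
  cases ok s (ad X s.g)
  · exact h1
  · exact mem_dfsG_acc ok ad rest _ _ a h1

theorem mem_dfsG_one (s : Step) (rest : List Step) (X : ℕ) (acc : List ℕ) (a : ℕ)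
    (hok : ok s (ad X s.g) = true)
    (h : ∀ acc', a ∈ dfsG ok ad rest (ad X s.g) acc') : a ∈ dfsG ok ad (s :: rest) X acc := by
  rw [dfsG_cons, hok]
  exact h _

/-- the search appends to the accumulator -/
theorem dfsG_append (steps : List Step) : ∀ (X : ℕ) (acc : List ℕ),
    dfsG ok ad steps X acc = dfsG ok ad steps X [] ++ acc := by
  induction steps with
  | nil =>
    intro X acc
    rw [dfsG_nil, dfsG_nil]
    rfl
  | cons s rest ih =>
    intro X acc
    rw [dfsG_cons, dfsG_cons]
    have e0 : cond (ok s X) (dfsG ok ad rest X acc) acc = cond (ok s X) (dfsG ok ad rest X []) [] ++ acc := by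
      cases ok s X
      · rfl
      · exact ih X acc
    rw [e0]
    cases ok s (ad X s.g)
    · rfl
    · simp only [cond_true]
      rw [ih (ad X s.g) (cond (ok s X) (dfsG ok ad rest X []) [] ++ acc),
        ih (ad X s.g) (cond (ok s X) (dfsG ok ad rest X []) []), List.append_assoc]

/-- the state after following the bits -/
def finalState : List Step → List Bool → ℕ → ℕ
  | s :: rest, b :: bs, X => finalState rest bs (cond b (ad X s.g) X)
  | _, _, X => X

/-- all states along the bits are possible -/
def PathOK : List Step → List Bool → ℕ → Prop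
  | s :: rest, b :: bs, X => ok s (cond b (ad X s.g) X) = true ∧ PathOK rest bs (cond b (ad X s.g) X)
  | _, _, _ => True

theorem PathOK_cons (s : Step) (rest : List Step) (b : Bool) (bs : List Bool) (X : ℕ) :
    PathOK ok ad (s :: rest) (b :: bs) X =
      (ok s (cond b (ad X s.g) X) = true ∧ PathOK ok ad rest bs (cond b (ad X s.g) X)) := rfl

theorem PathOK_nil (X : ℕ) : PathOK ok ad [] [] X = True := rfl

theorem finalState_cons (s : Step) (rest : List Step) (b : Bool) (bs : List Bool) (X : ℕ) :
    finalState ad (s :: rest) (b :: bs) X = finalState ad rest bs (cond b (ad X s.g) X) := rfl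

theorem finalState_nil (X : ℕ) : finalState ad [] [] X = X := rfl

theorem PathOK_cons_false (s : Step) (rest : List Step) (bs : List Bool) (X : ℕ) :
    PathOK ok ad (s :: rest) (false :: bs) X = (ok s X = true ∧ PathOK ok ad rest bs X) := rfl

theorem PathOK_cons_true (s : Step) (rest : List Step) (bs : List Bool) (X : ℕ) :
    PathOK ok ad (s :: rest) (true :: bs) X =
      (ok s (ad X s.g) = true ∧ PathOK ok ad rest bs (ad X s.g)) := rfl

theorem finalState_cons_false (s : Step) (rest : List Step) (bs : List Bool) (X : ℕ) :
    finalState ad (s :: rest) (false :: bs) X = finalState ad rest bs X := rfl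

theorem finalState_cons_true (s : Step) (rest : List Step) (bs : List Bool) (X : ℕ) :
    finalState ad (s :: rest) (true :: bs) X = finalState ad rest bs (ad X s.g) := rfl

theorem dfsG_sound (steps : List Step) : ∀ (bits : List Bool) (X : ℕ) (acc : List ℕ),
    bits.length = steps.length → PathOK ok ad steps bits X →
    finalState ad steps bits X ∈ dfsG ok ad steps X acc := by
  induction steps with
  | nil =>
    intro bits X acc hl _
    have : bits = [] := List.length_eq_zero_iff.1 hl
    subst this
    rw [dfsG_nil]
    exact List.mem_cons_self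
  | cons s rest ih =>
    intro bits X acc hl hp
    cases bits with
    | nil => simp at hl
    | cons b bs =>
      have hl' : bs.length = rest.length := by simpa using hl
      obtain ⟨h1, h2⟩ := hp
      show finalState ad rest bs (cond b (ad X s.g) X) ∈ _
      cases b
      · exact mem_dfsG_zero ok ad s rest X acc _ h1 (ih bs X acc hl' h2)
      · exact mem_dfsG_one ok ad s rest X acc _ h1 (fun acc' => ih bs (ad X s.g) acc' hl' h2)

/-- a final state comes from one of the two branches -/
theorem mem_dfsG_cons_inv (s : Step) (rest : List Step) (X a : ℕ)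
    (h : a ∈ dfsG ok ad (s :: rest) X []) :
    (ok s X = true ∧ a ∈ dfsG ok ad rest X []) ∨
    (ok s (ad X s.g) = true ∧ a ∈ dfsG ok ad rest (ad X s.g) []) := by
  rw [dfsG_cons] at h
  cases h1 : ok s (ad X s.g)
  · rw [h1] at h
    simp only [cond_false] at h
    cases h0 : ok s X
    · rw [h0] at h
      simp at h
    · rw [h0] at h
      exact Or.inl ⟨rfl, h⟩
  · rw [h1] at h
    simp only [cond_true] at h
    rw [dfsG_append] at h
    rcases List.mem_append.1 h with h | h
    · exact Or.inr ⟨rfl, h⟩
    · cases h0 : ok s X
      · rw [h0] at h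
        simp at h
      · rw [h0] at h
        exact Or.inl ⟨rfl, h⟩

/-- a node of the search tree: each branch is pruned or satisfies `P` -/
theorem dfsG_node (tl : List Step) (s : Step) (rest : List Step) (ht : tl = s :: rest) (X X1 : ℕ)
    (P : ℕ → Prop) (hX1 : ad X s.g = X1)
    (h0 : ok s X = false ∨ ∀ a ∈ dfsG ok ad rest X [], P a)
    (h1 : ok s X1 = false ∨ ∀ a ∈ dfsG ok ad rest X1 [], P a) :
    ∀ a ∈ dfsG ok ad tl X [], P a := by
  subst ht hX1
  intro a ha
  rcases mem_dfsG_cons_inv ok ad s rest X a ha with ⟨hk, hm⟩ | ⟨hk, hm⟩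
  · rcases h0 with h0 | h0
    · rw [h0] at hk
      exact absurd hk (by simp)
    · exact h0 a hm
  · rcases h1 with h1 | h1
    · rw [h1] at hk
      exact absurd hk (by simp)
    · exact h1 a hm

end generic

/-- byte 1 at the 56 real coordinates -/
def ONES : ℕ := 0x0101010101010101010101010101010101010101010101010101010101010101010101010101010101010101010101010101010101010101

/-- byte 3 at all 64 coordinates -/
def M3 : ℕ := 0x03030303030303030303030303030303030303030303030303030303030303030303030303030303030303030303030303030303030303030303030303030303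

/-- the packed lower bound for the norm, plus the number of final coordinates -/
noncomputable def lbF (s : Step) (X : ℕ) : ℕ :=
  hsum (Nat.add (Nat.add (Nat.land X s.k1) (Nat.land X s.k2b))
    (Nat.add (Nat.land (Nat.add X ONES) s.k2b) (Nat.land (Nat.xor X ONES) s.k2a)))

/-- is the state still possible? -/
noncomputable def okF (s : Step) (X : ℕ) : Bool := Nat.ble (lbF s X) s.bd

/-- add a generator -/
noncomputable def addG (X g : ℕ) : ℕ := Nat.land (Nat.add X g) M3

/-- the search -/
noncomputable def dfsF (steps : List Step) (X : ℕ) (acc : List ℕ) : List ℕ := dfsG okF addG steps X acc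

end Cfsg.Agent.Lib.Helper8.Ru2
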