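import Cfsg.Agent.Lib.Helper8.Ru2.DfsSound2
import Cfsg.Agent.Lib.Helper8.Ru2.DfsData
import Cfsg.Agent.Lib.Helper8.Ru2.Decomp3

/-!
The search finds the residues modulo 4 of every vector of norm 16 of `ruM`. (helper8)
-/

set_option autoImplicit false

namespace Cfsg.Agent.Lib.Helper8.Ru2

open Cfsg.Spor Cfsg.Agent.Lib.Helper8.RuLat

deriving instance DecidableEq for Step

/-- the residues modulo 4 of the real coordinates, packed -/
noncomputable def code (x : RuVec) : ℕ := pk 64 (fun r => (rc x r % 4).toNat)

/-- the steps of the odd generators -/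
def stA : Fin 19 → Step := ![st0, st1, st2, st3, st4, st5, st6, st7, st8, st9, st10, st11, st12, st13, st14,
  st15, st16, st17, st18]

/-- the steps of the even generators -/
def stB : Fin 37 → Step := ![st19, st20, st21, st22, st23, st24, st25, st26, st27, st28, st29, st30, st31,
  st32, st33, st34, st35, st36, st37, st38, st39, st40, st41, st42, st43, st44, st45, st46, st47, st48, st49,
  st50, st51, st52, st53, st54, st55]

theorem stepsAll_eq : stepsAll = List.ofFn stA ++ List.ofFn stB := by
  decide +kernel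

set_option maxRecDepth 1000000 in
theorem stepsAll_ok : StepsOK stepsAll := by
  decide +kernel

set_option maxRecDepth 1000000 in
theorem stA_dig : ∀ (i : Fin 19) (r : Fin 64), (dig (stA i).g r : ℤ) = rc (gA i) r % 4 := by
  decide +kernel

set_option maxRecDepth 1000000 in
theorem stB_dig : ∀ (m : Fin 37) (r : Fin 64), (dig (stB m).g r : ℤ) = rc (gB m) r % 4 := by
  decide +kernel

theorem zipSum_append (r : Fin 64) : ∀ (b1 : List Bool) (s1 : List Step) (b2 : List Bool) (s2 : List Step),
    b1.length = s1.length → zipSum (b1 ++ b2) (s1 ++ s2) r = zipSum b1 s1 r + zipSum b2 s2 r := by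
  intro b1
  induction b1 with
  | nil =>
    intro s1 b2 s2 h
    have : s1 = [] := List.length_eq_zero_iff.1 h.symm
    subst this
    simp [zipSum]
  | cons b bs ih =>
    intro s1 b2 s2 h
    cases s1 with
    | nil => simp at h
    | cons s rest =>
      have h' : bs.length = rest.length := by simpa using h
      rw [List.cons_append, List.cons_append, zipSum_cons, zipSum_cons, ih rest b2 s2 h', add_assoc]

theorem zipSum_ofFn (r : Fin 64) : ∀ (n : ℕ) (a : Fin n → Bool) (s : Fin n → Step),
    zipSum (List.ofFn a) (List.ofFn s) r = ∑ i, cond (a i) (dig (s i).g r : ℤ) 0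
  | 0, a, s => by simp [zipSum]
  | n + 1, a, s => by
    rw [List.ofFn_succ, List.ofFn_succ, zipSum_cons, Fin.sum_univ_succ,
      zipSum_ofFn r n (fun i => a i.succ) (fun i => s i.succ)]

theorem code_zero : (0 : ℕ) = pk 64 (fun _ => 0) := by
  simp [pk]

/-- a vector of norm 16 of `ruM` is found by the search -/
theorem code_mem_dfs {x : RuVec} (hx : x ∈ ruM) (hn : ruNorm x = 16) :
    code x ∈ dfsG okF addG stepsAll 0 [] := by
  obtain ⟨a, b, ha, hb, hab⟩ := decompZ hx
  set bits : List Bool := List.ofFn (fun i => decide (a i = 1)) ++ List.ofFn (fun m => decide (b m = 1))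
    with hbits
  have hlen : bits.length = stepsAll.length := by
    rw [hbits, stepsAll_eq]
    simp
  have hz : ∀ r, zipSum bits stepsAll r =
      ∑ i, cond (decide (a i = 1)) (dig (stA i).g r : ℤ) 0 +
        ∑ m, cond (decide (b m = 1)) (dig (stB m).g r : ℤ) 0 := by
    intro r
    rw [hbits, stepsAll_eq, zipSum_append r _ _ _ _ (by simp), zipSum_ofFn, zipSum_ofFn]
  have hc : ∀ r, (4 : ℤ) ∣ rc x r - (((0 : ℕ) : ℤ) + zipSum bits stepsAll r) := by
    intro r
    rw [hz r]
    have h1 := hab r
    have eA : ∀ i, (4 : ℤ) ∣ a i * rc (gA i) r - cond (decide (a i = 1)) (dig (stA i).g r : ℤ) 0 := by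
      intro i
      rw [stA_dig]
      rcases ha i with h | h <;> rw [h] <;> simp
      omega
    have eB : ∀ m, (4 : ℤ) ∣ b m * rc (gB m) r - cond (decide (b m = 1)) (dig (stB m).g r : ℤ) 0 := by
      intro m
      rw [stB_dig]
      rcases hb m with h | h <;> rw [h] <;> simp
      omega
    have sA : (4 : ℤ) ∣ ∑ i, (a i * rc (gA i) r - cond (decide (a i = 1)) (dig (stA i).g r : ℤ) 0) :=
      Finset.dvd_sum fun i _ => eA i
    have sB : (4 : ℤ) ∣ ∑ m, (b m * rc (gB m) r - cond (decide (b m = 1)) (dig (stB m).g r : ℤ) 0) :=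
      Finset.dvd_sum fun m _ => eB m
    rw [Finset.sum_sub_distrib] at sA sB
    have := dvd_add (dvd_add h1 sA) sB
    have key : ∀ (X A B A' B' : ℤ), X - (((0 : ℕ) : ℤ) + (A' + B')) = X - (A + B) + (A - A') + (B - B') := by
      intro X A B A' B'
      push_cast
      ring
    rw [key _ _ _ _ _]
    exact this
  obtain ⟨hp, hf⟩ := lat_sound x hn stepsAll stepsAll_ok bits (fun _ => 0) 0 code_zero hlen
    (fun _ => by decide) hc
  have := dfsG_sound okF addG stepsAll bits 0 [] hlen hp
  rw [hf] at this
  exact this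

end Cfsg.Agent.Lib.Helper8.Ru2
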