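import Cfsg.Agent.Lib.Helper8.Ru2.DfsData

/-! Part 0 of the search (generated). (helper8) -/

set_option autoImplicit false

namespace Cfsg.Agent.Lib.Helper8.Ru2

/-- the final states of part 0 -/
def leaves0 : List ℕ := [0]

set_option maxRecDepth 1000000 in
theorem part0 : dfsG okF addG tail18 0 [] = leaves0 := by
  decide +kernel

end Cfsg.Agent.Lib.Helper8.Ru2
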