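import Cfsg.Agent.Lib.Helper8.Ru2.DfsData

/-! Part 15 of the search (generated). (helper8) -/

set_option autoImplicit false

namespace Cfsg.Agent.Lib.Helper8.Ru2

/-- the final states of part 15 -/
def leaves15 : List ℕ := []

set_option maxRecDepth 1000000 in
theorem part15 : dfsG okF addG tail18 78959133657903574553313520371587847668458348899760318833702823119022288792209957402111381510930642398201350270747395 [] = leaves15 := by
  decide +kernel

end Cfsg.Agent.Lib.Helper8.Ru2
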