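import Cfsg.Agent.Lib.Helper8.Ru2.Dfs
import Cfsg.Agent.Lib.Helper8.Ru2.Real

/-!
Soundness of the packed search: a vector of norm 16 which is congruent modulo 4 to a sum of generators is
found by the search. (helper8)
-/

set_option autoImplicit false

namespace Cfsg.Agent.Lib.Helper8.Ru2

open Cfsg.Spor Cfsg.Agent.Lib.Helper8.RuLat

/-- the `r`-th byte -/
def dig (X : ℕ) (r : Fin 64) : ℕ := X / 256 ^ r.val % 256

theorem dig_lt (X : ℕ) (r : Fin 64) : dig X r < 256 := Nat.mod_lt _ (by decide)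

theorem pk_dig_aux : ∀ (n : ℕ) (X : ℕ), X < 256 ^ n → pk n (fun r : Fin n => X / 256 ^ r.val % 256) = X
  | 0, X, h => by
    have : X = 0 := by simpa using h
    simp [pk, this]
  | n + 1, X, h => by
    rw [pk_succ]
    have h1 : X / 256 < 256 ^ n := by
      rw [pow_succ] at h
      omega
    have ih := pk_dig_aux n (X / 256) h1
    have e : (fun r : Fin n => X / 256 ^ (r.succ : Fin (n + 1)).val % 256) =
        fun r : Fin n => X / 256 / 256 ^ r.val % 256 := by
      funext r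
      rw [Fin.val_succ, pow_succ, Nat.div_div_eq_div_mul, mul_comm]
    rw [e, ih]
    simp only [Fin.val_zero, pow_zero, Nat.div_one]
    omega

theorem pk_dig (X : ℕ) (h : X < 256 ^ 64) : pk 64 (dig X) = X := pk_dig_aux 64 X h

theorem dig_pk (f : Fin 64 → ℕ) (hf : ∀ r, f r < 256) (r : Fin 64) : dig (pk 64 f) r = f r :=
  pk_inj 64 _ _ (fun r => dig_lt _ r) hf (pk_dig _ (pk_lt 64 f hf)) r

/-- the least square of an integer with a given residue modulo 4 -/
def w2 (a : ℕ) : ℕ := if a % 2 = 1 then 1 else if a % 4 = 2 then 4 else 0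

theorem byte_identity : ∀ (a : Fin 4) (o m1 m2 : Fin 2), m1.val + m2.val ≤ o.val →
    Nat.land a.val m1.val + Nat.land a.val (2 * m2.val) +
      (Nat.land (a.val + o.val) (2 * m2.val) + Nat.land (Nat.xor a.val o.val) m2.val) =
      m1.val * (a.val % 2) + m2.val * (w2 a.val + 1) := by
  decide

theorem byte_identity' (a o m1 m2 : ℕ) (ha : a < 4) (ho : o ≤ 1) (h1 : m1 ≤ 1) (h2 : m2 ≤ 1)
    (h : m1 + m2 ≤ o) :
    Nat.land a m1 + Nat.land a (2 * m2) + (Nat.land (a + o) (2 * m2) + Nat.land (Nat.xor a o) m2) =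
      m1 * (a % 2) + m2 * (w2 a + 1) :=
  byte_identity ⟨a, ha⟩ ⟨o, by omega⟩ ⟨m1, by omega⟩ ⟨m2, by omega⟩ h

/-- the data of a step are well formed -/
def StepOK (s : Step) : Prop :=
  s.g < 256 ^ 64 ∧ s.k1 < 256 ^ 64 ∧ s.k2a < 256 ^ 64 ∧ s.k2b < 256 ^ 64 ∧
  (∀ r : Fin 64, dig s.g r < 4 ∧ dig s.k1 r ≤ 1 ∧ dig s.k2a r ≤ 1 ∧ dig s.k2b r = 2 * dig s.k2a r ∧
    dig s.k1 r + dig s.k2a r ≤ dig ONES r) ∧
  s.bd = 16 + ∑ r : Fin 64, dig s.k2a r

instance (s : Step) : Decidable (StepOK s) := by unfold StepOK; infer_instance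

/-- a later generator respects the masks of an earlier step -/
def Compat (s t : Step) : Prop :=
  ∀ r : Fin 64, (dig s.k1 r = 1 → dig t.g r % 2 = 0) ∧ (dig s.k2a r = 1 → dig t.g r = 0)

instance (s t : Step) : Decidable (Compat s t) := by unfold Compat; infer_instance

/-- all steps are well formed and compatible -/
def StepsOK : List Step → Prop
  | [] => True
  | s :: rest => StepOK s ∧ (∀ t ∈ rest, Compat s t) ∧ StepsOK rest

instance : ∀ l : List Step, Decidable (StepsOK l)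
  | [] => by unfold StepsOK; infer_instance
  | s :: rest => by
    unfold StepsOK
    have := instDecidableStepsOK rest
    infer_instance

theorem dig_ONES_le (r : Fin 64) : dig ONES r ≤ 1 := by
  revert r
  decide

theorem ONES_lt : ONES < 256 ^ 64 := by decide

theorem M3_eq : M3 = pk 64 (fun _ => 3) := by decide

/-- the packed bound is the sum of the bytewise bounds -/
theorem lbF_pk (s : Step) (hs : StepOK s) (S : Fin 64 → ℕ) (hS : ∀ r, S r < 4)
    (hsum : ∑ r, (dig s.k1 r * (S r % 2) + dig s.k2a r * (w2 (S r) + 1)) < 256) :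
    lbF s (pk 64 S) = ∑ r, (dig s.k1 r * (S r % 2) + dig s.k2a r * (w2 (S r) + 1)) := by
  obtain ⟨hg, hk1, hk2a, hk2b, hr, _⟩ := hs
  have hS' : ∀ r, S r < 256 := fun r => lt_trans (hS r) (by decide)
  unfold lbF
  conv_lhs =>
    rw [← pk_dig s.k1 hk1, ← pk_dig s.k2b hk2b, ← pk_dig s.k2a hk2a, ← pk_dig ONES ONES_lt]
  have ho : ∀ r, dig ONES r ≤ 1 := dig_ONES_le
  rw [land_pk 64 S _ hS' (fun r => dig_lt _ r), land_pk 64 S _ hS' (fun r => dig_lt _ r)]
  have e1 : Nat.add (pk 64 S) (pk 64 (dig ONES)) = pk 64 (fun r => S r + dig ONES r) := pk_add 64 _ _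
  rw [e1, land_pk 64 _ _ (fun r => by have := hS r; have := ho r; omega) (fun r => dig_lt _ r)]
  rw [xor_pk 64 S _ hS' (fun r => dig_lt _ r)]
  have hx : ∀ r, Nat.xor (S r) (dig ONES r) < 256 := by
    intro r
    have h1 : S r < 2 ^ 8 := hS' r
    have h2 : dig ONES r < 2 ^ 8 := dig_lt _ r
    exact Nat.xor_lt_two_pow h1 h2
  rw [land_pk 64 _ _ hx (fun r => dig_lt _ r)]
  have e2 : ∀ a b : ℕ, Nat.add a b = a + b := fun _ _ => rfl
  rw [e2, e2, e2, pk_add, pk_add, pk_add]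
  have e3 : (fun r => Nat.land (S r) (dig s.k1 r) + Nat.land (S r) (dig s.k2b r) +
      (Nat.land (S r + dig ONES r) (dig s.k2b r) + Nat.land (Nat.xor (S r) (dig ONES r)) (dig s.k2a r))) =
      fun r => dig s.k1 r * (S r % 2) + dig s.k2a r * (w2 (S r) + 1) := by
    funext r
    obtain ⟨_, h1, h2, h3, h4⟩ := hr r
    rw [h3]
    exact byte_identity' (S r) (dig ONES r) (dig s.k1 r) (dig s.k2a r) (hS r) (ho r) h1 h2 h4
  rw [e3]
  exact hsum_pk _ hsum

/-- adding a generator, bytewise -/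
theorem addG_pk (S γ : Fin 64 → ℕ) (hS : ∀ r, S r < 4) (hγ : ∀ r, γ r < 4) :
    addG (pk 64 S) (pk 64 γ) = pk 64 (fun r => (S r + γ r) % 4) := by
  unfold addG
  have e1 : Nat.add (pk 64 S) (pk 64 γ) = pk 64 (fun r => S r + γ r) := pk_add 64 _ _
  rw [e1, M3_eq, land_pk 64 _ _ (fun r => by have := hS r; have := hγ r; omega) (fun _ => by decide)]
  apply pk_congr
  intro r
  show (S r + γ r) &&& 3 = (S r + γ r) % 4
  exact Nat.and_two_pow_sub_one_eq_mod _ 2

end Cfsg.Agent.Lib.Helper8.Ru2
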