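import Cfsg.Agent.Lib.Helper8.Ru2.DfsSound

/-!
Soundness of the packed search, second part: the path of a vector of norm 16 is never pruned. (helper8)
-/

set_option autoImplicit false

namespace Cfsg.Agent.Lib.Helper8.Ru2

open Cfsg.Spor Cfsg.Agent.Lib.Helper8.RuLat

theorem w2_le_sq (z : ℤ) (a : ℕ) (ha : a < 4) (h : (4 : ℤ) ∣ z - a) : ((w2 a : ℕ) : ℤ) ≤ z * z := by
  obtain ⟨k, hk⟩ := h
  interval_cases a
  · simp [w2]
    exact mul_self_nonneg z
  · have hz : z ≤ -1 ∨ 1 ≤ z := by omega
    simp [w2]
    rcases hz with hz | hz <;> nlinarith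
  · have hz : z ≤ -2 ∨ 2 ≤ z := by omega
    simp [w2]
    rcases hz with hz | hz <;> nlinarith
  · have hz : z ≤ -1 ∨ 1 ≤ z := by omega
    simp [w2]
    rcases hz with hz | hz <;> nlinarith

theorem par_le_sq (z : ℤ) (a : ℕ) (h : (2 : ℤ) ∣ z - a) : ((a % 2 : ℕ) : ℤ) ≤ z * z := by
  obtain ⟨k, hk⟩ := h
  rcases Nat.mod_two_eq_zero_or_one a with h0 | h1
  · rw [h0]
    simpa using mul_self_nonneg z
  · rw [h1]
    have hz : z ≤ -1 ∨ 1 ≤ z := by omega
    rcases hz with hz | hz <;> push_cast <;> nlinarith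

theorem term_le (z : ℤ) (a m1 m2 : ℕ) (ha : a < 4) (h12 : m1 + m2 ≤ 1)
    (hm1 : m1 = 1 → (2 : ℤ) ∣ z - a) (hm2 : m2 = 1 → (4 : ℤ) ∣ z - a) :
    ((m1 * (a % 2) + m2 * (w2 a + 1) : ℕ) : ℤ) ≤ z * z + m2 := by
  have hz := mul_self_nonneg z
  have c : (m1 = 0 ∧ m2 = 0) ∨ (m1 = 1 ∧ m2 = 0) ∨ (m1 = 0 ∧ m2 = 1) := by omega
  rcases c with ⟨e1, e2⟩ | ⟨e1, e2⟩ | ⟨e1, e2⟩
  · subst e1 e2
    simpa using hz
  · subst e1 e2
    have := par_le_sq z a (hm1 rfl)
    simpa using this
  · subst e1 e2
    have := w2_le_sq z a ha (hm2 rfl)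
    push_cast at this ⊢
    linarith

/-- the contribution of the later generators -/
def zipSum : List Bool → List Step → Fin 64 → ℤ
  | b :: bs, s :: rest, r => (cond b (dig s.g r : ℤ) 0) + zipSum bs rest r
  | _, _, _ => 0

theorem zipSum_even (s : Step) : ∀ (rest : List Step), (∀ t ∈ rest, Compat s t) → ∀ (bits : List Bool)
    (r : Fin 64), dig s.k1 r = 1 → (2 : ℤ) ∣ zipSum bits rest r := by
  intro rest
  induction rest with
  | nil =>
    intro _ bits r _
    cases bits <;> simp [zipSum]
  | cons t rest ih =>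
    intro h bits r h1
    cases bits with
    | nil => simp [zipSum]
    | cons b bs =>
      have ht := (h t List.mem_cons_self r).1 h1
      have := ih (fun t' ht' => h t' (List.mem_cons_of_mem _ ht')) bs r h1
      unfold zipSum
      apply dvd_add _ this
      cases b
      · simp
      · simp only [cond_true]
        exact_mod_cast (Nat.dvd_of_mod_eq_zero ht)

theorem zipSum_zero (s : Step) : ∀ (rest : List Step), (∀ t ∈ rest, Compat s t) → ∀ (bits : List Bool)
    (r : Fin 64), dig s.k2a r = 1 → zipSum bits rest r = 0 := by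
  intro rest
  induction rest with
  | nil =>
    intro _ bits r _
    cases bits <;> simp [zipSum]
  | cons t rest ih =>
    intro h bits r h1
    cases bits with
    | nil => simp [zipSum]
    | cons b bs =>
      have ht := (h t List.mem_cons_self r).2 h1
      have := ih (fun t' ht' => h t' (List.mem_cons_of_mem _ ht')) bs r h1
      unfold zipSum
      rw [this, ht]
      cases b <;> simp

theorem sum_k2a_le (s : Step) (hs : StepOK s) : ∑ r : Fin 64, dig s.k2a r ≤ 64 := by
  have : ∑ r : Fin 64, dig s.k2a r ≤ ∑ _r : Fin 64, 1 :=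
    Finset.sum_le_sum fun r _ => (hs.2.2.2.2.1 r).2.2.1
  simpa using this

attribute [local irreducible] lbF okF addG hsum dfsG

/-- a state that is congruent to the vector up to the later generators passes the test -/
theorem step_ok (x : RuVec) (hn : ruNorm x = 16) (s : Step) (hs : StepOK s) (rest : List Step)
    (hcomp : ∀ t ∈ rest, Compat s t) (bs : List Bool) (S' : Fin 64 → ℕ) (hS'4 : ∀ r, S' r < 4)
    (hc' : ∀ r, (4 : ℤ) ∣ rc x r - ((S' r : ℤ) + zipSum bs rest r)) : okF s (pk 64 S') = true := by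
  have hterm : ∀ r, ((dig s.k1 r * (S' r % 2) + dig s.k2a r * (w2 (S' r) + 1) : ℕ) : ℤ) ≤
      rc x r * rc x r + (dig s.k2a r : ℕ) := by
    intro r
    obtain ⟨_, h1, h2, _, h4⟩ := hs.2.2.2.2.1 r
    have ho := dig_ONES_le r
    refine term_le (rc x r) (S' r) (dig s.k1 r) (dig s.k2a r) (hS'4 r) (by omega) ?_ ?_
    · intro hm
      have := zipSum_even s rest hcomp bs r hm
      have := hc' r
      omega
    · intro hm
      have := zipSum_zero s rest hcomp bs r hm
      have := hc' r
      omega
  have hT : ((∑ r, (dig s.k1 r * (S' r % 2) + dig s.k2a r * (w2 (S' r) + 1)) : ℕ) : ℤ) ≤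
      16 + ((∑ r : Fin 64, dig s.k2a r : ℕ) : ℤ) := by
    push_cast
    have := Finset.sum_le_sum (s := (Finset.univ : Finset (Fin 64))) fun r _ => hterm r
    rw [Finset.sum_add_distrib, ← ruNorm_rc, hn] at this
    push_cast at this
    exact this
  have hT' : ∑ r, (dig s.k1 r * (S' r % 2) + dig s.k2a r * (w2 (S' r) + 1)) ≤
      16 + ∑ r : Fin 64, dig s.k2a r := by exact_mod_cast hT
  have h64 := sum_k2a_le s hs
  have hlb := lbF_pk s hs S' hS'4 (by omega)
  have e : okF s (pk 64 S') = Nat.ble (lbF s (pk 64 S')) s.bd := by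
    unfold okF
    rfl
  rw [e, hlb, hs.2.2.2.2.2]
  exact Nat.ble_eq_true_of_le hT'

theorem state_false (S : Fin 64 → ℕ) (hS : ∀ r, S r < 4) : pk 64 S = pk 64 (fun r => (S r + 0) % 4) := by
  apply pk_congr
  intro r
  have := hS r
  omega

theorem state_true (S : Fin 64 → ℕ) (hS : ∀ r, S r < 4) (s : Step) (hs : StepOK s) :
    addG (pk 64 S) s.g = pk 64 (fun r => (S r + dig s.g r) % 4) := by
  have e : addG (pk 64 S) s.g = addG (pk 64 S) (pk 64 (dig s.g)) := by rw [pk_dig s.g hs.1]
  rw [e, addG_pk S (dig s.g) hS (fun r => (hs.2.2.2.2.1 r).1)]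

theorem zipSum_cons (b : Bool) (bs : List Bool) (s : Step) (rest : List Step) (r : Fin 64) :
    zipSum (b :: bs) (s :: rest) r = (cond b (dig s.g r : ℤ) 0) + zipSum bs rest r := rfl

theorem zipSum_nil (r : Fin 64) : zipSum [] [] r = 0 := rfl

/-- the path of a vector of norm 16 is never pruned, and ends at its residues modulo 4 -/
theorem lat_sound (x : RuVec) (hn : ruNorm x = 16) : ∀ (steps : List Step), StepsOK steps →
    ∀ (bits : List Bool) (S : Fin 64 → ℕ) (X : ℕ), X = pk 64 S → bits.length = steps.length →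
    (∀ r, S r < 4) → (∀ r, (4 : ℤ) ∣ rc x r - ((S r : ℤ) + zipSum bits steps r)) →
    PathOK okF addG steps bits X ∧
      finalState addG steps bits X = pk 64 (fun r => (rc x r % 4).toNat) := by
  intro steps
  induction steps with
  | nil =>
    intro _ bits S X hX hl hS hc
    have : bits = [] := List.length_eq_zero_iff.1 hl
    subst this
    rw [PathOK_nil, finalState_nil]
    refine ⟨trivial, ?_⟩
    rw [hX]
    apply pk_congr
    intro r
    have h1 := hc r
    have h2 := hS r
    rw [zipSum_nil, add_zero] at h1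
    omega
  | cons s rest ih =>
    intro hok bits S X hX hl hS hc
    obtain ⟨hs, hcomp, hrest⟩ := hok
    cases bits with
    | nil => simp at hl
    | cons b bs =>
      have hl' : bs.length = rest.length := by simpa using hl
      cases b
      · -- bit 0
        rw [PathOK_cons_false, finalState_cons_false]
        have hS'4 : ∀ r, (S r + 0) % 4 < 4 := fun r => Nat.mod_lt _ (by decide)
        have hc' : ∀ r, (4 : ℤ) ∣ rc x r - ((((S r + 0) % 4 : ℕ) : ℤ) + zipSum bs rest r) := by
          intro r
          have h1 := hc r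
          rw [zipSum_cons] at h1
          have := hS r
          simp only [cond_false] at h1
          omega
        have hX' : X = pk 64 (fun r => (S r + 0) % 4) := hX.trans (state_false S hS)
        obtain ⟨ih1, ih2⟩ := ih hrest bs _ X hX' hl' hS'4 hc'
        have hok : okF s X = true := by
          rw [hX']
          exact step_ok x hn s hs rest hcomp bs _ hS'4 hc'
        exact ⟨⟨hok, ih1⟩, ih2⟩
      · -- bit 1
        rw [PathOK_cons_true, finalState_cons_true]
        have hS'4 : ∀ r, (S r + dig s.g r) % 4 < 4 := fun r => Nat.mod_lt _ (by decide)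
        have hc' : ∀ r, (4 : ℤ) ∣ rc x r - ((((S r + dig s.g r) % 4 : ℕ) : ℤ) + zipSum bs rest r) := by
          intro r
          have h1 := hc r
          rw [zipSum_cons] at h1
          simp only [cond_true] at h1
          omega
        have hX' : addG X s.g = pk 64 (fun r => (S r + dig s.g r) % 4) := by
          rw [hX]
          exact state_true S hS s hs
        generalize addG X s.g = X' at hX' ⊢
        obtain ⟨ih1, ih2⟩ := ih hrest bs _ X' hX' hl' hS'4 hc'
        have hok : okF s X' = true := by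
          rw [hX']
          exact step_ok x hn s hs rest hcomp bs _ hS'4 hc'
        exact ⟨⟨hok, ih1⟩, ih2⟩

end Cfsg.Agent.Lib.Helper8.Ru2
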