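import Cfsg.Agent.Lib.Helper8.Ru2.Hom

/-!
The Rudvalis group `Ru` (the automorphism group of the lattice modulo its centre) is isomorphic to the
presented group `P5`: the centre has order 4, `Ru` has order 145926144000 and is simple. (helper8)
-/

set_option autoImplicit false

namespace Cfsg.Agent.Lib.Helper8.Ru2

open Cfsg.Spor Cfsg.Agent.Lib.Helper8.RuLat Cfsg.Agent.Lib.Helper6.RuSub Cfsg.Agent.Lib.Helper6

set_option maxRecDepth 1000000 in
theorem xy_ne_yx : actM (MR 0) (actM (MR 1) (wv 1)) ≠ actM (MR 1) (actM (MR 0) (wv 1)) := by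
  decide +kernel

theorem genAut_not_central : genAut 0 ∉ Subgroup.center fourRu := by
  intro h
  rw [Subgroup.mem_center_iff] at h
  have h1 := h (genAut 1)
  have h2 : (((genAut 1 * genAut 0).1 (wL 1) : ruLattice) : RuVec) =
      (((genAut 0 * genAut 1).1 (wL 1) : ruLattice) : RuVec) := by rw [h1]
  exact xy_ne_yx h2.symm

theorem ruHom_injective : Function.Injective ruHom := by
  have := RuSimple.main.1
  rw [← MonoidHom.ker_eq_bot_iff]
  rcases IsSimpleGroup.eq_bot_or_eq_top_of_normal ruHom.ker (MonoidHom.normal_ker _) with h | h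
  · exact h
  · exfalso
    have h1 : (PresentedGroup.of P5.Gen.x : P5) ∈ ruHom.ker := by
      rw [h]
      exact Subgroup.mem_top _
    rw [MonoidHom.mem_ker, ruHom_of] at h1
    exact genAut_not_central ((QuotientGroup.eq_one_iff _).1 h1)

/-- multiplication by `i`, in the centre -/
def zI : Subgroup.center fourRu := ⟨iAut, iAut_central⟩

theorem zI_order : orderOf zI = 4 := by
  have h2 : ¬ zI ^ 2 ^ 1 = 1 := by
    intro h
    have h' : (zI ^ 2 ^ 1 : Subgroup.center fourRu).1 = 1 := by rw [h]; rfl
    have : (iAut * iAut : fourRu) = 1 := by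
      rw [← h']
      show iAut * iAut = iAut ^ 2 ^ 1
      rw [pow_one, pow_two]
    exact negAut_ne_one this
  have h4 : zI ^ 2 ^ (1 + 1) = 1 := by
    apply Subtype.ext
    show iAut ^ 2 ^ (1 + 1) = 1
    have e : iAut ^ 2 ^ (1 + 1) = (iAut * iAut) * (iAut * iAut) := by
      rw [show (2 : ℕ) ^ (1 + 1) = 4 from rfl, pow_succ, pow_succ, pow_succ, pow_one, mul_assoc]
    rw [e]
    exact negAut_mul_self
  have : Fact (Nat.Prime 2) := ⟨Nat.prime_two⟩
  have := orderOf_eq_prime_pow h2 h4
  rw [this]
  rfl

theorem card_facts : Nat.card (Subgroup.center fourRu) = 4 ∧ Nat.card Ru = 145926144000 := by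
  obtain ⟨hfin, hle⟩ := fourRu_card_le
  have := hfin
  have hP := RuSimple.main.2
  have hcard := Subgroup.card_eq_card_quotient_mul_card_subgroup (Subgroup.center fourRu)
  have hdiv : Nat.card P5 ∣ Nat.card Ru := by
    have e : Nat.card ruHom.range = Nat.card P5 :=
      Nat.card_congr (MonoidHom.ofInjective ruHom_injective).toEquiv.symm
    rw [← e]
    exact Subgroup.card_subgroup_dvd_card _
  have h4 : 4 ∣ Nat.card (Subgroup.center fourRu) := by
    rw [← zI_order]
    exact orderOf_dvd_natCard zI
  have hRpos : 0 < Nat.card Ru := Nat.card_pos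
  have hZpos : 0 < Nat.card (Subgroup.center fourRu) := Nat.card_pos
  obtain ⟨a, ha⟩ := hdiv
  obtain ⟨b, hb⟩ := h4
  rw [hP] at ha
  have ha1 : 1 ≤ a := by
    rcases Nat.eq_zero_or_pos a with h | h
    · rw [h, mul_zero] at ha
      omega
    · exact h
  have hb1 : 1 ≤ b := by
    rcases Nat.eq_zero_or_pos b with h | h
    · rw [h, mul_zero] at hb
      omega
    · exact h
  have hprod : 145926144000 * a * (4 * b) ≤ 16257 * 2304 * 78 * 25 * 8 := by
    have : Nat.card Ru * Nat.card (Subgroup.center fourRu) = 145926144000 * a * (4 * b) := by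
      rw [ha, hb]
    rw [← this, ← hcard]
    exact hle
  have hab : a * b < 2 := by
    by_contra hcon
    have h2 : 2 ≤ a * b := not_lt.1 hcon
    have : 145926144000 * a * (4 * b) = 583704576000 * (a * b) := by ring
    rw [this] at hprod
    have := Nat.mul_le_mul_left 583704576000 h2
    omega
  have ha' : a = 1 := by
    by_contra hcon
    have h2 : 2 ≤ a := by omega
    have := Nat.mul_le_mul h2 hb1
    omega
  have hb' : b = 1 := by
    by_contra hcon
    have h2 : 2 ≤ b := by omega
    have := Nat.mul_le_mul ha1 h2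
    omega
  rw [ha', mul_one] at ha
  rw [hb', mul_one] at hb
  exact ⟨hb, ha⟩

theorem ruHom_bijective : Function.Bijective ruHom := by
  have : Finite fourRu := fourRu_card_le.1
  have : Finite Ru := inferInstance
  exact (Nat.bijective_iff_injective_and_card ruHom).2
    ⟨ruHom_injective, by rw [RuSimple.main.2, card_facts.2]⟩

/-- **the Rudvalis group of the lattice is the presented group `P5`** -/
noncomputable def ruIso : Ru ≃* P5 := (MulEquiv.ofBijective ruHom ruHom_bijective).symm

theorem ru_simple : IsSimpleGroup Ru := by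
  have := RuSimple.main.1
  exact ruIso.isSimpleGroup

/-- the centre of the automorphism group has order 4; `Ru` has order 145926144000 and is simple -/
theorem ru_main : Nat.card (Subgroup.center fourRu) = 4 ∧ Nat.card Ru = 145926144000 ∧ IsSimpleGroup Ru :=
  ⟨card_facts.1, card_facts.2, ru_simple⟩

end Cfsg.Agent.Lib.Helper8.Ru2
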