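import Cfsg.Agent.Lib.Helper8.Ru2.GensData
import Cfsg.Agent.Lib.Helper8.Ru2.Aut

/-!
An automorphism of the Rudvalis lattice from a Hermitian matrix `A` with `A² = 16`, rows in the lattice,
mapping the basis vectors into 4 times the lattice: `v ↦ A v / 4`. (helper8)
-/

set_option autoImplicit false

namespace Cfsg.Agent.Lib.Helper8.Ru2

open Cfsg.Spor Cfsg.Agent.Lib.Helper8.RuLat

/-- componentwise division by 4 -/
def dv4 (z : GaussianInt) : GaussianInt := ⟨z.re / 4, z.im / 4⟩

theorem dv4_four_mul (z : GaussianInt) : dv4 (4 * z) = z := by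
  have h4r : (4 : GaussianInt).re = 4 := rfl
  have h4i : (4 : GaussianInt).im = 0 := rfl
  apply Zsqrtd.ext
  · show (4 * z).re / 4 = z.re
    rw [Zsqrtd.re_mul, h4r, h4i]
    omega
  · show (4 * z).im / 4 = z.im
    rw [Zsqrtd.im_mul, h4r, h4i]
    omega

theorem four_mul_dv4 (z : GaussianInt) (h : (4 : GaussianInt) ∣ z) : 4 * dv4 z = z := by
  obtain ⟨w, rfl⟩ := h
  rw [dv4_four_mul]

/-- a matrix times a vector -/
def mulVec (A : RuIdx → RuIdx → GaussianInt) (v : RuVec) : RuVec := fun p => ∑ q, A p q * v q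

/-- a matrix times a vector, divided by 4 -/
def actM (A : RuIdx → RuIdx → GaussianInt) (v : RuVec) : RuVec := fun p => dv4 (mulVec A v p)

theorem mulVec_add (A : RuIdx → RuIdx → GaussianInt) (v w : RuVec) :
    mulVec A (v + w) = mulVec A v + mulVec A w := by
  funext p
  simp only [mulVec, Pi.add_apply, mul_add, Finset.sum_add_distrib]

theorem mulVec_smul (A : RuIdx → RuIdx → GaussianInt) (c : GaussianInt) (v : RuVec) :
    mulVec A (c • v) = c • mulVec A v := by
  funext p
  simp only [mulVec, Pi.smul_apply, smul_eq_mul, Finset.mul_sum]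
  refine Finset.sum_congr rfl fun q _ => ?_
  ring

theorem cancel4 {x y : RuVec} (h : (4 : GaussianInt) • x = (4 : GaussianInt) • y) : x = y := by
  funext p
  have := congrFun h p
  simp only [Pi.smul_apply, smul_eq_mul] at this
  exact mul_left_cancel₀ (by decide) this

theorem mulVec_eq_herm (A : RuIdx → RuIdx → GaussianInt) (v : RuVec) (p : RuIdx) :
    mulVec A v p = herm v (fun q => star (A p q)) := by
  unfold mulVec herm
  refine Finset.sum_congr rfl fun q _ => ?_
  rw [star_star, mul_comm]

theorem norm_four : (4 : GaussianInt).norm = 16 := by decide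

/-- the conditions on the matrix -/
structure GoodMat (A : RuIdx → RuIdx → GaussianInt) : Prop where
  hermA : ∀ p q, A q p = star (A p q)
  sq : ∀ p q, ∑ r, A p r * A r q = if p = q then 16 else 0
  rows : ∀ p, (fun q => star (A p q)) ∈ ruLattice
  img : ∀ l, ∃ c ∈ ruLattice, mulVec A (ruB l) = (4 : GaussianInt) • c

section

variable {A : RuIdx → RuIdx → GaussianInt} (h : GoodMat A)

include h

theorem four_dvd_mulVec {v : RuVec} (hv : v ∈ ruLattice) (p : RuIdx) : (4 : GaussianInt) ∣ mulVec A v p := by
  rw [mulVec_eq_herm]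
  exact four_dvd_herm hv (h.rows p)

theorem four_smul_actM {v : RuVec} (hv : v ∈ ruLattice) : (4 : GaussianInt) • actM A v = mulVec A v := by
  funext p
  exact four_mul_dv4 _ (four_dvd_mulVec h hv p)

theorem herm_mulVec (v w : RuVec) : herm (mulVec A v) w = herm v (mulVec A w) := by
  unfold herm mulVec
  have e1 : ∀ p, (∑ q, A p q * v q) * star (w p) = ∑ q, A p q * v q * star (w p) := fun p =>
    Finset.sum_mul _ _ _
  have e2 : ∀ q, v q * star (∑ p, A q p * w p) = ∑ p, A p q * v q * star (w p) := by
    intro q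
    rw [star_sum, Finset.mul_sum]
    refine Finset.sum_congr rfl fun p _ => ?_
    rw [star_mul', h.hermA p q, star_star]
    ring
  rw [Finset.sum_congr rfl fun p _ => e1 p, Finset.sum_congr rfl fun q _ => e2 q, Finset.sum_comm]

theorem mulVec_mulVec (v : RuVec) : mulVec A (mulVec A v) = (16 : GaussianInt) • v := by
  funext p
  unfold mulVec
  have e1 : ∀ r, A p r * ∑ q, A r q * v q = ∑ q, A p r * A r q * v q := by
    intro r
    rw [Finset.mul_sum]
    refine Finset.sum_congr rfl fun q _ => ?_
    ring
  rw [Finset.sum_congr rfl fun r _ => e1 r, Finset.sum_comm]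
  have e2 : ∀ q, ∑ r, A p r * A r q * v q = (if p = q then 16 else 0) * v q := by
    intro q
    rw [← Finset.sum_mul, h.sq p q]
  rw [Finset.sum_congr rfl fun q _ => e2 q, Finset.sum_eq_single p]
  · rw [if_pos rfl]
    rfl
  · intro b _ hb
    rw [if_neg (Ne.symm hb), zero_mul]
  · intro hp
    exact absurd (Finset.mem_univ _) hp

theorem actM_mem {v : RuVec} (hv : v ∈ ruLattice) : actM A v ∈ ruLattice := by
  rw [mem_ruLattice_iff]
  intro l
  obtain ⟨c, hc, hcl⟩ := h.img l
  have key : 4 * herm (actM A v) (ruB l) = 4 * herm v c := by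
    rw [← herm_smul_left, four_smul_actM h hv, herm_mulVec h, hcl, herm_smul_right, star_four]
  rw [mul_left_cancel₀ (by decide) key]
  exact four_dvd_herm hv hc

theorem actM_invol {v : RuVec} (hv : v ∈ ruLattice) : actM A (actM A v) = v := by
  apply cancel4
  apply cancel4
  rw [four_smul_actM h (actM_mem h hv), ← mulVec_smul, four_smul_actM h hv, mulVec_mulVec h, smul_smul]
  rfl

theorem actM_add {v w : RuVec} (hv : v ∈ ruLattice) (hw : w ∈ ruLattice) :
    actM A (v + w) = actM A v + actM A w := by
  apply cancel4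
  rw [four_smul_actM h (ruLattice.add_mem hv hw), smul_add, four_smul_actM h hv, four_smul_actM h hw,
    mulVec_add]

theorem actM_gI {v : RuVec} (hv : v ∈ ruLattice) : actM A (gI • v) = gI • actM A v := by
  apply cancel4
  rw [four_smul_actM h (gI_smul_mem_ruLattice hv), smul_comm, four_smul_actM h hv, mulVec_smul]

theorem actM_norm {v : RuVec} (hv : v ∈ ruLattice) : ruNorm (actM A v) = ruNorm v := by
  have h1 : ruNorm ((4 : GaussianInt) • actM A v) = 16 * ruNorm (actM A v) := by
    rw [ruNorm_smul, norm_four]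
  have h2 : ruNorm (mulVec A v) = 16 * ruNorm v := by
    rw [ruNorm_eq_herm, herm_mulVec h, mulVec_mulVec h, herm_smul_right, ruNorm_eq_herm]
    have : star (16 : GaussianInt) = 16 := by decide
    rw [this]
    have h16r : (16 : GaussianInt).re = 16 := rfl
    have h16i : (16 : GaussianInt).im = 0 := rfl
    rw [Zsqrtd.re_mul, h16r, h16i]
    ring
  rw [four_smul_actM h hv, h2] at h1
  omega

/-- the automorphism -/
def mkAut : fourRu :=
  ⟨{ toFun := fun v => ⟨actM A v.1, actM_mem h v.2⟩
     invFun := fun v => ⟨actM A v.1, actM_mem h v.2⟩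
     left_inv := fun v => Subtype.ext (actM_invol h v.2)
     right_inv := fun v => Subtype.ext (actM_invol h v.2) },
   (mem_fourRu _).2 ⟨fun v w => Subtype.ext (actM_add h v.2 w.2), fun v => Subtype.ext (actM_gI h v.2),
    fun v => actM_norm h v.2⟩⟩

theorem mkAut_apply (v : ruLattice) : (((mkAut h).1 v : ruLattice) : RuVec) = actM A v.1 := rfl

theorem mkAut_mul_self : mkAut h * mkAut h = 1 := by
  apply Subtype.ext
  apply Equiv.ext
  intro v
  exact Subtype.ext (actM_invol h v.2)

end

end Cfsg.Agent.Lib.Helper8.Ru2
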