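import Cfsg.Agent.Lib.Helper8.Ru2.GenAut

/-!
The five matrices satisfy the conditions: five automorphisms of the Rudvalis lattice. (helper8)
-/

set_option autoImplicit false

namespace Cfsg.Agent.Lib.Helper8.Ru2

open Cfsg.Spor Cfsg.Agent.Lib.Helper8.RuLat

/-- the five matrices, indexed by the coordinates -/
def MR (g : Fin 5) : RuIdx → RuIdx → GaussianInt := fun p q => gM g (idx28 p) (idx28 q)

set_option maxRecDepth 1000000 in
theorem MR_herm : ∀ (g : Fin 5) (p q : RuIdx), MR g q p = star (MR g p q) := by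
  decide +kernel

set_option maxRecDepth 1000000 in
theorem MR_sq : ∀ (g : Fin 5) (p q : RuIdx), ∑ r, MR g p r * MR g r q = if p = q then 16 else 0 := by
  decide +kernel

set_option maxRecDepth 1000000 in
theorem MR_rows : ∀ (g : Fin 5) (p : RuIdx) (l : Fin 19),
    (4 : ℤ) ∣ (herm (fun q => star (MR g p q)) (ruB l)).re ∧
    (4 : ℤ) ∣ (herm (fun q => star (MR g p q)) (ruB l)).im := by
  decide +kernel

set_option maxRecDepth 1000000 in
theorem MR_img : ∀ (g : Fin 5) (l : Fin 19) (p : RuIdx), mulVec (MR g) (ruB l) p = 4 * gC g l p := by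
  decide +kernel

set_option maxRecDepth 1000000 in
theorem gC_div : ∀ (g : Fin 5) (l j : Fin 19),
    (4 : ℤ) ∣ (herm (gC g l) (ruB j)).re ∧ (4 : ℤ) ∣ (herm (gC g l) (ruB j)).im := by
  decide +kernel

theorem MR_good (g : Fin 5) : GoodMat (MR g) where
  hermA := MR_herm g
  sq := MR_sq g
  rows := fun p => (mem_ruLattice_iff _).2 fun l => (four_dvd_iff _).2 (MR_rows g p l)
  img := fun l => ⟨gC g l, (mem_ruLattice_iff _).2 fun j => (four_dvd_iff _).2 (gC_div g l j),
    funext fun p => MR_img g l p⟩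

/-- the five automorphisms -/
def genAut (g : Fin 5) : fourRu := mkAut (MR_good g)

theorem genAut_apply (g : Fin 5) (v : ruLattice) :
    (((genAut g).1 v : ruLattice) : RuVec) = actM (MR g) v.1 := rfl

theorem genAut_mul_self (g : Fin 5) : genAut g * genAut g = 1 := mkAut_mul_self (MR_good g)

end Cfsg.Agent.Lib.Helper8.Ru2
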