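import Cfsg.Agent.Lib.Helper8.RuLat.MemM

/-!
Data for the 2-adic description of the Rudvalis lattice: 19 vectors `gA` and 37 even vectors `gB` which,
with `4 ℤ[i]²⁸`, generate the lattice, in echelon form with respect to two orderings of the 56 real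
coordinates; their expressions by the check vectors; bit masks for the two binary codes. Generated by a
script. (helper8)
-/

set_option autoImplicit false

namespace Cfsg.Agent.Lib.Helper8.Ru2

open Cfsg.Spor Cfsg.Agent.Lib.Helper8.RuLat

/-- the odd generators -/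
def gA : Fin 19 → RuVec := ![
  ruOfArray ![![⟨3, 2⟩, ⟨0, 2⟩, ⟨2, 1⟩, ⟨2, 2⟩], ![⟨2, 1⟩, ⟨3, 0⟩, ⟨0, 3⟩, ⟨3, 2⟩], ![⟨0, 0⟩, ⟨3, 0⟩, ⟨2, 3⟩, ⟨0, 0⟩], ![⟨0, 3⟩, ⟨2, 3⟩, ⟨0, 0⟩, ⟨2, 0⟩], ![⟨0, 3⟩, ⟨1, 2⟩, ⟨2, 2⟩, ⟨2, 0⟩], ![⟨1, 2⟩, ⟨0, 0⟩, ⟨1, 2⟩, ⟨2, 0⟩], ![⟨3, 2⟩, ⟨0, 0⟩, ⟨0, 0⟩, ⟨0, 1⟩]],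
  ruOfArray ![![⟨0, 2⟩, ⟨1, 3⟩, ⟨1, 2⟩, ⟨1, 0⟩], ![⟨3, 0⟩, ⟨3, 0⟩, ⟨3, 3⟩, ⟨0, 2⟩], ![⟨1, 1⟩, ⟨1, 0⟩, ⟨2, 2⟩, ⟨1, 2⟩], ![⟨2, 1⟩, ⟨1, 3⟩, ⟨3, 1⟩, ⟨1, 0⟩], ![⟨2, 1⟩, ⟨2, 2⟩, ⟨1, 0⟩, ⟨0, 2⟩], ![⟨1, 3⟩, ⟨2, 0⟩, ⟨2, 2⟩, ⟨0, 0⟩], ![⟨1, 0⟩, ⟨0, 0⟩, ⟨0, 0⟩, ⟨1, 0⟩]],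
  ruOfArray ![![⟨1, 2⟩, ⟨1, 2⟩, ⟨3, 2⟩, ⟨3, 0⟩], ![⟨2, 2⟩, ⟨0, 1⟩, ⟨1, 2⟩, ⟨2, 2⟩], ![⟨3, 3⟩, ⟨3, 3⟩, ⟨2, 1⟩, ⟨3, 0⟩], ![⟨2, 3⟩, ⟨1, 0⟩, ⟨2, 2⟩, ⟨2, 0⟩], ![⟨3, 0⟩, ⟨2, 2⟩, ⟨1, 2⟩, ⟨2, 2⟩], ![⟨2, 0⟩, ⟨1, 2⟩, ⟨3, 0⟩, ⟨0, 2⟩], ![⟨3, 0⟩, ⟨0, 0⟩, ⟨0, 1⟩, ⟨0, 0⟩]],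
  ruOfArray ![![⟨0, 0⟩, ⟨0, 1⟩, ⟨2, 3⟩, ⟨2, 2⟩], ![⟨3, 2⟩, ⟨0, 0⟩, ⟨0, 1⟩, ⟨2, 0⟩], ![⟨2, 1⟩, ⟨2, 3⟩, ⟨1, 2⟩, ⟨1, 2⟩], ![⟨1, 2⟩, ⟨0, 2⟩, ⟨0, 2⟩, ⟨3, 0⟩], ![⟨3, 2⟩, ⟨1, 2⟩, ⟨2, 0⟩, ⟨0, 0⟩], ![⟨2, 3⟩, ⟨3, 2⟩, ⟨2, 2⟩, ⟨2, 0⟩], ![⟨3, 2⟩, ⟨0, 2⟩, ⟨1, 0⟩, ⟨0, 0⟩]],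
  ruOfArray ![![⟨2, 0⟩, ⟨3, 0⟩, ⟨3, 3⟩, ⟨3, 0⟩], ![⟨2, 3⟩, ⟨0, 2⟩, ⟨0, 0⟩, ⟨1, 2⟩], ![⟨2, 1⟩, ⟨3, 3⟩, ⟨0, 3⟩, ⟨2, 2⟩], ![⟨1, 1⟩, ⟨0, 0⟩, ⟨2, 0⟩, ⟨0, 2⟩], ![⟨1, 1⟩, ⟨3, 2⟩, ⟨3, 0⟩, ⟨2, 2⟩], ![⟨3, 2⟩, ⟨1, 0⟩, ⟨2, 2⟩, ⟨0, 0⟩], ![⟨1, 0⟩, ⟨0, 1⟩, ⟨0, 0⟩, ⟨0, 0⟩]],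
  ruOfArray ![![⟨3, 2⟩, ⟨2, 1⟩, ⟨2, 0⟩, ⟨0, 0⟩], ![⟨2, 2⟩, ⟨3, 0⟩, ⟨3, 1⟩, ⟨1, 2⟩], ![⟨2, 1⟩, ⟨2, 0⟩, ⟨0, 2⟩, ⟨3, 0⟩], ![⟨2, 1⟩, ⟨1, 1⟩, ⟨2, 1⟩, ⟨0, 0⟩], ![⟨1, 3⟩, ⟨2, 2⟩, ⟨2, 2⟩, ⟨2, 0⟩], ![⟨1, 3⟩, ⟨1, 0⟩, ⟨3, 0⟩, ⟨0, 2⟩], ![⟨1, 0⟩, ⟨1, 0⟩, ⟨0, 0⟩, ⟨0, 0⟩]],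
  ruOfArray ![![⟨3, 2⟩, ⟨3, 1⟩, ⟨3, 1⟩, ⟨3, 2⟩], ![⟨0, 2⟩, ⟨3, 1⟩, ⟨3, 2⟩, ⟨1, 2⟩], ![⟨2, 3⟩, ⟨2, 3⟩, ⟨1, 3⟩, ⟨2, 2⟩], ![⟨2, 1⟩, ⟨3, 3⟩, ⟨1, 2⟩, ⟨0, 0⟩], ![⟨0, 0⟩, ⟨3, 0⟩, ⟨1, 2⟩, ⟨2, 0⟩], ![⟨0, 1⟩, ⟨0, 2⟩, ⟨3, 0⟩, ⟨0, 0⟩], ![⟨3, 1⟩, ⟨0, 0⟩, ⟨0, 0⟩, ⟨0, 0⟩]],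
  ruOfArray ![![⟨3, 3⟩, ⟨0, 0⟩, ⟨3, 1⟩, ⟨2, 0⟩], ![⟨2, 0⟩, ⟨1, 1⟩, ⟨3, 1⟩, ⟨0, 0⟩], ![⟨3, 0⟩, ⟨1, 2⟩, ⟨0, 3⟩, ⟨3, 0⟩], ![⟨0, 2⟩, ⟨2, 0⟩, ⟨0, 0⟩, ⟨0, 0⟩], ![⟨2, 0⟩, ⟨2, 0⟩, ⟨2, 0⟩, ⟨0, 0⟩], ![⟨3, 2⟩, ⟨3, 0⟩, ⟨3, 2⟩, ⟨2, 1⟩], ![⟨2, 0⟩, ⟨0, 0⟩, ⟨0, 0⟩, ⟨0, 0⟩]],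
  ruOfArray ![![⟨0, 0⟩, ⟨3, 1⟩, ⟨3, 1⟩, ⟨2, 0⟩], ![⟨1, 0⟩, ⟨3, 0⟩, ⟨2, 3⟩, ⟨1, 2⟩], ![⟨3, 3⟩, ⟨1, 3⟩, ⟨0, 2⟩, ⟨2, 0⟩], ![⟨2, 2⟩, ⟨0, 0⟩, ⟨0, 0⟩, ⟨0, 2⟩], ![⟨0, 2⟩, ⟨2, 0⟩, ⟨0, 2⟩, ⟨2, 2⟩], ![⟨0, 1⟩, ⟨3, 2⟩, ⟨1, 0⟩, ⟨1, 0⟩], ![⟨0, 0⟩, ⟨0, 0⟩, ⟨0, 0⟩, ⟨0, 0⟩]],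
  ruOfArray ![![⟨1, 2⟩, ⟨1, 0⟩, ⟨2, 3⟩, ⟨1, 0⟩], ![⟨3, 1⟩, ⟨3, 1⟩, ⟨0, 2⟩, ⟨0, 0⟩], ![⟨3, 0⟩, ⟨2, 1⟩, ⟨3, 0⟩, ⟨1, 0⟩], ![⟨0, 2⟩, ⟨2, 0⟩, ⟨2, 2⟩, ⟨0, 0⟩], ![⟨2, 0⟩, ⟨2, 2⟩, ⟨0, 2⟩, ⟨0, 0⟩], ![⟨1, 1⟩, ⟨0, 2⟩, ⟨3, 1⟩, ⟨0, 0⟩], ![⟨2, 0⟩, ⟨0, 0⟩, ⟨0, 0⟩, ⟨0, 0⟩]],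
  ruOfArray ![![⟨0, 3⟩, ⟨2, 3⟩, ⟨0, 1⟩, ⟨1, 0⟩], ![⟨0, 3⟩, ⟨3, 2⟩, ⟨3, 2⟩, ⟨1, 2⟩], ![⟨1, 1⟩, ⟨2, 2⟩, ⟨3, 1⟩, ⟨2, 2⟩], ![⟨0, 2⟩, ⟨0, 0⟩, ⟨2, 2⟩, ⟨2, 0⟩], ![⟨2, 0⟩, ⟨2, 2⟩, ⟨0, 0⟩, ⟨0, 0⟩], ![⟨1, 3⟩, ⟨3, 1⟩, ⟨0, 0⟩, ⟨0, 0⟩], ![⟨2, 0⟩, ⟨0, 0⟩, ⟨0, 0⟩, ⟨0, 0⟩]],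
  ruOfArray ![![⟨0, 2⟩, ⟨1, 3⟩, ⟨3, 1⟩, ⟨0, 0⟩], ![⟨2, 0⟩, ⟨2, 0⟩, ⟨0, 2⟩, ⟨0, 0⟩], ![⟨1, 3⟩, ⟨3, 1⟩, ⟨0, 2⟩, ⟨2, 2⟩], ![⟨3, 0⟩, ⟨2, 3⟩, ⟨1, 0⟩, ⟨3, 0⟩], ![⟨1, 0⟩, ⟨3, 2⟩, ⟨1, 0⟩, ⟨0, 1⟩], ![⟨0, 0⟩, ⟨2, 0⟩, ⟨0, 0⟩, ⟨0, 0⟩], ![⟨0, 0⟩, ⟨0, 0⟩, ⟨0, 0⟩, ⟨0, 0⟩]],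
  ruOfArray ![![⟨3, 2⟩, ⟨3, 2⟩, ⟨0, 1⟩, ⟨3, 2⟩], ![⟨0, 0⟩, ⟨0, 2⟩, ⟨0, 0⟩, ⟨0, 0⟩], ![⟨3, 0⟩, ⟨0, 1⟩, ⟨1, 2⟩, ⟨3, 2⟩], ![⟨2, 3⟩, ⟨2, 3⟩, ⟨2, 1⟩, ⟨1, 0⟩], ![⟨2, 1⟩, ⟨1, 2⟩, ⟨3, 2⟩, ⟨1, 0⟩], ![⟨2, 2⟩, ⟨2, 0⟩, ⟨0, 0⟩, ⟨0, 0⟩], ![⟨2, 0⟩, ⟨0, 0⟩, ⟨0, 0⟩, ⟨0, 0⟩]],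
  ruOfArray ![![⟨1, 1⟩, ⟨3, 1⟩, ⟨2, 0⟩, ⟨0, 0⟩], ![⟨2, 2⟩, ⟨0, 0⟩, ⟨2, 0⟩, ⟨0, 0⟩], ![⟨2, 3⟩, ⟨0, 1⟩, ⟨0, 3⟩, ⟨3, 2⟩], ![⟨0, 3⟩, ⟨3, 2⟩, ⟨3, 0⟩, ⟨3, 2⟩], ![⟨1, 1⟩, ⟨0, 2⟩, ⟨1, 1⟩, ⟨0, 0⟩], ![⟨2, 0⟩, ⟨2, 0⟩, ⟨0, 0⟩, ⟨0, 0⟩], ![⟨2, 0⟩, ⟨0, 0⟩, ⟨0, 0⟩, ⟨0, 0⟩]],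
  ruOfArray ![![⟨0, 3⟩, ⟨1, 2⟩, ⟨1, 0⟩, ⟨1, 0⟩], ![⟨2, 2⟩, ⟨2, 2⟩, ⟨2, 2⟩, ⟨0, 0⟩], ![⟨2, 0⟩, ⟨3, 1⟩, ⟨1, 1⟩, ⟨0, 2⟩], ![⟨3, 0⟩, ⟨1, 2⟩, ⟨0, 3⟩, ⟨1, 2⟩], ![⟨1, 3⟩, ⟨3, 1⟩, ⟨2, 0⟩, ⟨0, 0⟩], ![⟨2, 0⟩, ⟨2, 0⟩, ⟨2, 0⟩, ⟨0, 0⟩], ![⟨2, 0⟩, ⟨0, 0⟩, ⟨0, 0⟩, ⟨0, 0⟩]],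
  ruOfArray ![![⟨0, 0⟩, ⟨2, 2⟩, ⟨0, 0⟩, ⟨2, 0⟩], ![⟨0, 0⟩, ⟨0, 2⟩, ⟨2, 2⟩, ⟨0, 0⟩], ![⟨2, 0⟩, ⟨2, 0⟩, ⟨0, 2⟩, ⟨2, 2⟩], ![⟨1, 1⟩, ⟨1, 1⟩, ⟨3, 3⟩, ⟨1, 1⟩], ![⟨2, 0⟩, ⟨0, 0⟩, ⟨0, 0⟩, ⟨0, 0⟩], ![⟨2, 0⟩, ⟨0, 0⟩, ⟨0, 0⟩, ⟨0, 0⟩], ![⟨2, 0⟩, ⟨0, 0⟩, ⟨0, 0⟩, ⟨0, 0⟩]],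
  ruOfArray ![![⟨0, 0⟩, ⟨2, 0⟩, ⟨2, 2⟩, ⟨0, 0⟩], ![⟨0, 2⟩, ⟨0, 0⟩, ⟨0, 0⟩, ⟨0, 0⟩], ![⟨1, 1⟩, ⟨1, 1⟩, ⟨1, 3⟩, ⟨3, 1⟩], ![⟨2, 2⟩, ⟨2, 2⟩, ⟨0, 2⟩, ⟨0, 0⟩], ![⟨2, 2⟩, ⟨2, 0⟩, ⟨0, 0⟩, ⟨0, 0⟩], ![⟨2, 2⟩, ⟨0, 0⟩, ⟨2, 0⟩, ⟨0, 0⟩], ![⟨2, 0⟩, ⟨0, 0⟩, ⟨0, 0⟩, ⟨0, 0⟩]],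
  ruOfArray ![![⟨2, 0⟩, ⟨0, 2⟩, ⟨0, 2⟩, ⟨2, 2⟩], ![⟨1, 1⟩, ⟨3, 3⟩, ⟨1, 1⟩, ⟨1, 1⟩], ![⟨2, 0⟩, ⟨2, 0⟩, ⟨2, 0⟩, ⟨0, 0⟩], ![⟨2, 0⟩, ⟨0, 0⟩, ⟨0, 0⟩, ⟨0, 0⟩], ![⟨2, 2⟩, ⟨0, 0⟩, ⟨2, 0⟩, ⟨0, 0⟩], ![⟨0, 2⟩, ⟨2, 0⟩, ⟨2, 0⟩, ⟨0, 0⟩], ![⟨2, 0⟩, ⟨0, 0⟩, ⟨0, 0⟩, ⟨0, 0⟩]],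
  ruOfArray ![![⟨3, 1⟩, ⟨3, 3⟩, ⟨3, 3⟩, ⟨3, 1⟩], ![⟨2, 0⟩, ⟨2, 2⟩, ⟨0, 2⟩, ⟨2, 0⟩], ![⟨2, 0⟩, ⟨2, 2⟩, ⟨2, 2⟩, ⟨0, 0⟩], ![⟨2, 2⟩, ⟨0, 0⟩, ⟨0, 2⟩, ⟨0, 0⟩], ![⟨0, 0⟩, ⟨2, 0⟩, ⟨0, 0⟩, ⟨0, 0⟩], ![⟨2, 0⟩, ⟨0, 0⟩, ⟨0, 0⟩, ⟨0, 0⟩], ![⟨2, 0⟩, ⟨0, 0⟩, ⟨0, 0⟩, ⟨0, 0⟩]]]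

/-- the even generators -/
def gB : Fin 37 → RuVec := ![
  ruOfArray ![![⟨2, 0⟩, ⟨0, 0⟩, ⟨0, 0⟩, ⟨2, 0⟩], ![⟨0, 0⟩, ⟨0, 0⟩, ⟨0, 0⟩, ⟨0, 0⟩], ![⟨0, 0⟩, ⟨0, 0⟩, ⟨0, 0⟩, ⟨0, 0⟩], ![⟨0, 0⟩, ⟨0, 0⟩, ⟨0, 0⟩, ⟨0, 0⟩], ![⟨0, 0⟩, ⟨2, 0⟩, ⟨0, 2⟩, ⟨2, 2⟩], ![⟨0, 0⟩, ⟨0, 2⟩, ⟨2, 2⟩, ⟨2, 0⟩], ![⟨0, 0⟩, ⟨0, 0⟩, ⟨2, 2⟩, ⟨2, 2⟩]],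
  ruOfArray ![![⟨0, 0⟩, ⟨2, 0⟩, ⟨0, 0⟩, ⟨2, 0⟩], ![⟨0, 0⟩, ⟨0, 0⟩, ⟨0, 0⟩, ⟨0, 0⟩], ![⟨0, 0⟩, ⟨0, 0⟩, ⟨0, 0⟩, ⟨0, 0⟩], ![⟨0, 0⟩, ⟨0, 0⟩, ⟨0, 0⟩, ⟨0, 0⟩], ![⟨0, 0⟩, ⟨0, 0⟩, ⟨0, 2⟩, ⟨0, 2⟩], ![⟨0, 0⟩, ⟨0, 2⟩, ⟨0, 0⟩, ⟨2, 0⟩], ![⟨0, 0⟩, ⟨0, 0⟩, ⟨0, 0⟩, ⟨0, 0⟩]],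
  ruOfArray ![![⟨0, 0⟩, ⟨0, 0⟩, ⟨2, 0⟩, ⟨2, 0⟩], ![⟨0, 0⟩, ⟨0, 0⟩, ⟨0, 0⟩, ⟨0, 0⟩], ![⟨0, 0⟩, ⟨0, 0⟩, ⟨0, 0⟩, ⟨0, 0⟩], ![⟨0, 0⟩, ⟨0, 0⟩, ⟨0, 0⟩, ⟨0, 0⟩], ![⟨0, 2⟩, ⟨2, 0⟩, ⟨0, 2⟩, ⟨2, 0⟩], ![⟨0, 0⟩, ⟨0, 2⟩, ⟨2, 0⟩, ⟨0, 0⟩], ![⟨0, 0⟩, ⟨0, 0⟩, ⟨2, 2⟩, ⟨2, 2⟩]],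
  ruOfArray ![![⟨0, 0⟩, ⟨0, 0⟩, ⟨0, 0⟩, ⟨2, 2⟩], ![⟨0, 0⟩, ⟨0, 0⟩, ⟨0, 0⟩, ⟨0, 0⟩], ![⟨0, 0⟩, ⟨0, 0⟩, ⟨0, 0⟩, ⟨0, 0⟩], ![⟨0, 0⟩, ⟨0, 0⟩, ⟨0, 0⟩, ⟨0, 0⟩], ![⟨0, 0⟩, ⟨2, 0⟩, ⟨0, 0⟩, ⟨0, 2⟩], ![⟨0, 0⟩, ⟨0, 2⟩, ⟨0, 2⟩, ⟨0, 0⟩], ![⟨0, 0⟩, ⟨0, 0⟩, ⟨2, 2⟩, ⟨2, 2⟩]],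
  ruOfArray ![![⟨0, 2⟩, ⟨0, 0⟩, ⟨0, 0⟩, ⟨2, 0⟩], ![⟨0, 0⟩, ⟨0, 0⟩, ⟨0, 0⟩, ⟨0, 0⟩], ![⟨0, 0⟩, ⟨0, 0⟩, ⟨0, 0⟩, ⟨0, 0⟩], ![⟨0, 0⟩, ⟨0, 0⟩, ⟨0, 0⟩, ⟨0, 0⟩], ![⟨0, 0⟩, ⟨0, 0⟩, ⟨0, 2⟩, ⟨2, 0⟩], ![⟨0, 0⟩, ⟨0, 0⟩, ⟨2, 0⟩, ⟨2, 0⟩], ![⟨0, 0⟩, ⟨2, 2⟩, ⟨0, 0⟩, ⟨2, 2⟩]],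
  ruOfArray ![![⟨0, 0⟩, ⟨0, 2⟩, ⟨0, 0⟩, ⟨2, 0⟩], ![⟨0, 0⟩, ⟨0, 0⟩, ⟨0, 0⟩, ⟨0, 0⟩], ![⟨0, 0⟩, ⟨0, 0⟩, ⟨0, 0⟩, ⟨0, 0⟩], ![⟨0, 0⟩, ⟨0, 0⟩, ⟨0, 0⟩, ⟨0, 0⟩], ![⟨0, 2⟩, ⟨0, 0⟩, ⟨0, 0⟩, ⟨0, 2⟩], ![⟨0, 0⟩, ⟨0, 0⟩, ⟨0, 2⟩, ⟨2, 0⟩], ![⟨0, 0⟩, ⟨0, 0⟩, ⟨2, 2⟩, ⟨2, 2⟩]],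
  ruOfArray ![![⟨0, 0⟩, ⟨0, 0⟩, ⟨0, 2⟩, ⟨2, 0⟩], ![⟨0, 0⟩, ⟨0, 0⟩, ⟨0, 0⟩, ⟨0, 0⟩], ![⟨0, 0⟩, ⟨0, 0⟩, ⟨0, 0⟩, ⟨0, 0⟩], ![⟨0, 0⟩, ⟨0, 0⟩, ⟨0, 0⟩, ⟨0, 0⟩], ![⟨0, 0⟩, ⟨2, 0⟩, ⟨0, 0⟩, ⟨2, 0⟩], ![⟨0, 0⟩, ⟨0, 0⟩, ⟨2, 2⟩, ⟨0, 0⟩], ![⟨0, 0⟩, ⟨2, 2⟩, ⟨0, 0⟩, ⟨2, 2⟩]],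
  ruOfArray ![![⟨0, 0⟩, ⟨0, 0⟩, ⟨0, 0⟩, ⟨0, 0⟩], ![⟨0, 0⟩, ⟨0, 0⟩, ⟨0, 0⟩, ⟨2, 2⟩], ![⟨0, 0⟩, ⟨0, 0⟩, ⟨0, 0⟩, ⟨0, 0⟩], ![⟨0, 0⟩, ⟨0, 0⟩, ⟨0, 0⟩, ⟨0, 0⟩], ![⟨0, 2⟩, ⟨2, 0⟩, ⟨0, 2⟩, ⟨0, 2⟩], ![⟨0, 0⟩, ⟨0, 2⟩, ⟨0, 0⟩, ⟨2, 0⟩], ![⟨0, 0⟩, ⟨0, 2⟩, ⟨2, 0⟩, ⟨2, 2⟩]],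
  ruOfArray ![![⟨0, 0⟩, ⟨0, 0⟩, ⟨0, 0⟩, ⟨0, 0⟩], ![⟨2, 0⟩, ⟨0, 0⟩, ⟨0, 0⟩, ⟨0, 2⟩], ![⟨0, 0⟩, ⟨0, 0⟩, ⟨0, 0⟩, ⟨0, 0⟩], ![⟨0, 0⟩, ⟨0, 0⟩, ⟨0, 0⟩, ⟨0, 0⟩], ![⟨0, 0⟩, ⟨0, 0⟩, ⟨0, 0⟩, ⟨0, 0⟩], ![⟨0, 0⟩, ⟨0, 0⟩, ⟨0, 2⟩, ⟨2, 0⟩], ![⟨0, 0⟩, ⟨0, 0⟩, ⟨2, 0⟩, ⟨2, 0⟩]],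
  ruOfArray ![![⟨0, 0⟩, ⟨0, 0⟩, ⟨0, 0⟩, ⟨0, 0⟩], ![⟨0, 0⟩, ⟨2, 0⟩, ⟨0, 0⟩, ⟨0, 2⟩], ![⟨0, 0⟩, ⟨0, 0⟩, ⟨0, 0⟩, ⟨0, 0⟩], ![⟨0, 0⟩, ⟨0, 0⟩, ⟨0, 0⟩, ⟨0, 0⟩], ![⟨0, 0⟩, ⟨0, 0⟩, ⟨0, 0⟩, ⟨0, 0⟩], ![⟨0, 0⟩, ⟨0, 2⟩, ⟨2, 0⟩, ⟨0, 0⟩], ![⟨0, 0⟩, ⟨0, 0⟩, ⟨0, 2⟩, ⟨2, 0⟩]],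
  ruOfArray ![![⟨0, 0⟩, ⟨0, 0⟩, ⟨0, 0⟩, ⟨0, 0⟩], ![⟨0, 0⟩, ⟨0, 0⟩, ⟨0, 2⟩, ⟨0, 2⟩], ![⟨0, 0⟩, ⟨0, 0⟩, ⟨0, 0⟩, ⟨0, 0⟩], ![⟨0, 0⟩, ⟨0, 0⟩, ⟨0, 0⟩, ⟨0, 0⟩], ![⟨0, 2⟩, ⟨2, 0⟩, ⟨0, 2⟩, ⟨0, 2⟩], ![⟨0, 0⟩, ⟨0, 0⟩, ⟨2, 2⟩, ⟨0, 0⟩], ![⟨0, 0⟩, ⟨2, 0⟩, ⟨0, 2⟩, ⟨0, 0⟩]],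
  ruOfArray ![![⟨0, 0⟩, ⟨0, 0⟩, ⟨0, 0⟩, ⟨0, 0⟩], ![⟨0, 0⟩, ⟨0, 2⟩, ⟨0, 0⟩, ⟨0, 2⟩], ![⟨0, 0⟩, ⟨0, 0⟩, ⟨0, 0⟩, ⟨0, 0⟩], ![⟨0, 0⟩, ⟨0, 0⟩, ⟨0, 0⟩, ⟨0, 0⟩], ![⟨0, 0⟩, ⟨0, 0⟩, ⟨0, 0⟩, ⟨0, 0⟩], ![⟨0, 0⟩, ⟨0, 0⟩, ⟨2, 0⟩, ⟨2, 0⟩], ![⟨0, 0⟩, ⟨2, 0⟩, ⟨0, 0⟩, ⟨0, 2⟩]],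
  ruOfArray ![![⟨0, 0⟩, ⟨0, 0⟩, ⟨0, 0⟩, ⟨0, 0⟩], ![⟨0, 0⟩, ⟨0, 0⟩, ⟨2, 0⟩, ⟨0, 2⟩], ![⟨0, 0⟩, ⟨0, 0⟩, ⟨0, 0⟩, ⟨0, 0⟩], ![⟨0, 0⟩, ⟨0, 0⟩, ⟨0, 0⟩, ⟨0, 0⟩], ![⟨0, 0⟩, ⟨0, 0⟩, ⟨0, 0⟩, ⟨0, 0⟩], ![⟨0, 0⟩, ⟨0, 2⟩, ⟨2, 2⟩, ⟨2, 0⟩], ![⟨0, 0⟩, ⟨0, 0⟩, ⟨0, 0⟩, ⟨2, 2⟩]],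
  ruOfArray ![![⟨0, 0⟩, ⟨0, 0⟩, ⟨0, 0⟩, ⟨0, 0⟩], ![⟨0, 2⟩, ⟨0, 0⟩, ⟨0, 0⟩, ⟨0, 2⟩], ![⟨0, 0⟩, ⟨0, 0⟩, ⟨0, 0⟩, ⟨0, 0⟩], ![⟨0, 0⟩, ⟨0, 0⟩, ⟨0, 0⟩, ⟨0, 0⟩], ![⟨0, 0⟩, ⟨0, 0⟩, ⟨0, 0⟩, ⟨0, 0⟩], ![⟨0, 0⟩, ⟨0, 2⟩, ⟨0, 2⟩, ⟨0, 0⟩], ![⟨0, 0⟩, ⟨0, 2⟩, ⟨0, 0⟩, ⟨0, 2⟩]],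
  ruOfArray ![![⟨0, 0⟩, ⟨0, 0⟩, ⟨0, 0⟩, ⟨0, 0⟩], ![⟨0, 0⟩, ⟨0, 0⟩, ⟨0, 0⟩, ⟨0, 0⟩], ![⟨2, 0⟩, ⟨0, 0⟩, ⟨0, 0⟩, ⟨0, 2⟩], ![⟨0, 0⟩, ⟨0, 0⟩, ⟨0, 0⟩, ⟨0, 0⟩], ![⟨0, 2⟩, ⟨2, 0⟩, ⟨0, 2⟩, ⟨2, 0⟩], ![⟨0, 0⟩, ⟨0, 2⟩, ⟨2, 0⟩, ⟨0, 0⟩], ![⟨0, 0⟩, ⟨0, 0⟩, ⟨2, 0⟩, ⟨0, 2⟩]],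
  ruOfArray ![![⟨0, 0⟩, ⟨0, 0⟩, ⟨0, 0⟩, ⟨0, 0⟩], ![⟨0, 0⟩, ⟨0, 0⟩, ⟨0, 0⟩, ⟨0, 0⟩], ![⟨0, 0⟩, ⟨2, 0⟩, ⟨0, 0⟩, ⟨0, 2⟩], ![⟨0, 0⟩, ⟨0, 0⟩, ⟨0, 0⟩, ⟨0, 0⟩], ![⟨0, 0⟩, ⟨2, 0⟩, ⟨0, 0⟩, ⟨2, 0⟩], ![⟨0, 0⟩, ⟨0, 0⟩, ⟨2, 2⟩, ⟨0, 0⟩], ![⟨0, 0⟩, ⟨2, 0⟩, ⟨2, 0⟩, ⟨2, 2⟩]],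
  ruOfArray ![![⟨0, 0⟩, ⟨0, 0⟩, ⟨0, 0⟩, ⟨0, 0⟩], ![⟨0, 0⟩, ⟨0, 0⟩, ⟨0, 0⟩, ⟨0, 0⟩], ![⟨0, 0⟩, ⟨0, 0⟩, ⟨0, 0⟩, ⟨0, 0⟩], ![⟨0, 0⟩, ⟨0, 0⟩, ⟨0, 0⟩, ⟨0, 0⟩], ![⟨0, 2⟩, ⟨2, 0⟩, ⟨0, 2⟩, ⟨0, 2⟩], ![⟨2, 0⟩, ⟨0, 2⟩, ⟨2, 0⟩, ⟨2, 0⟩], ![⟨0, 0⟩, ⟨2, 2⟩, ⟨2, 2⟩, ⟨0, 0⟩]],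
  ruOfArray ![![⟨0, 0⟩, ⟨0, 0⟩, ⟨0, 0⟩, ⟨0, 0⟩], ![⟨0, 0⟩, ⟨0, 0⟩, ⟨0, 0⟩, ⟨0, 0⟩], ![⟨0, 0⟩, ⟨0, 0⟩, ⟨0, 0⟩, ⟨0, 0⟩], ![⟨0, 0⟩, ⟨0, 0⟩, ⟨0, 0⟩, ⟨0, 0⟩], ![⟨0, 2⟩, ⟨2, 0⟩, ⟨0, 2⟩, ⟨0, 2⟩], ![⟨0, 0⟩, ⟨0, 0⟩, ⟨2, 2⟩, ⟨2, 2⟩], ![⟨0, 0⟩, ⟨0, 0⟩, ⟨2, 2⟩, ⟨2, 2⟩]],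
  ruOfArray ![![⟨0, 0⟩, ⟨0, 0⟩, ⟨0, 0⟩, ⟨0, 0⟩], ![⟨0, 0⟩, ⟨0, 0⟩, ⟨0, 0⟩, ⟨0, 0⟩], ![⟨0, 0⟩, ⟨0, 0⟩, ⟨0, 2⟩, ⟨0, 2⟩], ![⟨0, 0⟩, ⟨0, 0⟩, ⟨0, 0⟩, ⟨0, 0⟩], ![⟨0, 2⟩, ⟨0, 0⟩, ⟨0, 0⟩, ⟨2, 0⟩], ![⟨0, 0⟩, ⟨0, 2⟩, ⟨2, 2⟩, ⟨2, 0⟩], ![⟨0, 0⟩, ⟨0, 0⟩, ⟨0, 0⟩, ⟨2, 2⟩]],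
  ruOfArray ![![⟨0, 0⟩, ⟨0, 0⟩, ⟨0, 0⟩, ⟨0, 0⟩], ![⟨0, 0⟩, ⟨0, 0⟩, ⟨0, 0⟩, ⟨0, 0⟩], ![⟨0, 0⟩, ⟨0, 0⟩, ⟨0, 0⟩, ⟨2, 2⟩], ![⟨0, 0⟩, ⟨0, 0⟩, ⟨0, 0⟩, ⟨0, 0⟩], ![⟨0, 2⟩, ⟨2, 0⟩, ⟨0, 0⟩, ⟨2, 2⟩], ![⟨0, 0⟩, ⟨0, 0⟩, ⟨2, 0⟩, ⟨2, 0⟩], ![⟨0, 0⟩, ⟨2, 0⟩, ⟨0, 0⟩, ⟨0, 2⟩]],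
  ruOfArray ![![⟨0, 0⟩, ⟨0, 0⟩, ⟨0, 0⟩, ⟨0, 0⟩], ![⟨0, 0⟩, ⟨0, 0⟩, ⟨0, 0⟩, ⟨0, 0⟩], ![⟨0, 0⟩, ⟨0, 0⟩, ⟨0, 0⟩, ⟨0, 0⟩], ![⟨0, 0⟩, ⟨0, 0⟩, ⟨0, 0⟩, ⟨0, 0⟩], ![⟨0, 2⟩, ⟨2, 0⟩, ⟨0, 2⟩, ⟨0, 2⟩], ![⟨0, 0⟩, ⟨2, 2⟩, ⟨2, 2⟩, ⟨0, 0⟩], ![⟨0, 0⟩, ⟨2, 2⟩, ⟨0, 0⟩, ⟨2, 2⟩]],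
  ruOfArray ![![⟨0, 0⟩, ⟨0, 0⟩, ⟨0, 0⟩, ⟨0, 0⟩], ![⟨0, 0⟩, ⟨0, 0⟩, ⟨0, 0⟩, ⟨0, 0⟩], ![⟨0, 2⟩, ⟨0, 0⟩, ⟨0, 0⟩, ⟨0, 2⟩], ![⟨0, 0⟩, ⟨0, 0⟩, ⟨0, 0⟩, ⟨0, 0⟩], ![⟨0, 2⟩, ⟨2, 0⟩, ⟨0, 0⟩, ⟨0, 0⟩], ![⟨0, 0⟩, ⟨0, 2⟩, ⟨0, 0⟩, ⟨2, 0⟩], ![⟨0, 0⟩, ⟨0, 2⟩, ⟨0, 2⟩, ⟨0, 0⟩]],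
  ruOfArray ![![⟨0, 0⟩, ⟨0, 0⟩, ⟨0, 0⟩, ⟨0, 0⟩], ![⟨0, 0⟩, ⟨0, 0⟩, ⟨0, 0⟩, ⟨0, 0⟩], ![⟨0, 0⟩, ⟨0, 2⟩, ⟨0, 0⟩, ⟨0, 2⟩], ![⟨0, 0⟩, ⟨0, 0⟩, ⟨0, 0⟩, ⟨0, 0⟩], ![⟨0, 0⟩, ⟨2, 0⟩, ⟨0, 2⟩, ⟨0, 0⟩], ![⟨0, 0⟩, ⟨0, 0⟩, ⟨0, 2⟩, ⟨2, 0⟩], ![⟨0, 0⟩, ⟨0, 0⟩, ⟨0, 2⟩, ⟨0, 2⟩]],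
  ruOfArray ![![⟨0, 0⟩, ⟨0, 0⟩, ⟨0, 0⟩, ⟨0, 0⟩], ![⟨0, 0⟩, ⟨0, 0⟩, ⟨0, 0⟩, ⟨0, 0⟩], ![⟨0, 0⟩, ⟨0, 0⟩, ⟨0, 0⟩, ⟨0, 0⟩], ![⟨0, 0⟩, ⟨0, 0⟩, ⟨0, 0⟩, ⟨0, 0⟩], ![⟨0, 2⟩, ⟨2, 0⟩, ⟨0, 2⟩, ⟨0, 2⟩], ![⟨0, 2⟩, ⟨0, 2⟩, ⟨0, 2⟩, ⟨2, 0⟩], ![⟨0, 0⟩, ⟨0, 0⟩, ⟨0, 0⟩, ⟨0, 0⟩]],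
  ruOfArray ![![⟨0, 0⟩, ⟨0, 0⟩, ⟨0, 0⟩, ⟨0, 0⟩], ![⟨0, 0⟩, ⟨0, 0⟩, ⟨0, 0⟩, ⟨0, 0⟩], ![⟨0, 0⟩, ⟨0, 0⟩, ⟨2, 0⟩, ⟨0, 2⟩], ![⟨0, 0⟩, ⟨0, 0⟩, ⟨0, 0⟩, ⟨0, 0⟩], ![⟨0, 0⟩, ⟨2, 0⟩, ⟨0, 0⟩, ⟨0, 2⟩], ![⟨0, 0⟩, ⟨0, 2⟩, ⟨0, 2⟩, ⟨0, 0⟩], ![⟨0, 0⟩, ⟨0, 2⟩, ⟨0, 0⟩, ⟨0, 2⟩]],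
  ruOfArray ![![⟨0, 0⟩, ⟨0, 0⟩, ⟨0, 0⟩, ⟨0, 0⟩], ![⟨0, 0⟩, ⟨0, 0⟩, ⟨0, 0⟩, ⟨0, 0⟩], ![⟨0, 0⟩, ⟨0, 0⟩, ⟨0, 0⟩, ⟨0, 0⟩], ![⟨2, 0⟩, ⟨0, 0⟩, ⟨0, 0⟩, ⟨0, 2⟩], ![⟨0, 2⟩, ⟨0, 0⟩, ⟨0, 2⟩, ⟨2, 2⟩], ![⟨0, 0⟩, ⟨0, 0⟩, ⟨0, 0⟩, ⟨0, 0⟩], ![⟨0, 0⟩, ⟨2, 0⟩, ⟨2, 0⟩, ⟨2, 2⟩]],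
  ruOfArray ![![⟨0, 0⟩, ⟨0, 0⟩, ⟨0, 0⟩, ⟨0, 0⟩], ![⟨0, 0⟩, ⟨0, 0⟩, ⟨0, 0⟩, ⟨0, 0⟩], ![⟨0, 0⟩, ⟨0, 0⟩, ⟨0, 0⟩, ⟨0, 0⟩], ![⟨0, 0⟩, ⟨2, 0⟩, ⟨0, 0⟩, ⟨0, 2⟩], ![⟨0, 0⟩, ⟨2, 0⟩, ⟨0, 2⟩, ⟨2, 2⟩], ![⟨0, 0⟩, ⟨0, 0⟩, ⟨0, 0⟩, ⟨0, 0⟩], ![⟨0, 0⟩, ⟨2, 2⟩, ⟨2, 2⟩, ⟨2, 2⟩]],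
  ruOfArray ![![⟨0, 0⟩, ⟨0, 0⟩, ⟨0, 0⟩, ⟨0, 0⟩], ![⟨0, 0⟩, ⟨0, 0⟩, ⟨0, 0⟩, ⟨0, 0⟩], ![⟨0, 0⟩, ⟨0, 0⟩, ⟨0, 0⟩, ⟨0, 0⟩], ![⟨0, 0⟩, ⟨0, 0⟩, ⟨0, 0⟩, ⟨0, 0⟩], ![⟨2, 2⟩, ⟨0, 0⟩, ⟨0, 0⟩, ⟨2, 2⟩], ![⟨0, 0⟩, ⟨0, 0⟩, ⟨0, 0⟩, ⟨0, 0⟩], ![⟨0, 0⟩, ⟨0, 0⟩, ⟨2, 2⟩, ⟨2, 2⟩]],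
  ruOfArray ![![⟨0, 0⟩, ⟨0, 0⟩, ⟨0, 0⟩, ⟨0, 0⟩], ![⟨0, 0⟩, ⟨0, 0⟩, ⟨0, 0⟩, ⟨0, 0⟩], ![⟨0, 0⟩, ⟨0, 0⟩, ⟨0, 0⟩, ⟨0, 0⟩], ![⟨0, 0⟩, ⟨0, 0⟩, ⟨0, 0⟩, ⟨0, 0⟩], ![⟨0, 2⟩, ⟨0, 2⟩, ⟨0, 2⟩, ⟨2, 0⟩], ![⟨0, 0⟩, ⟨0, 0⟩, ⟨0, 0⟩, ⟨0, 0⟩], ![⟨0, 0⟩, ⟨2, 2⟩, ⟨0, 0⟩, ⟨2, 2⟩]],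
  ruOfArray ![![⟨0, 0⟩, ⟨0, 0⟩, ⟨0, 0⟩, ⟨0, 0⟩], ![⟨0, 0⟩, ⟨0, 0⟩, ⟨0, 0⟩, ⟨0, 0⟩], ![⟨0, 0⟩, ⟨0, 0⟩, ⟨0, 0⟩, ⟨0, 0⟩], ![⟨0, 0⟩, ⟨0, 0⟩, ⟨0, 0⟩, ⟨0, 0⟩], ![⟨0, 2⟩, ⟨2, 0⟩, ⟨0, 2⟩, ⟨0, 2⟩], ![⟨0, 0⟩, ⟨0, 0⟩, ⟨0, 0⟩, ⟨0, 0⟩], ![⟨0, 2⟩, ⟨2, 0⟩, ⟨2, 0⟩, ⟨2, 0⟩]],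
  ruOfArray ![![⟨0, 0⟩, ⟨0, 0⟩, ⟨0, 0⟩, ⟨0, 0⟩], ![⟨0, 0⟩, ⟨0, 0⟩, ⟨0, 0⟩, ⟨0, 0⟩], ![⟨0, 0⟩, ⟨0, 0⟩, ⟨0, 0⟩, ⟨0, 0⟩], ![⟨0, 2⟩, ⟨0, 0⟩, ⟨0, 0⟩, ⟨0, 2⟩], ![⟨0, 2⟩, ⟨2, 0⟩, ⟨0, 0⟩, ⟨2, 2⟩], ![⟨0, 0⟩, ⟨0, 0⟩, ⟨0, 0⟩, ⟨0, 0⟩], ![⟨0, 0⟩, ⟨0, 2⟩, ⟨2, 2⟩, ⟨0, 2⟩]],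
  ruOfArray ![![⟨0, 0⟩, ⟨0, 0⟩, ⟨0, 0⟩, ⟨0, 0⟩], ![⟨0, 0⟩, ⟨0, 0⟩, ⟨0, 0⟩, ⟨0, 0⟩], ![⟨0, 0⟩, ⟨0, 0⟩, ⟨0, 0⟩, ⟨0, 0⟩], ![⟨0, 0⟩, ⟨0, 2⟩, ⟨0, 0⟩, ⟨0, 2⟩], ![⟨0, 2⟩, ⟨2, 0⟩, ⟨0, 2⟩, ⟨2, 0⟩], ![⟨0, 0⟩, ⟨0, 0⟩, ⟨0, 0⟩, ⟨0, 0⟩], ![⟨0, 0⟩, ⟨0, 0⟩, ⟨2, 0⟩, ⟨0, 2⟩]],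
  ruOfArray ![![⟨0, 0⟩, ⟨0, 0⟩, ⟨0, 0⟩, ⟨0, 0⟩], ![⟨0, 0⟩, ⟨0, 0⟩, ⟨0, 0⟩, ⟨0, 0⟩], ![⟨0, 0⟩, ⟨0, 0⟩, ⟨0, 0⟩, ⟨0, 0⟩], ![⟨0, 0⟩, ⟨0, 0⟩, ⟨0, 0⟩, ⟨0, 0⟩], ![⟨0, 2⟩, ⟨2, 0⟩, ⟨2, 0⟩, ⟨2, 0⟩], ![⟨0, 0⟩, ⟨0, 0⟩, ⟨0, 0⟩, ⟨0, 0⟩], ![⟨0, 0⟩, ⟨2, 2⟩, ⟨2, 2⟩, ⟨0, 0⟩]],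
  ruOfArray ![![⟨0, 0⟩, ⟨0, 0⟩, ⟨0, 0⟩, ⟨0, 0⟩], ![⟨0, 0⟩, ⟨0, 0⟩, ⟨0, 0⟩, ⟨0, 0⟩], ![⟨0, 0⟩, ⟨0, 0⟩, ⟨0, 0⟩, ⟨0, 0⟩], ![⟨0, 0⟩, ⟨0, 0⟩, ⟨0, 0⟩, ⟨0, 0⟩], ![⟨0, 2⟩, ⟨2, 0⟩, ⟨0, 2⟩, ⟨0, 2⟩], ![⟨0, 0⟩, ⟨0, 0⟩, ⟨0, 0⟩, ⟨0, 0⟩], ![⟨2, 0⟩, ⟨0, 2⟩, ⟨0, 2⟩, ⟨0, 2⟩]],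
  ruOfArray ![![⟨0, 0⟩, ⟨0, 0⟩, ⟨0, 0⟩, ⟨0, 0⟩], ![⟨0, 0⟩, ⟨0, 0⟩, ⟨0, 0⟩, ⟨0, 0⟩], ![⟨0, 0⟩, ⟨0, 0⟩, ⟨0, 0⟩, ⟨0, 0⟩], ![⟨0, 0⟩, ⟨0, 0⟩, ⟨2, 0⟩, ⟨0, 2⟩], ![⟨0, 2⟩, ⟨2, 0⟩, ⟨0, 0⟩, ⟨0, 0⟩], ![⟨0, 0⟩, ⟨0, 0⟩, ⟨0, 0⟩, ⟨0, 0⟩], ![⟨0, 0⟩, ⟨2, 0⟩, ⟨2, 0⟩, ⟨0, 0⟩]],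
  ruOfArray ![![⟨0, 0⟩, ⟨0, 0⟩, ⟨0, 0⟩, ⟨0, 0⟩], ![⟨0, 0⟩, ⟨0, 0⟩, ⟨0, 0⟩, ⟨0, 0⟩], ![⟨0, 0⟩, ⟨0, 0⟩, ⟨0, 0⟩, ⟨0, 0⟩], ![⟨0, 0⟩, ⟨0, 0⟩, ⟨0, 0⟩, ⟨2, 2⟩], ![⟨0, 2⟩, ⟨0, 0⟩, ⟨0, 0⟩, ⟨0, 2⟩], ![⟨0, 0⟩, ⟨0, 0⟩, ⟨0, 0⟩, ⟨0, 0⟩], ![⟨0, 0⟩, ⟨2, 2⟩, ⟨2, 0⟩, ⟨0, 2⟩]],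
  ruOfArray ![![⟨0, 0⟩, ⟨0, 0⟩, ⟨0, 0⟩, ⟨0, 0⟩], ![⟨0, 0⟩, ⟨0, 0⟩, ⟨0, 0⟩, ⟨0, 0⟩], ![⟨0, 0⟩, ⟨0, 0⟩, ⟨0, 0⟩, ⟨0, 0⟩], ![⟨0, 0⟩, ⟨0, 0⟩, ⟨0, 2⟩, ⟨0, 2⟩], ![⟨0, 2⟩, ⟨0, 0⟩, ⟨0, 2⟩, ⟨0, 0⟩], ![⟨0, 0⟩, ⟨0, 0⟩, ⟨0, 0⟩, ⟨0, 0⟩], ![⟨0, 0⟩, ⟨0, 2⟩, ⟨0, 0⟩, ⟨0, 2⟩]]]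

/-- coefficients of `gA j` on the check vectors -/
def cA : Fin 19 → Fin 19 → GaussianInt := ![
  ![⟨3, 0⟩, ⟨0, 0⟩, ⟨1, 0⟩, ⟨2, 3⟩, ⟨3, 3⟩, ⟨1, 0⟩, ⟨2, 2⟩, ⟨0, 0⟩, ⟨2, 1⟩, ⟨0, 0⟩, ⟨0, 0⟩, ⟨0, 0⟩, ⟨0, 0⟩, ⟨0, 0⟩, ⟨0, 0⟩, ⟨0, 0⟩, ⟨0, 0⟩, ⟨0, 0⟩, ⟨0, 0⟩],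
  ![⟨0, 3⟩, ⟨0, 0⟩, ⟨3, 2⟩, ⟨2, 3⟩, ⟨3, 0⟩, ⟨2, 0⟩, ⟨0, 3⟩, ⟨2, 1⟩, ⟨2, 1⟩, ⟨0, 0⟩, ⟨0, 0⟩, ⟨0, 0⟩, ⟨0, 0⟩, ⟨0, 0⟩, ⟨0, 0⟩, ⟨0, 0⟩, ⟨0, 0⟩, ⟨0, 0⟩, ⟨0, 0⟩],
  ![⟨0, 2⟩, ⟨1, 0⟩, ⟨3, 2⟩, ⟨3, 0⟩, ⟨1, 0⟩, ⟨1, 0⟩, ⟨3, 0⟩, ⟨1, 3⟩, ⟨3, 3⟩, ⟨3, 0⟩, ⟨0, 0⟩, ⟨0, 0⟩, ⟨0, 0⟩, ⟨0, 0⟩, ⟨0, 0⟩, ⟨0, 0⟩, ⟨0, 0⟩, ⟨0, 0⟩, ⟨0, 0⟩],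
  ![⟨3, 3⟩, ⟨0, 3⟩, ⟨3, 0⟩, ⟨1, 0⟩, ⟨2, 0⟩, ⟨1, 1⟩, ⟨2, 2⟩, ⟨3, 3⟩, ⟨3, 2⟩, ⟨3, 0⟩, ⟨0, 0⟩, ⟨0, 0⟩, ⟨0, 0⟩, ⟨0, 0⟩, ⟨0, 0⟩, ⟨0, 0⟩, ⟨0, 0⟩, ⟨0, 0⟩, ⟨0, 0⟩],
  ![⟨0, 0⟩, ⟨0, 0⟩, ⟨0, 3⟩, ⟨3, 3⟩, ⟨3, 0⟩, ⟨0, 1⟩, ⟨2, 2⟩, ⟨3, 2⟩, ⟨0, 2⟩, ⟨3, 0⟩, ⟨0, 0⟩, ⟨0, 0⟩, ⟨0, 0⟩, ⟨0, 0⟩, ⟨0, 0⟩, ⟨0, 0⟩, ⟨0, 0⟩, ⟨0, 0⟩, ⟨0, 0⟩],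
  ![⟨1, 1⟩, ⟨0, 0⟩, ⟨2, 1⟩, ⟨2, 0⟩, ⟨2, 0⟩, ⟨1, 1⟩, ⟨2, 2⟩, ⟨3, 3⟩, ⟨3, 2⟩, ⟨3, 0⟩, ⟨0, 0⟩, ⟨0, 0⟩, ⟨0, 0⟩, ⟨0, 0⟩, ⟨0, 0⟩, ⟨0, 0⟩, ⟨0, 0⟩, ⟨0, 0⟩, ⟨0, 0⟩],
  ![⟨3, 3⟩, ⟨0, 0⟩, ⟨0, 0⟩, ⟨3, 3⟩, ⟨0, 3⟩, ⟨0, 3⟩, ⟨2, 2⟩, ⟨0, 2⟩, ⟨0, 2⟩, ⟨3, 0⟩, ⟨0, 0⟩, ⟨0, 0⟩, ⟨0, 0⟩, ⟨0, 0⟩, ⟨0, 0⟩, ⟨0, 0⟩, ⟨0, 0⟩, ⟨0, 0⟩, ⟨0, 0⟩],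
  ![⟨2, 2⟩, ⟨0, 0⟩, ⟨0, 2⟩, ⟨0, 1⟩, ⟨0, 1⟩, ⟨0, 2⟩, ⟨2, 2⟩, ⟨3, 1⟩, ⟨3, 1⟩, ⟨0, 0⟩, ⟨0, 0⟩, ⟨0, 0⟩, ⟨0, 0⟩, ⟨0, 0⟩, ⟨0, 0⟩, ⟨0, 0⟩, ⟨0, 0⟩, ⟨0, 0⟩, ⟨0, 0⟩],
  ![⟨3, 1⟩, ⟨0, 0⟩, ⟨0, 2⟩, ⟨1, 2⟩, ⟨0, 3⟩, ⟨2, 2⟩, ⟨2, 2⟩, ⟨3, 0⟩, ⟨2, 1⟩, ⟨0, 0⟩, ⟨0, 0⟩, ⟨0, 0⟩, ⟨0, 0⟩, ⟨0, 0⟩, ⟨0, 0⟩, ⟨0, 0⟩, ⟨0, 0⟩, ⟨0, 0⟩, ⟨0, 0⟩],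
  ![⟨0, 0⟩, ⟨0, 0⟩, ⟨2, 0⟩, ⟨2, 0⟩, ⟨1, 3⟩, ⟨3, 1⟩, ⟨2, 2⟩, ⟨3, 2⟩, ⟨0, 2⟩, ⟨3, 0⟩, ⟨0, 0⟩, ⟨0, 0⟩, ⟨0, 0⟩, ⟨0, 0⟩, ⟨0, 0⟩, ⟨0, 0⟩, ⟨0, 0⟩, ⟨0, 0⟩, ⟨0, 0⟩],
  ![⟨0, 2⟩, ⟨0, 0⟩, ⟨1, 1⟩, ⟨2, 0⟩, ⟨2, 2⟩, ⟨0, 2⟩, ⟨0, 0⟩, ⟨0, 0⟩, ⟨1, 0⟩, ⟨0, 0⟩, ⟨0, 0⟩, ⟨0, 0⟩, ⟨0, 0⟩, ⟨0, 0⟩, ⟨0, 0⟩, ⟨0, 0⟩, ⟨0, 0⟩, ⟨0, 0⟩, ⟨0, 0⟩],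
  ![⟨2, 2⟩, ⟨0, 0⟩, ⟨2, 2⟩, ⟨1, 3⟩, ⟨1, 1⟩, ⟨0, 3⟩, ⟨3, 1⟩, ⟨1, 2⟩, ⟨0, 3⟩, ⟨3, 0⟩, ⟨0, 0⟩, ⟨0, 0⟩, ⟨0, 0⟩, ⟨0, 0⟩, ⟨0, 0⟩, ⟨0, 0⟩, ⟨0, 0⟩, ⟨0, 0⟩, ⟨0, 0⟩],
  ![⟨3, 1⟩, ⟨0, 0⟩, ⟨3, 1⟩, ⟨3, 3⟩, ⟨3, 1⟩, ⟨2, 3⟩, ⟨0, 0⟩, ⟨3, 3⟩, ⟨2, 3⟩, ⟨3, 0⟩, ⟨0, 0⟩, ⟨0, 0⟩, ⟨0, 0⟩, ⟨0, 0⟩, ⟨0, 0⟩, ⟨0, 0⟩, ⟨0, 0⟩, ⟨0, 0⟩, ⟨0, 0⟩],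
  ![⟨2, 2⟩, ⟨0, 0⟩, ⟨2, 0⟩, ⟨2, 0⟩, ⟨1, 1⟩, ⟨2, 0⟩, ⟨0, 3⟩, ⟨0, 1⟩, ⟨1, 1⟩, ⟨0, 0⟩, ⟨0, 0⟩, ⟨0, 0⟩, ⟨0, 0⟩, ⟨0, 0⟩, ⟨0, 0⟩, ⟨0, 0⟩, ⟨0, 0⟩, ⟨0, 0⟩, ⟨0, 0⟩],
  ![⟨0, 0⟩, ⟨0, 0⟩, ⟨2, 2⟩, ⟨2, 0⟩, ⟨1, 1⟩, ⟨0, 0⟩, ⟨2, 3⟩, ⟨3, 3⟩, ⟨0, 2⟩, ⟨3, 0⟩, ⟨0, 0⟩, ⟨0, 0⟩, ⟨0, 0⟩, ⟨0, 0⟩, ⟨0, 0⟩, ⟨0, 0⟩, ⟨0, 0⟩, ⟨0, 0⟩, ⟨0, 0⟩],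
  ![⟨3, 3⟩, ⟨0, 0⟩, ⟨3, 1⟩, ⟨2, 2⟩, ⟨2, 0⟩, ⟨1, 3⟩, ⟨3, 1⟩, ⟨2, 2⟩, ⟨2, 2⟩, ⟨3, 0⟩, ⟨0, 0⟩, ⟨0, 0⟩, ⟨0, 0⟩, ⟨0, 0⟩, ⟨0, 0⟩, ⟨0, 0⟩, ⟨0, 0⟩, ⟨0, 0⟩, ⟨0, 0⟩],
  ![⟨1, 1⟩, ⟨0, 0⟩, ⟨3, 1⟩, ⟨2, 2⟩, ⟨2, 0⟩, ⟨3, 3⟩, ⟨2, 2⟩, ⟨1, 1⟩, ⟨2, 2⟩, ⟨3, 0⟩, ⟨0, 0⟩, ⟨0, 0⟩, ⟨0, 0⟩, ⟨0, 0⟩, ⟨0, 0⟩, ⟨0, 0⟩, ⟨0, 0⟩, ⟨0, 0⟩, ⟨0, 0⟩],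
  ![⟨3, 1⟩, ⟨0, 0⟩, ⟨3, 1⟩, ⟨0, 0⟩, ⟨0, 2⟩, ⟨3, 1⟩, ⟨0, 0⟩, ⟨0, 2⟩, ⟨3, 1⟩, ⟨3, 0⟩, ⟨0, 0⟩, ⟨0, 0⟩, ⟨0, 0⟩, ⟨0, 0⟩, ⟨0, 0⟩, ⟨0, 0⟩, ⟨0, 0⟩, ⟨0, 0⟩, ⟨0, 0⟩],
  ![⟨3, 1⟩, ⟨0, 0⟩, ⟨3, 3⟩, ⟨0, 0⟩, ⟨0, 0⟩, ⟨1, 1⟩, ⟨2, 2⟩, ⟨0, 2⟩, ⟨0, 2⟩, ⟨1, 0⟩, ⟨0, 0⟩, ⟨0, 0⟩, ⟨0, 0⟩, ⟨0, 0⟩, ⟨0, 0⟩, ⟨0, 0⟩, ⟨0, 0⟩, ⟨0, 0⟩, ⟨0, 0⟩]]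

def zA : Fin 19 → RuVec := ![
  ruOfArray ![![⟨1, 1⟩, ⟨-3, -1⟩, ⟨1, -1⟩, ⟨1, -1⟩], ![⟨1, -1⟩, ⟨0, 0⟩, ⟨-1, -1⟩, ⟨-1, 1⟩], ![⟨-1, 0⟩, ⟨1, -2⟩, ⟨0, 2⟩, ⟨-1, -1⟩], ![⟨2, 1⟩, ⟨0, -1⟩, ⟨-1, 0⟩, ⟨0, -1⟩], ![⟨1, 0⟩, ⟨-1, 0⟩, ⟨-1, -2⟩, ⟨1, 0⟩], ![⟨3, -5⟩, ⟨0, -1⟩, ⟨3, -1⟩, ⟨0, -1⟩], ![⟨2, 0⟩, ⟨0, 0⟩, ⟨0, 0⟩, ⟨2, -1⟩]],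
  ruOfArray ![![⟨-3, -1⟩, ⟨-3, -3⟩, ⟨1, -3⟩, ⟨0, 0⟩], ![⟨1, -3⟩, ⟨0, 1⟩, ⟨-1, -1⟩, ⟨0, -2⟩], ![⟨-1, -1⟩, ⟨0, -1⟩, ⟨1, 1⟩, ⟨-1, -1⟩], ![⟨1, 1⟩, ⟨-2, 0⟩, ⟨1, -1⟩, ⟨-1, -1⟩], ![⟨1, -1⟩, ⟨-1, 0⟩, ⟨-2, -2⟩, ⟨0, 0⟩], ![⟨4, -3⟩, ⟨-1, 0⟩, ⟨3, -1⟩, ⟨-1, -2⟩], ![⟨1, 0⟩, ⟨0, -1⟩, ⟨0, 0⟩, ⟨0, -4⟩]],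
  ruOfArray ![![⟨-4, -2⟩, ⟨-3, -1⟩, ⟨1, -2⟩, ⟨1, -1⟩], ![⟨4, -1⟩, ⟨-1, -1⟩, ⟨-3, 1⟩, ⟨0, 0⟩], ![⟨-1, 0⟩, ⟨0, 1⟩, ⟨2, 2⟩, ⟨1, -4⟩], ![⟨3, 0⟩, ⟨-1, -6⟩, ⟨-1, 1⟩, ⟨-2, -2⟩], ![⟨1, -2⟩, ⟨-2, 0⟩, ⟨-4, 2⟩, ⟨0, 1⟩], ![⟨0, -6⟩, ⟨1, -2⟩, ⟨1, -2⟩, ⟨0, 1⟩], ![⟨-1, -2⟩, ⟨0, -2⟩, ⟨0, 0⟩, ⟨4, -3⟩]],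
  ruOfArray ![![⟨-6, 0⟩, ⟨-3, -1⟩, ⟨0, -4⟩, ⟨1, -1⟩], ![⟨3, -4⟩, ⟨-2, -1⟩, ⟨-5, 0⟩, ⟨-1, -3⟩], ![⟨-3, -2⟩, ⟨1, 0⟩, ⟨3, 2⟩, ⟨-1, -4⟩], ![⟨3, 1⟩, ⟨-3, -4⟩, ⟨-1, 1⟩, ⟨-1, -1⟩], ![⟨2, -1⟩, ⟨-3, 0⟩, ⟨-2, 1⟩, ⟨-1, 1⟩], ![⟨0, -4⟩, ⟨0, -1⟩, ⟨3, -1⟩, ⟨2, 0⟩], ![⟨0, 1⟩, ⟨-1, -1⟩, ⟨1, 0⟩, ⟨1, -3⟩]],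
  ruOfArray ![![⟨-1, 0⟩, ⟨-1, -4⟩, ⟨2, -2⟩, ⟨1, -3⟩], ![⟨3, -1⟩, ⟨-1, 0⟩, ⟨-4, 1⟩, ⟨0, -1⟩], ![⟨-1, 0⟩, ⟨1, -1⟩, ⟨1, 2⟩, ⟨0, -3⟩], ![⟨2, 0⟩, ⟨-2, -3⟩, ⟨0, -1⟩, ⟨0, -1⟩], ![⟨1, -2⟩, ⟨0, 0⟩, ⟨-3, -1⟩, ⟨0, 1⟩], ![⟨3, -2⟩, ⟨2, 0⟩, ⟨1, -2⟩, ⟨-1, -1⟩], ![⟨0, 0⟩, ⟨1, 0⟩, ⟨0, 0⟩, ⟨3, -1⟩]],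
  ruOfArray ![![⟨-4, 0⟩, ⟨-2, -1⟩, ⟨1, -4⟩, ⟨0, -2⟩], ![⟨3, -3⟩, ⟨-1, -1⟩, ⟨-3, 0⟩, ⟨0, -2⟩], ![⟨-2, -1⟩, ⟨1, -1⟩, ⟨2, 2⟩, ⟨0, -5⟩], ![⟨3, 0⟩, ⟨-3, -5⟩, ⟨-1, 0⟩, ⟨-2, -1⟩], ![⟨1, -2⟩, ⟨-2, 0⟩, ⟨-3, 1⟩, ⟨0, 1⟩], ![⟨0, -4⟩, ⟨0, -1⟩, ⟨2, -2⟩, ⟨0, 0⟩], ![⟨-1, 0⟩, ⟨0, -1⟩, ⟨0, 0⟩, ⟨2, -3⟩]],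
  ruOfArray ![![⟨1, 2⟩, ⟨-1, -3⟩, ⟨3, -2⟩, ⟨4, -1⟩], ![⟨2, 0⟩, ⟨0, -1⟩, ⟨-1, 2⟩, ⟨-1, -2⟩], ![⟨-1, 0⟩, ⟨1, 1⟩, ⟨1, 2⟩, ⟨2, -4⟩], ![⟨3, 2⟩, ⟨3, -3⟩, ⟨-1, -1⟩, ⟨0, -2⟩], ![⟨2, 0⟩, ⟨0, -1⟩, ⟨-2, -1⟩, ⟨0, 1⟩], ![⟨4, -3⟩, ⟨2, 1⟩, ⟨2, -1⟩, ⟨1, 1⟩], ![⟨1, 0⟩, ⟨-1, 1⟩, ⟨0, 0⟩, ⟨3, 2⟩]],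
  ruOfArray ![![⟨-1, 2⟩, ⟨-2, -2⟩, ⟨1, -3⟩, ⟨1, -1⟩], ![⟨0, -4⟩, ⟨-1, 0⟩, ⟨-1, -1⟩, ⟨-1, -3⟩], ![⟨-2, -1⟩, ⟨3, -3⟩, ⟨1, 1⟩, ⟨2, -4⟩], ![⟨2, 1⟩, ⟨-1, -3⟩, ⟨-2, -1⟩, ⟨-2, -1⟩], ![⟨2, -3⟩, ⟨-1, -1⟩, ⟨-1, -1⟩, ⟨-1, 1⟩], ![⟨5, -1⟩, ⟨0, 0⟩, ⟨2, -2⟩, ⟨0, 0⟩], ![⟨0, 0⟩, ⟨-1, 0⟩, ⟨0, 0⟩, ⟨1, -1⟩]],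
  ruOfArray ![![⟨0, 1⟩, ⟨-2, -2⟩, ⟨0, -3⟩, ⟨2, -2⟩], ![⟨-1, -2⟩, ⟨0, 0⟩, ⟨0, 0⟩, ⟨-3, -2⟩], ![⟨-2, 1⟩, ⟨2, -3⟩, ⟨0, 0⟩, ⟨0, -5⟩], ![⟨3, 1⟩, ⟨-1, -3⟩, ⟨-3, -1⟩, ⟨-2, 0⟩], ![⟨1, -3⟩, ⟨-1, -1⟩, ⟨-2, -1⟩, ⟨0, 2⟩], ![⟨6, -3⟩, ⟨2, 1⟩, ⟨1, -2⟩, ⟨0, -1⟩], ![⟨0, 0⟩, ⟨0, 1⟩, ⟨0, 0⟩, ⟨2, 0⟩]],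
  ruOfArray ![![⟨-2, -1⟩, ⟨-2, -1⟩, ⟨1, -3⟩, ⟨3, -3⟩], ![⟨4, 0⟩, ⟨0, -1⟩, ⟨-2, 1⟩, ⟨-3, -2⟩], ![⟨0, 0⟩, ⟨0, -1⟩, ⟨1, 0⟩, ⟨-3, -6⟩], ![⟨2, 1⟩, ⟨-1, -4⟩, ⟨-2, 0⟩, ⟨-1, 0⟩], ![⟨0, -2⟩, ⟨-1, 0⟩, ⟨-4, 1⟩, ⟨0, 2⟩], ![⟨2, -5⟩, ⟨3, 1⟩, ⟨1, 0⟩, ⟨0, -1⟩], ![⟨0, 1⟩, ⟨1, 0⟩, ⟨0, 0⟩, ⟨3, -1⟩]],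
  ruOfArray ![![⟨1, 0⟩, ⟨-1, 0⟩, ⟨2, -1⟩, ⟨1, -1⟩], ![⟨1, -1⟩, ⟨0, 0⟩, ⟨1, 0⟩, ⟨1, 0⟩], ![⟨1, 0⟩, ⟨0, -1⟩, ⟨1, 1⟩, ⟨0, -2⟩], ![⟨0, 1⟩, ⟨0, -1⟩, ⟨0, 1⟩, ⟨0, 0⟩], ![⟨0, 0⟩, ⟨0, 0⟩, ⟨-1, 0⟩, ⟨0, 1⟩], ![⟨3, -2⟩, ⟨0, -1⟩, ⟨0, 0⟩, ⟨0, 1⟩], ![⟨0, 1⟩, ⟨-1, 0⟩, ⟨0, 0⟩, ⟨1, -2⟩]],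
  ruOfArray ![![⟨-1, 0⟩, ⟨-2, -3⟩, ⟨3, -3⟩, ⟨1, -2⟩], ![⟨3, -2⟩, ⟨-1, -1⟩, ⟨-4, 2⟩, ⟨-1, -2⟩], ![⟨-1, -1⟩, ⟨0, -2⟩, ⟨1, 2⟩, ⟨1, -3⟩], ![⟨3, 1⟩, ⟨1, -3⟩, ⟨0, -1⟩, ⟨1, -3⟩], ![⟨2, 0⟩, ⟨0, -1⟩, ⟨-2, -1⟩, ⟨0, 1⟩], ![⟨3, -4⟩, ⟨2, 0⟩, ⟨1, -1⟩, ⟨1, 1⟩], ![⟨1, 0⟩, ⟨0, 0⟩, ⟨0, 0⟩, ⟨4, 0⟩]],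
  ruOfArray ![![⟨-3, -1⟩, ⟨-3, -2⟩, ⟨1, -5⟩, ⟨1, -3⟩], ![⟨2, -4⟩, ⟨-2, 0⟩, ⟨-3, 2⟩, ⟨0, -2⟩], ![⟨-2, -2⟩, ⟨-2, -1⟩, ⟨2, 2⟩, ⟨0, -5⟩], ![⟨3, 1⟩, ⟨-2, -5⟩, ⟨0, -1⟩, ⟨-2, -2⟩], ![⟨3, -2⟩, ⟨-2, -1⟩, ⟨-2, 0⟩, ⟨0, 1⟩], ![⟨2, -5⟩, ⟨1, -1⟩, ⟨1, -1⟩, ⟨2, -1⟩], ![⟨0, 0⟩, ⟨0, 0⟩, ⟨0, 0⟩, ⟨3, -4⟩]],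
  ruOfArray ![![⟨-1, -1⟩, ⟨-2, -1⟩, ⟨1, -2⟩, ⟨1, 0⟩], ![⟨1, 0⟩, ⟨0, 0⟩, ⟨1, -2⟩, ⟨-1, -2⟩], ![⟨0, 0⟩, ⟨1, 1⟩, ⟨0, 1⟩, ⟨0, -1⟩], ![⟨1, 2⟩, ⟨1, -1⟩, ⟨0, -1⟩, ⟨0, 0⟩], ![⟨1, 0⟩, ⟨-1, 0⟩, ⟨-1, -1⟩, ⟨0, 0⟩], ![⟨3, -4⟩, ⟨0, 0⟩, ⟨2, 0⟩, ⟨0, -1⟩], ![⟨1, 0⟩, ⟨0, 0⟩, ⟨0, 0⟩, ⟨0, -1⟩]],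
  ruOfArray ![![⟨-3, 0⟩, ⟨-2, -2⟩, ⟨2, -2⟩, ⟨2, -2⟩], ![⟨5, 0⟩, ⟨0, -1⟩, ⟨-3, 0⟩, ⟨-1, -2⟩], ![⟨0, 0⟩, ⟨3, -1⟩, ⟨1, 1⟩, ⟨-1, -4⟩], ![⟨2, 0⟩, ⟨-2, -3⟩, ⟨-1, 0⟩, ⟨0, 0⟩], ![⟨0, -1⟩, ⟨0, 0⟩, ⟨-3, 0⟩, ⟨-1, 1⟩], ![⟨2, -3⟩, ⟨2, 0⟩, ⟨1, -1⟩, ⟨-1, -1⟩], ![⟨-1, 1⟩, ⟨1, -1⟩, ⟨0, 0⟩, ⟨3, -1⟩]],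
  ruOfArray ![![⟨-3, 0⟩, ⟨-3, -2⟩, ⟨1, -5⟩, ⟨1, -2⟩], ![⟨1, -4⟩, ⟨-2, 0⟩, ⟨-4, 2⟩, ⟨-1, -3⟩], ![⟨-2, -2⟩, ⟨-1, -2⟩, ⟨2, 2⟩, ⟨0, -4⟩], ![⟨3, 1⟩, ⟨-1, -4⟩, ⟨0, 0⟩, ⟨-1, -2⟩], ![⟨2, -1⟩, ⟨-2, -1⟩, ⟨-3, 0⟩, ⟨0, 1⟩], ![⟨2, -6⟩, ⟨0, 0⟩, ⟨1, -2⟩, ⟨1, 1⟩], ![⟨1, 0⟩, ⟨-1, 0⟩, ⟨0, 0⟩, ⟨2, -2⟩]],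
  ruOfArray ![![⟨-2, -1⟩, ⟨-2, -2⟩, ⟨1, -4⟩, ⟨-1, -1⟩], ![⟨0, -2⟩, ⟨-2, 0⟩, ⟨-3, 1⟩, ⟨-1, -3⟩], ![⟨-2, -1⟩, ⟨-3, -1⟩, ⟨2, 2⟩, ⟨-1, -4⟩], ![⟨3, 1⟩, ⟨-1, -3⟩, ⟨-1, 0⟩, ⟨-1, -2⟩], ![⟨1, -1⟩, ⟨-2, -1⟩, ⟨-3, -1⟩, ⟨1, 1⟩], ![⟨2, -6⟩, ⟨0, 0⟩, ⟨2, -1⟩, ⟨1, 0⟩], ![⟨2, 0⟩, ⟨0, 0⟩, ⟨0, 0⟩, ⟨2, -2⟩]],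
  ruOfArray ![![⟨-3, -1⟩, ⟨-1, 0⟩, ⟨-1, -1⟩, ⟨0, 0⟩], ![⟨1, 0⟩, ⟨-1, 0⟩, ⟨-1, 0⟩, ⟨-1, -1⟩], ![⟨-2, 0⟩, ⟨-1, 1⟩, ⟨2, 1⟩, ⟨-2, -5⟩], ![⟨3, -1⟩, ⟨-3, -6⟩, ⟨-1, 2⟩, ⟨-2, 0⟩], ![⟨0, -1⟩, ⟨-3, 0⟩, ⟨0, 1⟩, ⟨1, 1⟩], ![⟨-1, -5⟩, ⟨0, -2⟩, ⟨1, 1⟩, ⟨3, 0⟩], ![⟨-1, 0⟩, ⟨0, 0⟩, ⟨0, 0⟩, ⟨3, -2⟩]],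
  ruOfArray ![![⟨0, -2⟩, ⟨-2, -2⟩, ⟨2, -1⟩, ⟨1, 0⟩], ![⟨2, 0⟩, ⟨0, 0⟩, ⟨-2, -1⟩, ⟨-1, -2⟩], ![⟨0, -1⟩, ⟨2, -1⟩, ⟨1, 1⟩, ⟨0, -2⟩], ![⟨2, 1⟩, ⟨0, -3⟩, ⟨0, 0⟩, ⟨0, -2⟩], ![⟨1, 0⟩, ⟨0, -1⟩, ⟨-1, -1⟩, ⟨0, 0⟩], ![⟨3, -4⟩, ⟨0, 0⟩, ⟨1, 0⟩, ⟨1, 0⟩], ![⟨1, 0⟩, ⟨1, 0⟩, ⟨0, 0⟩, ⟨3, 0⟩]]]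

/-- coefficients of `gB j` on the check vectors -/
def cB : Fin 37 → Fin 19 → GaussianInt := ![
  ![⟨2, 2⟩, ⟨0, 0⟩, ⟨2, 2⟩, ⟨0, 0⟩, ⟨2, 0⟩, ⟨0, 0⟩, ⟨2, 0⟩, ⟨0, 0⟩, ⟨2, 2⟩, ⟨3, 1⟩, ⟨2, 1⟩, ⟨1, 0⟩, ⟨1, 0⟩, ⟨1, 0⟩, ⟨1, 3⟩, ⟨0, 2⟩, ⟨1, 1⟩, ⟨0, 2⟩, ⟨2, 0⟩],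
  ![⟨2, 0⟩, ⟨2, 0⟩, ⟨2, 2⟩, ⟨0, 0⟩, ⟨2, 0⟩, ⟨2, 0⟩, ⟨2, 2⟩, ⟨0, 0⟩, ⟨2, 2⟩, ⟨2, 0⟩, ⟨2, 1⟩, ⟨3, 3⟩, ⟨1, 2⟩, ⟨1, 1⟩, ⟨2, 1⟩, ⟨0, 2⟩, ⟨1, 3⟩, ⟨0, 2⟩, ⟨3, 0⟩],
  ![⟨0, 0⟩, ⟨2, 0⟩, ⟨0, 2⟩, ⟨0, 0⟩, ⟨2, 2⟩, ⟨0, 2⟩, ⟨0, 2⟩, ⟨2, 0⟩, ⟨0, 2⟩, ⟨2, 2⟩, ⟨3, 3⟩, ⟨2, 1⟩, ⟨1, 3⟩, ⟨0, 2⟩, ⟨1, 0⟩, ⟨2, 0⟩, ⟨0, 3⟩, ⟨2, 1⟩, ⟨2, 0⟩],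
  ![⟨0, 2⟩, ⟨0, 0⟩, ⟨0, 2⟩, ⟨0, 0⟩, ⟨0, 0⟩, ⟨0, 2⟩, ⟨0, 2⟩, ⟨0, 0⟩, ⟨2, 2⟩, ⟨1, 1⟩, ⟨0, 0⟩, ⟨0, 0⟩, ⟨0, 0⟩, ⟨1, 0⟩, ⟨0, 2⟩, ⟨3, 3⟩, ⟨1, 2⟩, ⟨2, 3⟩, ⟨3, 0⟩],
  ![⟨2, 0⟩, ⟨0, 0⟩, ⟨0, 2⟩, ⟨2, 2⟩, ⟨0, 2⟩, ⟨0, 2⟩, ⟨0, 0⟩, ⟨2, 2⟩, ⟨2, 2⟩, ⟨0, 0⟩, ⟨0, 3⟩, ⟨1, 2⟩, ⟨1, 2⟩, ⟨3, 1⟩, ⟨3, 3⟩, ⟨2, 2⟩, ⟨0, 3⟩, ⟨0, 3⟩, ⟨1, 0⟩],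
  ![⟨2, 0⟩, ⟨2, 0⟩, ⟨2, 2⟩, ⟨2, 2⟩, ⟨2, 0⟩, ⟨0, 0⟩, ⟨2, 2⟩, ⟨0, 2⟩, ⟨0, 2⟩, ⟨2, 2⟩, ⟨2, 1⟩, ⟨3, 1⟩, ⟨2, 3⟩, ⟨1, 0⟩, ⟨3, 0⟩, ⟨2, 0⟩, ⟨3, 2⟩, ⟨2, 1⟩, ⟨1, 0⟩],
  ![⟨2, 2⟩, ⟨2, 0⟩, ⟨0, 2⟩, ⟨0, 0⟩, ⟨0, 0⟩, ⟨0, 0⟩, ⟨2, 0⟩, ⟨0, 0⟩, ⟨0, 0⟩, ⟨0, 2⟩, ⟨1, 1⟩, ⟨0, 1⟩, ⟨0, 2⟩, ⟨3, 2⟩, ⟨0, 1⟩, ⟨3, 3⟩, ⟨2, 0⟩, ⟨2, 2⟩, ⟨2, 0⟩],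
  ![⟨2, 2⟩, ⟨0, 0⟩, ⟨0, 0⟩, ⟨0, 0⟩, ⟨2, 0⟩, ⟨2, 0⟩, ⟨0, 2⟩, ⟨2, 2⟩, ⟨0, 2⟩, ⟨0, 0⟩, ⟨0, 2⟩, ⟨2, 3⟩, ⟨0, 1⟩, ⟨2, 0⟩, ⟨0, 0⟩, ⟨3, 2⟩, ⟨0, 0⟩, ⟨1, 0⟩, ⟨1, 0⟩],
  ![⟨0, 0⟩, ⟨2, 0⟩, ⟨2, 2⟩, ⟨0, 2⟩, ⟨2, 2⟩, ⟨0, 0⟩, ⟨2, 0⟩, ⟨0, 0⟩, ⟨0, 0⟩, ⟨3, 1⟩, ⟨1, 3⟩, ⟨1, 1⟩, ⟨0, 3⟩, ⟨1, 2⟩, ⟨2, 1⟩, ⟨0, 0⟩, ⟨1, 0⟩, ⟨1, 2⟩, ⟨3, 0⟩],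
  ![⟨0, 2⟩, ⟨2, 0⟩, ⟨2, 0⟩, ⟨0, 0⟩, ⟨2, 2⟩, ⟨2, 2⟩, ⟨0, 2⟩, ⟨2, 0⟩, ⟨0, 2⟩, ⟨2, 0⟩, ⟨2, 0⟩, ⟨1, 3⟩, ⟨0, 1⟩, ⟨0, 1⟩, ⟨3, 3⟩, ⟨0, 0⟩, ⟨2, 0⟩, ⟨1, 0⟩, ⟨1, 0⟩],
  ![⟨0, 0⟩, ⟨2, 2⟩, ⟨0, 0⟩, ⟨2, 0⟩, ⟨2, 0⟩, ⟨2, 2⟩, ⟨0, 2⟩, ⟨0, 2⟩, ⟨0, 2⟩, ⟨0, 2⟩, ⟨1, 1⟩, ⟨3, 0⟩, ⟨1, 2⟩, ⟨3, 1⟩, ⟨3, 2⟩, ⟨2, 1⟩, ⟨0, 3⟩, ⟨3, 0⟩, ⟨0, 0⟩],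
  ![⟨0, 0⟩, ⟨2, 0⟩, ⟨0, 0⟩, ⟨0, 0⟩, ⟨2, 0⟩, ⟨2, 0⟩, ⟨0, 2⟩, ⟨0, 0⟩, ⟨0, 2⟩, ⟨3, 1⟩, ⟨2, 2⟩, ⟨2, 3⟩, ⟨0, 0⟩, ⟨1, 2⟩, ⟨3, 1⟩, ⟨1, 0⟩, ⟨0, 0⟩, ⟨2, 2⟩, ⟨3, 0⟩],
  ![⟨0, 0⟩, ⟨2, 2⟩, ⟨2, 2⟩, ⟨0, 2⟩, ⟨2, 2⟩, ⟨0, 2⟩, ⟨0, 0⟩, ⟨2, 0⟩, ⟨0, 0⟩, ⟨0, 0⟩, ⟨3, 1⟩, ⟨2, 2⟩, ⟨0, 2⟩, ⟨3, 3⟩, ⟨0, 1⟩, ⟨0, 2⟩, ⟨3, 2⟩, ⟨1, 3⟩, ⟨1, 0⟩],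
  ![⟨0, 2⟩, ⟨2, 0⟩, ⟨0, 2⟩, ⟨2, 0⟩, ⟨0, 2⟩, ⟨2, 0⟩, ⟨2, 0⟩, ⟨2, 0⟩, ⟨2, 2⟩, ⟨2, 0⟩, ⟨3, 3⟩, ⟨1, 0⟩, ⟨3, 1⟩, ⟨2, 1⟩, ⟨1, 2⟩, ⟨0, 1⟩, ⟨0, 1⟩, ⟨1, 3⟩, ⟨3, 0⟩],
  ![⟨0, 2⟩, ⟨2, 0⟩, ⟨0, 0⟩, ⟨2, 0⟩, ⟨0, 2⟩, ⟨2, 0⟩, ⟨0, 2⟩, ⟨0, 0⟩, ⟨2, 0⟩, ⟨1, 3⟩, ⟨1, 2⟩, ⟨2, 3⟩, ⟨3, 0⟩, ⟨1, 2⟩, ⟨2, 0⟩, ⟨3, 3⟩, ⟨3, 0⟩, ⟨2, 2⟩, ⟨0, 0⟩],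
  ![⟨2, 2⟩, ⟨2, 0⟩, ⟨0, 0⟩, ⟨0, 0⟩, ⟨2, 2⟩, ⟨0, 2⟩, ⟨2, 2⟩, ⟨0, 0⟩, ⟨0, 2⟩, ⟨3, 3⟩, ⟨0, 3⟩, ⟨2, 1⟩, ⟨3, 2⟩, ⟨0, 3⟩, ⟨1, 3⟩, ⟨1, 2⟩, ⟨3, 2⟩, ⟨0, 0⟩, ⟨0, 0⟩],
  ![⟨0, 0⟩, ⟨0, 0⟩, ⟨0, 0⟩, ⟨2, 0⟩, ⟨2, 0⟩, ⟨0, 2⟩, ⟨0, 2⟩, ⟨0, 0⟩, ⟨2, 0⟩, ⟨0, 2⟩, ⟨2, 0⟩, ⟨3, 1⟩, ⟨1, 3⟩, ⟨0, 2⟩, ⟨0, 0⟩, ⟨2, 0⟩, ⟨2, 2⟩, ⟨3, 3⟩, ⟨2, 0⟩],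
  ![⟨2, 0⟩, ⟨2, 2⟩, ⟨2, 0⟩, ⟨0, 0⟩, ⟨0, 0⟩, ⟨0, 0⟩, ⟨2, 0⟩, ⟨0, 2⟩, ⟨2, 0⟩, ⟨1, 3⟩, ⟨2, 0⟩, ⟨2, 0⟩, ⟨0, 0⟩, ⟨0, 2⟩, ⟨0, 0⟩, ⟨1, 3⟩, ⟨0, 0⟩, ⟨0, 2⟩, ⟨1, 0⟩],
  ![⟨2, 0⟩, ⟨2, 2⟩, ⟨2, 0⟩, ⟨0, 0⟩, ⟨0, 2⟩, ⟨2, 2⟩, ⟨0, 0⟩, ⟨0, 0⟩, ⟨0, 2⟩, ⟨2, 0⟩, ⟨3, 2⟩, ⟨0, 3⟩, ⟨3, 2⟩, ⟨2, 1⟩, ⟨0, 2⟩, ⟨2, 0⟩, ⟨2, 1⟩, ⟨1, 0⟩, ⟨0, 0⟩],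
  ![⟨0, 0⟩, ⟨2, 2⟩, ⟨2, 0⟩, ⟨0, 2⟩, ⟨2, 2⟩, ⟨0, 2⟩, ⟨2, 2⟩, ⟨0, 0⟩, ⟨2, 2⟩, ⟨0, 2⟩, ⟨2, 3⟩, ⟨0, 1⟩, ⟨3, 0⟩, ⟨3, 0⟩, ⟨3, 3⟩, ⟨1, 2⟩, ⟨0, 3⟩, ⟨0, 3⟩, ⟨0, 0⟩],
  ![⟨0, 2⟩, ⟨2, 2⟩, ⟨0, 2⟩, ⟨0, 0⟩, ⟨2, 2⟩, ⟨2, 2⟩, ⟨2, 0⟩, ⟨2, 0⟩, ⟨2, 0⟩, ⟨3, 3⟩, ⟨0, 0⟩, ⟨1, 3⟩, ⟨1, 1⟩, ⟨0, 2⟩, ⟨2, 2⟩, ⟨2, 2⟩, ⟨2, 2⟩, ⟨3, 1⟩, ⟨1, 0⟩],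
  ![⟨0, 0⟩, ⟨0, 2⟩, ⟨0, 0⟩, ⟨0, 0⟩, ⟨2, 0⟩, ⟨2, 2⟩, ⟨0, 0⟩, ⟨0, 2⟩, ⟨2, 2⟩, ⟨0, 0⟩, ⟨2, 2⟩, ⟨2, 2⟩, ⟨2, 0⟩, ⟨3, 3⟩, ⟨3, 3⟩, ⟨2, 1⟩, ⟨0, 2⟩, ⟨1, 0⟩, ⟨3, 0⟩],
  ![⟨0, 2⟩, ⟨0, 2⟩, ⟨0, 0⟩, ⟨0, 2⟩, ⟨2, 2⟩, ⟨2, 2⟩, ⟨0, 2⟩, ⟨2, 0⟩, ⟨2, 2⟩, ⟨0, 2⟩, ⟨1, 3⟩, ⟨2, 2⟩, ⟨2, 0⟩, ⟨3, 3⟩, ⟨2, 2⟩, ⟨1, 1⟩, ⟨1, 1⟩, ⟨2, 3⟩, ⟨1, 0⟩],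
  ![⟨0, 0⟩, ⟨0, 0⟩, ⟨0, 0⟩, ⟨0, 2⟩, ⟨2, 0⟩, ⟨0, 2⟩, ⟨0, 2⟩, ⟨0, 0⟩, ⟨2, 0⟩, ⟨0, 2⟩, ⟨2, 0⟩, ⟨0, 0⟩, ⟨0, 2⟩, ⟨0, 2⟩, ⟨0, 2⟩, ⟨3, 3⟩, ⟨0, 0⟩, ⟨0, 0⟩, ⟨2, 0⟩],
  ![⟨2, 0⟩, ⟨0, 0⟩, ⟨2, 2⟩, ⟨2, 0⟩, ⟨0, 2⟩, ⟨2, 0⟩, ⟨0, 0⟩, ⟨0, 0⟩, ⟨0, 2⟩, ⟨0, 2⟩, ⟨1, 1⟩, ⟨2, 0⟩, ⟨0, 2⟩, ⟨0, 2⟩, ⟨1, 3⟩, ⟨2, 3⟩, ⟨1, 3⟩, ⟨2, 2⟩, ⟨0, 0⟩],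
  ![⟨0, 2⟩, ⟨0, 2⟩, ⟨0, 0⟩, ⟨0, 0⟩, ⟨0, 0⟩, ⟨0, 0⟩, ⟨0, 2⟩, ⟨2, 0⟩, ⟨0, 0⟩, ⟨0, 2⟩, ⟨0, 3⟩, ⟨3, 2⟩, ⟨2, 0⟩, ⟨1, 3⟩, ⟨3, 1⟩, ⟨0, 0⟩, ⟨1, 3⟩, ⟨2, 1⟩, ⟨3, 0⟩],
  ![⟨2, 0⟩, ⟨2, 2⟩, ⟨0, 2⟩, ⟨2, 2⟩, ⟨0, 0⟩, ⟨2, 0⟩, ⟨2, 0⟩, ⟨0, 0⟩, ⟨0, 0⟩, ⟨1, 1⟩, ⟨2, 0⟩, ⟨0, 2⟩, ⟨3, 3⟩, ⟨1, 3⟩, ⟨1, 2⟩, ⟨1, 1⟩, ⟨0, 0⟩, ⟨2, 3⟩, ⟨1, 0⟩],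
  ![⟨0, 0⟩, ⟨0, 0⟩, ⟨2, 2⟩, ⟨2, 2⟩, ⟨2, 2⟩, ⟨2, 2⟩, ⟨2, 2⟩, ⟨2, 2⟩, ⟨0, 0⟩, ⟨2, 2⟩, ⟨1, 3⟩, ⟨2, 0⟩, ⟨2, 2⟩, ⟨2, 0⟩, ⟨2, 0⟩, ⟨0, 0⟩, ⟨0, 2⟩, ⟨1, 1⟩, ⟨2, 0⟩],
  ![⟨2, 0⟩, ⟨2, 2⟩, ⟨2, 0⟩, ⟨0, 0⟩, ⟨2, 2⟩, ⟨0, 0⟩, ⟨0, 2⟩, ⟨2, 0⟩, ⟨2, 0⟩, ⟨1, 3⟩, ⟨2, 0⟩, ⟨3, 3⟩, ⟨1, 1⟩, ⟨1, 1⟩, ⟨2, 0⟩, ⟨0, 2⟩, ⟨1, 1⟩, ⟨0, 2⟩, ⟨1, 0⟩],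
  ![⟨0, 2⟩, ⟨0, 2⟩, ⟨2, 0⟩, ⟨2, 2⟩, ⟨2, 2⟩, ⟨2, 2⟩, ⟨2, 2⟩, ⟨2, 0⟩, ⟨2, 2⟩, ⟨2, 0⟩, ⟨2, 0⟩, ⟨0, 0⟩, ⟨2, 2⟩, ⟨0, 0⟩, ⟨0, 0⟩, ⟨2, 0⟩, ⟨0, 0⟩, ⟨3, 3⟩, ⟨2, 0⟩],
  ![⟨2, 2⟩, ⟨2, 0⟩, ⟨2, 2⟩, ⟨0, 2⟩, ⟨2, 0⟩, ⟨0, 2⟩, ⟨0, 2⟩, ⟨0, 2⟩, ⟨0, 2⟩, ⟨1, 1⟩, ⟨3, 3⟩, ⟨2, 3⟩, ⟨2, 2⟩, ⟨2, 0⟩, ⟨3, 3⟩, ⟨2, 0⟩, ⟨1, 1⟩, ⟨3, 1⟩, ⟨2, 0⟩],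
  ![⟨2, 0⟩, ⟨0, 0⟩, ⟨0, 0⟩, ⟨0, 2⟩, ⟨2, 0⟩, ⟨2, 2⟩, ⟨0, 0⟩, ⟨0, 2⟩, ⟨2, 2⟩, ⟨3, 1⟩, ⟨1, 0⟩, ⟨3, 3⟩, ⟨2, 0⟩, ⟨1, 1⟩, ⟨0, 3⟩, ⟨3, 1⟩, ⟨1, 1⟩, ⟨0, 0⟩, ⟨1, 0⟩],
  ![⟨0, 2⟩, ⟨2, 2⟩, ⟨2, 0⟩, ⟨2, 2⟩, ⟨0, 0⟩, ⟨2, 2⟩, ⟨0, 2⟩, ⟨2, 0⟩, ⟨0, 2⟩, ⟨1, 1⟩, ⟨1, 1⟩, ⟨1, 3⟩, ⟨3, 1⟩, ⟨1, 1⟩, ⟨2, 2⟩, ⟨2, 2⟩, ⟨1, 1⟩, ⟨1, 3⟩, ⟨3, 0⟩],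
  ![⟨0, 2⟩, ⟨2, 0⟩, ⟨2, 0⟩, ⟨2, 2⟩, ⟨2, 2⟩, ⟨2, 2⟩, ⟨0, 0⟩, ⟨2, 0⟩, ⟨0, 0⟩, ⟨2, 2⟩, ⟨2, 0⟩, ⟨2, 2⟩, ⟨0, 2⟩, ⟨0, 2⟩, ⟨2, 2⟩, ⟨2, 0⟩, ⟨2, 2⟩, ⟨3, 3⟩, ⟨0, 0⟩],
  ![⟨2, 0⟩, ⟨0, 2⟩, ⟨2, 2⟩, ⟨2, 2⟩, ⟨2, 2⟩, ⟨2, 2⟩, ⟨0, 2⟩, ⟨0, 2⟩, ⟨2, 2⟩, ⟨2, 2⟩, ⟨1, 2⟩, ⟨2, 1⟩, ⟨0, 2⟩, ⟨3, 3⟩, ⟨1, 0⟩, ⟨3, 3⟩, ⟨1, 3⟩, ⟨3, 3⟩, ⟨3, 0⟩],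
  ![⟨0, 0⟩, ⟨2, 2⟩, ⟨2, 0⟩, ⟨0, 2⟩, ⟨0, 2⟩, ⟨0, 2⟩, ⟨0, 2⟩, ⟨0, 2⟩, ⟨0, 0⟩, ⟨0, 2⟩, ⟨2, 3⟩, ⟨1, 1⟩, ⟨3, 3⟩, ⟨2, 2⟩, ⟨0, 0⟩, ⟨0, 0⟩, ⟨1, 1⟩, ⟨2, 3⟩, ⟨0, 0⟩],
  ![⟨2, 2⟩, ⟨2, 0⟩, ⟨0, 0⟩, ⟨0, 2⟩, ⟨2, 0⟩, ⟨0, 2⟩, ⟨0, 2⟩, ⟨2, 0⟩, ⟨0, 2⟩, ⟨3, 3⟩, ⟨1, 1⟩, ⟨3, 2⟩, ⟨2, 0⟩, ⟨2, 0⟩, ⟨0, 1⟩, ⟨1, 1⟩, ⟨1, 1⟩, ⟨0, 1⟩, ⟨2, 0⟩]]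

def zB : Fin 37 → RuVec := ![
  ruOfArray ![![⟨-8, -6⟩, ⟨-1, 6⟩, ⟨-3, -2⟩, ⟨-8, -2⟩], ![⟨-5, -5⟩, ⟨-9, -6⟩, ⟨-11, 1⟩, ⟨-2, 3⟩], ![⟨-12, 3⟩, ⟨-4, 4⟩, ⟨-6, 1⟩, ⟨-3, -4⟩], ![⟨3, -2⟩, ⟨-2, -4⟩, ⟨-2, -3⟩, ⟨-1, -3⟩], ![⟨-9, -1⟩, ⟨-7, 3⟩, ⟨-3, 0⟩, ⟨0, 5⟩], ![⟨-12, -6⟩, ⟨-3, -8⟩, ⟨-2, 1⟩, ⟨-8, 7⟩], ![⟨-2, 7⟩, ⟨-2, -1⟩, ⟨-3, 5⟩, ⟨-5, -1⟩]],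
  ruOfArray ![![⟨-14, -9⟩, ⟨-9, 8⟩, ⟨-7, -9⟩, ⟨-6, -5⟩], ![⟨-3, -5⟩, ⟨-14, -11⟩, ⟨-8, -3⟩, ⟨-5, -6⟩], ![⟨-15, 10⟩, ⟨-3, 3⟩, ⟨-10, 2⟩, ⟨-7, 3⟩], ![⟨1, 0⟩, ⟨-3, -2⟩, ⟨-5, -7⟩, ⟨2, -2⟩], ![⟨-9, 2⟩, ⟨-10, 0⟩, ⟨-4, -6⟩, ⟨0, 0⟩], ![⟨-18, -5⟩, ⟨-3, -8⟩, ⟨-3, 5⟩, ⟨-11, 5⟩], ![⟨-2, 6⟩, ⟨-6, 3⟩, ⟨-5, 4⟩, ⟨-8, -3⟩]],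
  ruOfArray ![![⟨-13, -4⟩, ⟨-12, 6⟩, ⟨-6, -6⟩, ⟨-4, -9⟩], ![⟨2, -6⟩, ⟨-14, -6⟩, ⟨-6, 0⟩, ⟨-8, -11⟩], ![⟨-10, 4⟩, ⟨-5, 1⟩, ⟨-9, -3⟩, ⟨-5, 6⟩], ![⟨-3, 4⟩, ⟨1, -1⟩, ⟨-9, -5⟩, ⟨1, 3⟩], ![⟨-9, 7⟩, ⟨-7, -3⟩, ⟨-10, -2⟩, ⟨-1, 1⟩], ![⟨-12, 1⟩, ⟨-3, 1⟩, ⟨-4, 9⟩, ⟨-7, 6⟩], ![⟨-5, 4⟩, ⟨-6, 5⟩, ⟨-3, 7⟩, ⟨-6, -3⟩]],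
  ruOfArray ![![⟨-8, -7⟩, ⟨-4, 1⟩, ⟨-3, -1⟩, ⟨-6, 1⟩], ![⟨-2, -1⟩, ⟨-14, -4⟩, ⟨-5, 2⟩, ⟨3, -4⟩], ![⟨-8, 5⟩, ⟨-3, 5⟩, ⟨-4, 3⟩, ⟨-5, -2⟩], ![⟨1, -6⟩, ⟨-5, 0⟩, ⟨-6, -3⟩, ⟨-2, -1⟩], ![⟨-13, 1⟩, ⟨-6, 5⟩, ⟨-5, 0⟩, ⟨-3, 6⟩], ![⟨-12, -7⟩, ⟨-5, -6⟩, ⟨-6, 8⟩, ⟨-9, 7⟩], ![⟨3, 1⟩, ⟨-5, 2⟩, ⟨-2, 9⟩, ⟨-4, -3⟩]],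
  ruOfArray ![![⟨-11, -9⟩, ⟨-13, 0⟩, ⟨-7, -10⟩, ⟨-6, -3⟩], ![⟨-8, -3⟩, ⟨-16, -10⟩, ⟨-7, -2⟩, ⟨-4, -7⟩], ![⟨-18, 3⟩, ⟨-7, 3⟩, ⟨-8, -5⟩, ⟨-9, -6⟩], ![⟨-4, -6⟩, ⟨-3, -4⟩, ⟨-10, -11⟩, ⟨-3, -1⟩], ![⟨-15, -4⟩, ⟨-8, 1⟩, ⟨-2, -4⟩, ⟨-7, 4⟩], ![⟨-17, -6⟩, ⟨-7, -10⟩, ⟨-8, 4⟩, ⟨-14, 3⟩], ![⟨-9, 2⟩, ⟨-6, -4⟩, ⟨-4, 4⟩, ⟨-10, -9⟩]],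
  ruOfArray ![![⟨-17, -3⟩, ⟨-11, 6⟩, ⟨-12, -4⟩, ⟨-5, -2⟩], ![⟨-2, 0⟩, ⟨-17, 1⟩, ⟨-11, 3⟩, ⟨-12, -3⟩], ![⟨-8, 12⟩, ⟨-1, 7⟩, ⟨-9, 2⟩, ⟨-5, 9⟩], ![⟨-3, 0⟩, ⟨1, -1⟩, ⟨-14, -2⟩, ⟨1, -1⟩], ![⟨-9, 10⟩, ⟨-6, 3⟩, ⟨-10, -4⟩, ⟨-6, 4⟩], ![⟨-16, 4⟩, ⟨-5, -1⟩, ⟨-4, 4⟩, ⟨-7, 8⟩], ![⟨-6, 5⟩, ⟨-8, 3⟩, ⟨-1, 5⟩, ⟨-9, 2⟩]],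
  ruOfArray ![![⟨-9, -8⟩, ⟨-8, 2⟩, ⟨-8, 2⟩, ⟨-8, -7⟩], ![⟨-5, -4⟩, ⟨-14, -4⟩, ⟨-10, 2⟩, ⟨-4, -3⟩], ![⟨-10, 10⟩, ⟨-3, 4⟩, ⟨-4, -4⟩, ⟨-3, 3⟩], ![⟨0, -8⟩, ⟨-1, -3⟩, ⟨-8, 0⟩, ⟨-2, 1⟩], ![⟨-10, 3⟩, ⟨-8, 7⟩, ⟨-9, -2⟩, ⟨-4, 6⟩], ![⟨-11, -4⟩, ⟨-5, -6⟩, ⟨-9, 5⟩, ⟨-13, 10⟩], ![⟨1, 4⟩, ⟨-8, 2⟩, ⟨-2, 9⟩, ⟨-9, -2⟩]],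
  ruOfArray ![![⟨-11, -5⟩, ⟨-10, 2⟩, ⟨-2, -4⟩, ⟨-7, -6⟩], ![⟨1, -4⟩, ⟨-10, -3⟩, ⟨-6, -1⟩, ⟨-1, -8⟩], ![⟨-6, 6⟩, ⟨-1, 1⟩, ⟨0, -3⟩, ⟨-6, 6⟩], ![⟨-5, 0⟩, ⟨-5, -2⟩, ⟨-2, -2⟩, ⟨-1, 0⟩], ![⟨-4, 4⟩, ⟨-1, 3⟩, ⟨-6, -4⟩, ⟨1, 2⟩], ![⟨-10, -2⟩, ⟨-7, -3⟩, ⟨-1, 7⟩, ⟨-5, 7⟩], ![⟨2, 2⟩, ⟨-6, 3⟩, ⟨0, 4⟩, ⟨-7, 0⟩]],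
  ruOfArray ![![⟨-10, -8⟩, ⟨-7, 4⟩, ⟨-5, -1⟩, ⟨-1, -7⟩], ![⟨0, -6⟩, ⟨-9, -7⟩, ⟨-7, 1⟩, ⟨-2, -2⟩], ![⟨-9, 6⟩, ⟨-2, 3⟩, ⟨-8, -4⟩, ⟨-3, 2⟩], ![⟨-3, -4⟩, ⟨1, 1⟩, ⟨-1, -1⟩, ⟨1, 1⟩], ![⟨-8, 6⟩, ⟨-7, 0⟩, ⟨-3, -5⟩, ⟨3, 5⟩], ![⟨-15, 0⟩, ⟨-4, -6⟩, ⟨-6, 6⟩, ⟨-13, 7⟩], ![⟨-3, 7⟩, ⟨-6, 4⟩, ⟨-4, 5⟩, ⟨-6, -5⟩]],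
  ruOfArray ![![⟨-10, -8⟩, ⟨-3, 4⟩, ⟨-1, -8⟩, ⟨-3, -3⟩], ![⟨-2, -7⟩, ⟨-5, -5⟩, ⟨-8, 4⟩, ⟨-4, -1⟩], ![⟨-12, 6⟩, ⟨0, 4⟩, ⟨-5, -2⟩, ⟨-7, 1⟩], ![⟨-2, 1⟩, ⟨1, -3⟩, ⟨-3, -4⟩, ⟨-1, -2⟩], ![⟨-6, 5⟩, ⟨-3, 2⟩, ⟨-2, -3⟩, ⟨2, 6⟩], ![⟨-10, 0⟩, ⟨-1, -6⟩, ⟨-1, 0⟩, ⟨-7, 3⟩], ![⟨-4, 10⟩, ⟨-6, 0⟩, ⟨-1, 2⟩, ⟨-8, 0⟩]],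
  ruOfArray ![![⟨-14, -5⟩, ⟨-8, 1⟩, ⟨-11, -6⟩, ⟨-8, -1⟩], ![⟨-7, -1⟩, ⟨-19, -3⟩, ⟨-7, 6⟩, ⟨-12, -6⟩], ![⟨-11, 5⟩, ⟨-8, 8⟩, ⟨-5, -4⟩, ⟨-6, 3⟩], ![⟨-3, 2⟩, ⟨-3, -4⟩, ⟨-13, -8⟩, ⟨-6, 2⟩], ![⟨-12, 4⟩, ⟨-5, 4⟩, ⟨-11, 1⟩, ⟨-6, 2⟩], ![⟨-12, -1⟩, ⟨-11, -2⟩, ⟨-2, 5⟩, ⟨-6, 6⟩], ![⟨-4, 2⟩, ⟨-2, 1⟩, ⟨0, 7⟩, ⟨-9, -1⟩]],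
  ruOfArray ![![⟨-13, -7⟩, ⟨-4, 9⟩, ⟨-5, -3⟩, ⟨-3, -3⟩], ![⟨-1, -2⟩, ⟨-8, -7⟩, ⟨-6, 4⟩, ⟨2, -4⟩], ![⟨-13, 9⟩, ⟨-4, 6⟩, ⟨-7, 0⟩, ⟨-6, 6⟩], ![⟨-5, 2⟩, ⟨-1, -4⟩, ⟨0, -1⟩, ⟨-2, -1⟩], ![⟨-8, 9⟩, ⟨-5, 2⟩, ⟨-3, -4⟩, ⟨9, 7⟩], ![⟨-17, 3⟩, ⟨-7, -8⟩, ⟨-3, 12⟩, ⟨-11, 9⟩], ![⟨2, 10⟩, ⟨-7, 7⟩, ⟨-4, 6⟩, ⟨-10, 3⟩]],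
  ruOfArray ![![⟨-7, -9⟩, ⟨-6, 6⟩, ⟨-10, -6⟩, ⟨-7, -11⟩], ![⟨-3, -10⟩, ⟨-15, -10⟩, ⟨-15, -3⟩, ⟨-10, -5⟩], ![⟨-15, 10⟩, ⟨-8, 3⟩, ⟨-4, -3⟩, ⟨-5, 2⟩], ![⟨2, -3⟩, ⟨-1, -4⟩, ⟨-7, -5⟩, ⟨0, -3⟩], ![⟨-8, 0⟩, ⟨-14, 3⟩, ⟨-6, -9⟩, ⟨-7, 2⟩], ![⟨-9, 0⟩, ⟨-3, -9⟩, ⟨-2, 2⟩, ⟨-14, 4⟩], ![⟨-5, 10⟩, ⟨-8, -1⟩, ⟨-5, 6⟩, ⟨-11, -6⟩]],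
  ruOfArray ![![⟨-11, -5⟩, ⟨-7, 10⟩, ⟨-8, 0⟩, ⟨-7, -4⟩], ![⟨-7, -4⟩, ⟨-11, -5⟩, ⟨-7, 2⟩, ⟨-6, 1⟩], ![⟨-14, 4⟩, ⟨-4, 5⟩, ⟨-12, -2⟩, ⟨-2, -4⟩], ![⟨-2, -1⟩, ⟨1, -5⟩, ⟨-5, -2⟩, ⟨-2, -2⟩], ![⟨-10, 0⟩, ⟨-11, 3⟩, ⟨-7, 0⟩, ⟨0, 8⟩], ![⟨-12, 0⟩, ⟨-3, -7⟩, ⟨-6, 8⟩, ⟨-13, 9⟩], ![⟨-4, 8⟩, ⟨-4, 5⟩, ⟨-5, 7⟩, ⟨-10, -2⟩]],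
  ruOfArray ![![⟨-16, -2⟩, ⟨-10, 8⟩, ⟨-15, -2⟩, ⟨-8, -5⟩], ![⟨-5, 2⟩, ⟨-14, -2⟩, ⟨-14, -1⟩, ⟨-7, -3⟩], ![⟨-14, 11⟩, ⟨-7, 2⟩, ⟨-1, 3⟩, ⟨-11, 6⟩], ![⟨-6, -2⟩, ⟨2, -9⟩, ⟨-16, 3⟩, ⟨-4, -3⟩], ![⟨-15, 4⟩, ⟨-9, 7⟩, ⟨-11, -5⟩, ⟨-6, 11⟩], ![⟨-14, 1⟩, ⟨-6, -10⟩, ⟨-10, 6⟩, ⟨-13, 8⟩], ![⟨-8, 10⟩, ⟨-12, -1⟩, ⟨-4, 5⟩, ⟨-16, 2⟩]],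
  ruOfArray ![![⟨-12, -3⟩, ⟨-11, 6⟩, ⟨-11, -7⟩, ⟨-8, -11⟩], ![⟨-3, -9⟩, ⟨-13, -6⟩, ⟨-14, -4⟩, ⟨-14, -2⟩], ![⟨-15, -3⟩, ⟨-8, -1⟩, ⟨-1, -2⟩, ⟨-6, 2⟩], ![⟨0, 0⟩, ⟨6, -5⟩, ⟨-13, -3⟩, ⟨1, -3⟩], ![⟨-12, 0⟩, ⟨-9, 0⟩, ⟨-7, -1⟩, ⟨-11, 7⟩], ![⟨-15, -6⟩, ⟨1, -10⟩, ⟨-6, 0⟩, ⟨-12, 0⟩], ![⟨-15, 7⟩, ⟨-3, -4⟩, ⟨-4, 2⟩, ⟨-10, -5⟩]],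
  ruOfArray ![![⟨-13, -5⟩, ⟨-8, 8⟩, ⟨-12, -7⟩, ⟨-5, -5⟩], ![⟨-1, -6⟩, ⟨-16, -4⟩, ⟨-9, 1⟩, ⟨-8, -10⟩], ![⟨-5, 8⟩, ⟨-5, 4⟩, ⟨-6, 3⟩, ⟨-2, 8⟩], ![⟨-1, -1⟩, ⟨1, -1⟩, ⟨-12, -3⟩, ⟨-1, -2⟩], ![⟨-8, 5⟩, ⟨-10, 1⟩, ⟨-13, -4⟩, ⟨-6, 2⟩], ![⟨-13, 1⟩, ⟨-3, -3⟩, ⟨-5, 6⟩, ⟨-8, 6⟩], ![⟨-3, 2⟩, ⟨-9, 9⟩, ⟨-4, 8⟩, ⟨-9, -3⟩]],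
  ruOfArray ![![⟨-8, -4⟩, ⟨-1, 4⟩, ⟨-5, -4⟩, ⟨-4, -3⟩], ![⟨-3, -3⟩, ⟨-7, -8⟩, ⟨-12, 1⟩, ⟨-1, -3⟩], ![⟨-8, 6⟩, ⟨-5, -3⟩, ⟨0, 0⟩, ⟨1, -1⟩], ![⟨5, 0⟩, ⟨0, -7⟩, ⟨-4, -4⟩, ⟨-5, -2⟩], ![⟨-4, -3⟩, ⟨-8, 1⟩, ⟨-11, -4⟩, ⟨-3, 0⟩], ![⟨-4, -4⟩, ⟨-4, -4⟩, ⟨-5, -2⟩, ⟨-4, 5⟩], ![⟨2, 4⟩, ⟨-5, 0⟩, ⟨-4, 5⟩, ⟨-1, 1⟩]],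
  ruOfArray ![![⟨-9, -4⟩, ⟨-12, 9⟩, ⟨-6, -2⟩, ⟨-12, -5⟩], ![⟨-4, -5⟩, ⟨-10, 0⟩, ⟨-10, 0⟩, ⟨-13, -2⟩], ![⟨-13, 4⟩, ⟨-6, 4⟩, ⟨-6, -3⟩, ⟨-6, 4⟩], ![⟨-5, -1⟩, ⟨3, -5⟩, ⟨-8, 2⟩, ⟨3, -2⟩], ![⟨-7, 5⟩, ⟨-8, 4⟩, ⟨-5, 0⟩, ⟨-5, 7⟩], ![⟨-12, -1⟩, ⟨1, -5⟩, ⟨-2, 7⟩, ⟨-4, 5⟩], ![⟨-9, 6⟩, ⟨-7, -1⟩, ⟨1, 3⟩, ⟨-12, -2⟩]],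
  ruOfArray ![![⟨-9, -6⟩, ⟨-9, 5⟩, ⟨-6, -6⟩, ⟨-9, 1⟩], ![⟨-11, 0⟩, ⟨-14, -6⟩, ⟨-12, -4⟩, ⟨-6, 0⟩], ![⟨-19, 0⟩, ⟨-11, 1⟩, ⟨-10, -1⟩, ⟨-10, -6⟩], ![⟨-4, -1⟩, ⟨1, -5⟩, ⟨-10, -7⟩, ⟨-1, -3⟩], ![⟨-16, -2⟩, ⟨-9, 3⟩, ⟨-2, -4⟩, ⟨-6, 8⟩], ![⟨-12, -7⟩, ⟨-8, -8⟩, ⟨-3, 3⟩, ⟨-12, 5⟩], ![⟨-7, 7⟩, ⟨-5, -8⟩, ⟨-3, 3⟩, ⟨-14, -5⟩]],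
  ruOfArray ![![⟨-15, -7⟩, ⟨-8, 2⟩, ⟨-11, -8⟩, ⟨-4, -6⟩], ![⟨-2, -2⟩, ⟨-14, -6⟩, ⟨-12, 2⟩, ⟨-7, -6⟩], ![⟨-15, 6⟩, ⟨-7, 1⟩, ⟨-1, 3⟩, ⟨-13, 0⟩], ![⟨-2, -4⟩, ⟨-3, -7⟩, ⟨-13, 0⟩, ⟨-4, 0⟩], ![⟨-16, 2⟩, ⟨-8, 5⟩, ⟨-9, 1⟩, ⟨-5, 8⟩], ![⟨-16, -7⟩, ⟨-1, -9⟩, ⟨-9, 4⟩, ⟨-9, 4⟩], ![⟨-8, 4⟩, ⟨-7, 1⟩, ⟨-2, 5⟩, ⟨-8, -3⟩]],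
  ruOfArray ![![⟨-13, -6⟩, ⟨-10, 11⟩, ⟨-5, -4⟩, ⟨-11, 1⟩], ![⟨-7, -7⟩, ⟨-14, -5⟩, ⟨-4, 4⟩, ⟨-4, -2⟩], ![⟨-19, 6⟩, ⟨-6, 6⟩, ⟨-8, -3⟩, ⟨-1, 5⟩], ![⟨-4, 2⟩, ⟨-4, -4⟩, ⟨-4, -3⟩, ⟨-4, 0⟩], ![⟨-9, 8⟩, ⟨-7, 3⟩, ⟨-4, 3⟩, ⟨1, 6⟩], ![⟨-20, 2⟩, ⟨-9, -9⟩, ⟨-3, 13⟩, ⟨-11, 7⟩], ![⟨-2, 9⟩, ⟨-4, 4⟩, ⟨-1, 9⟩, ⟨-12, -4⟩]],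
  ruOfArray ![![⟨-13, -6⟩, ⟨-8, 8⟩, ⟨-13, -6⟩, ⟨-7, -6⟩], ![⟨-7, -6⟩, ⟨-14, -7⟩, ⟨-12, -2⟩, ⟨-7, -5⟩], ![⟨-18, 2⟩, ⟨-11, 3⟩, ⟨-4, -1⟩, ⟨-7, 1⟩], ![⟨-5, 0⟩, ⟨0, -8⟩, ⟨-9, -2⟩, ⟨-5, -4⟩], ![⟨-12, 1⟩, ⟨-11, 3⟩, ⟨-5, -4⟩, ⟨-3, 10⟩], ![⟨-13, 0⟩, ⟨-8, -13⟩, ⟨-4, 10⟩, ⟨-16, 6⟩], ![⟨-6, 10⟩, ⟨-7, 1⟩, ⟨-5, 7⟩, ⟨-16, -4⟩]],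
  ruOfArray ![![⟨-7, -5⟩, ⟨-5, 0⟩, ⟨2, -4⟩, ⟨-11, -2⟩], ![⟨-6, -9⟩, ⟨-9, -4⟩, ⟨-6, 4⟩, ⟨1, -4⟩], ![⟨-8, 4⟩, ⟨-2, -2⟩, ⟨-4, -5⟩, ⟨2, 1⟩], ![⟨3, -3⟩, ⟨-1, 0⟩, ⟨-4, -6⟩, ⟨-2, 2⟩], ![⟨-5, 0⟩, ⟨-5, 1⟩, ⟨-11, -1⟩, ⟨-3, 0⟩], ![⟨-6, -5⟩, ⟨-3, 0⟩, ⟨-7, -1⟩, ⟨-4, 4⟩], ![⟨4, 2⟩, ⟨-5, 0⟩, ⟨-1, 7⟩, ⟨-3, -4⟩]],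
  ruOfArray ![![⟨-10, -10⟩, ⟨-8, -2⟩, ⟨-11, -9⟩, ⟨-7, -7⟩], ![⟨-4, -2⟩, ⟨-15, -9⟩, ⟨-11, 1⟩, ⟨-11, -7⟩], ![⟨-12, 2⟩, ⟨-10, 3⟩, ⟨-2, -4⟩, ⟨-10, 0⟩], ![⟨2, -3⟩, ⟨0, -5⟩, ⟨-14, -11⟩, ⟨-6, -1⟩], ![⟨-16, -4⟩, ⟨-8, 1⟩, ⟨-12, -3⟩, ⟨-10, 0⟩], ![⟨-11, -10⟩, ⟨-2, -6⟩, ⟨-9, -1⟩, ⟨-8, 1⟩], ![⟨-8, 0⟩, ⟨-2, -3⟩, ⟨-5, 6⟩, ⟨-4, -5⟩]],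
  ruOfArray ![![⟨-15, -2⟩, ⟨-11, 11⟩, ⟨-12, -4⟩, ⟨1, -3⟩], ![⟨-1, -3⟩, ⟨-11, -6⟩, ⟨-4, -2⟩, ⟨-6, -6⟩], ![⟨-16, 3⟩, ⟨-4, 4⟩, ⟨-6, 2⟩, ⟨-4, 7⟩], ![⟨-6, 5⟩, ⟨-1, 1⟩, ⟨-6, -2⟩, ⟨-2, 1⟩], ![⟨-11, 9⟩, ⟨-7, 0⟩, ⟨-1, 0⟩, ⟨0, 7⟩], ![⟨-19, 6⟩, ⟨-6, -8⟩, ⟨-3, 14⟩, ⟨-16, 4⟩], ![⟨-8, 9⟩, ⟨-3, 6⟩, ⟨-4, 6⟩, ⟨-14, -2⟩]],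
  ruOfArray ![![⟨-11, -8⟩, ⟨-9, 1⟩, ⟨-12, -6⟩, ⟨-8, -4⟩], ![⟨-11, -2⟩, ⟨-10, -6⟩, ⟨-10, 4⟩, ⟨-9, -4⟩], ![⟨-12, 4⟩, ⟨-6, 1⟩, ⟨-9, -2⟩, ⟨-5, -1⟩], ![⟨-3, -7⟩, ⟨5, -8⟩, ⟨-10, -3⟩, ⟨-2, -3⟩], ![⟨-10, -3⟩, ⟨-11, 4⟩, ⟨-12, -1⟩, ⟨-6, 5⟩], ![⟨-10, -4⟩, ⟨2, -8⟩, ⟨-14, 2⟩, ⟨-9, 3⟩], ![⟨-5, 2⟩, ⟨-7, 4⟩, ⟨-3, 6⟩, ⟨-9, -3⟩]],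
  ruOfArray ![![⟨-11, -3⟩, ⟨-10, 5⟩, ⟨-6, -3⟩, ⟨-1, -3⟩], ![⟨-3, -1⟩, ⟨-12, -2⟩, ⟨-5, -1⟩, ⟨-7, -5⟩], ![⟨-8, 4⟩, ⟨-3, 2⟩, ⟨-9, -1⟩, ⟨-3, -2⟩], ![⟨-4, 2⟩, ⟨-2, 0⟩, ⟨-6, -3⟩, ⟨0, 2⟩], ![⟨-7, 4⟩, ⟨-6, 0⟩, ⟨-6, -3⟩, ⟨0, 4⟩], ![⟨-10, 0⟩, ⟨-6, 1⟩, ⟨-2, 7⟩, ⟨-9, 7⟩], ![⟨-4, 5⟩, ⟨-2, 5⟩, ⟨-2, 5⟩, ⟨-7, -2⟩]],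
  ruOfArray ![![⟨-14, -5⟩, ⟨-5, 8⟩, ⟨-8, -8⟩, ⟨-4, -5⟩], ![⟨-4, -3⟩, ⟨-10, -10⟩, ⟨-12, -3⟩, ⟨-4, -4⟩], ![⟨-12, 11⟩, ⟨-3, -2⟩, ⟨-6, 3⟩, ⟨-6, 0⟩], ![⟨0, 1⟩, ⟨-2, -6⟩, ⟨-7, -4⟩, ⟨-1, -1⟩], ![⟨-7, -1⟩, ⟨-9, 2⟩, ⟨-6, -7⟩, ⟨-2, 2⟩], ![⟨-9, -2⟩, ⟨-4, -8⟩, ⟨-4, 1⟩, ⟨-9, 5⟩], ![⟨-3, 9⟩, ⟨-8, 1⟩, ⟨-4, 2⟩, ⟨-9, 1⟩]],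
  ruOfArray ![![⟨-11, -3⟩, ⟨-7, 2⟩, ⟨-6, -3⟩, ⟨-4, -1⟩], ![⟨-2, -2⟩, ⟨-11, 1⟩, ⟨-6, 6⟩, ⟨-4, -5⟩], ![⟨-2, 4⟩, ⟨-2, 2⟩, ⟨-8, 3⟩, ⟨-5, 0⟩], ![⟨-3, -3⟩, ⟨0, -2⟩, ⟨-8, 1⟩, ⟨-1, -2⟩], ![⟨-7, 4⟩, ⟨-7, 3⟩, ⟨-12, 0⟩, ⟨-1, 6⟩], ![⟨-6, -2⟩, ⟨-1, -1⟩, ⟨-6, 7⟩, ⟨-3, 8⟩], ![⟨3, 2⟩, ⟨-7, 7⟩, ⟨-1, 7⟩, ⟨-4, -2⟩]],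
  ruOfArray ![![⟨-17, -8⟩, ⟨-11, 7⟩, ⟨-4, -3⟩, ⟨-10, -1⟩], ![⟨-5, -5⟩, ⟨-15, -2⟩, ⟨-12, 4⟩, ⟨-6, -5⟩], ![⟨-15, 7⟩, ⟨-2, 8⟩, ⟨-10, -3⟩, ⟨-6, 7⟩], ![⟨-10, 2⟩, ⟨0, -2⟩, ⟨-4, -4⟩, ⟨-1, -2⟩], ![⟨-11, 11⟩, ⟨-4, 5⟩, ⟨-6, -5⟩, ⟨2, 8⟩], ![⟨-19, 4⟩, ⟨-11, -5⟩, ⟨-2, 9⟩, ⟨-10, 12⟩], ![⟨-5, 9⟩, ⟨-9, 5⟩, ⟨-1, 7⟩, ⟨-16, 1⟩]],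
  ruOfArray ![![⟨-12, -3⟩, ⟨-6, 9⟩, ⟨-4, -7⟩, ⟨-13, 0⟩], ![⟨-4, -6⟩, ⟨-11, -3⟩, ⟨-11, 3⟩, ⟨-6, -3⟩], ![⟨-11, 5⟩, ⟨-8, 2⟩, ⟨-1, 1⟩, ⟨-2, 3⟩], ![⟨-1, 0⟩, ⟨-4, -6⟩, ⟨-4, -1⟩, ⟨-1, -4⟩], ![⟨-6, 1⟩, ⟨-5, 4⟩, ⟨-7, 2⟩, ⟨-3, 4⟩], ![⟨-16, -4⟩, ⟨-2, -9⟩, ⟨-2, 5⟩, ⟨-3, 3⟩], ![⟨-4, 3⟩, ⟨-5, 3⟩, ⟨0, 3⟩, ⟨-7, 0⟩]],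
  ruOfArray ![![⟨-15, -8⟩, ⟨-12, 7⟩, ⟨-7, -7⟩, ⟨-6, 0⟩], ![⟨-7, -2⟩, ⟨-12, -5⟩, ⟨-8, 3⟩, ⟨-2, -4⟩], ![⟨-14, 7⟩, ⟨-4, 2⟩, ⟨-10, 2⟩, ⟨-7, 0⟩], ![⟨-6, -3⟩, ⟨1, -1⟩, ⟨-7, -4⟩, ⟨0, -4⟩], ![⟨-12, 3⟩, ⟨-8, 4⟩, ⟨-6, -3⟩, ⟨-3, 9⟩], ![⟨-16, -2⟩, ⟨-2, -9⟩, ⟨-10, 9⟩, ⟨-13, 6⟩], ![⟨-2, 7⟩, ⟨-9, 4⟩, ⟨-3, 6⟩, ⟨-14, -3⟩]],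
  ruOfArray ![![⟨-13, -8⟩, ⟨-6, 2⟩, ⟨-12, -12⟩, ⟨-2, -5⟩], ![⟨-3, -3⟩, ⟨-14, -6⟩, ⟨-14, 5⟩, ⟨-10, -9⟩], ![⟨-11, 7⟩, ⟨-11, 5⟩, ⟨-4, -1⟩, ⟨-12, 2⟩], ![⟨-2, -2⟩, ⟨1, -5⟩, ⟨-13, -6⟩, ⟨-4, -2⟩], ![⟨-14, 3⟩, ⟨-8, 3⟩, ⟨-11, -3⟩, ⟨-6, 5⟩], ![⟨-13, -3⟩, ⟨-2, -5⟩, ⟨-8, 1⟩, ⟨-8, 3⟩], ![⟨-7, 4⟩, ⟨-10, 2⟩, ⟨-4, 5⟩, ⟨-10, -3⟩]],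
  ruOfArray ![![⟨-15, -9⟩, ⟨-13, 3⟩, ⟨-12, -4⟩, ⟨-7, -8⟩], ![⟨-1, -3⟩, ⟨-22, -9⟩, ⟨-9, 0⟩, ⟨-5, -11⟩], ![⟨-15, 10⟩, ⟨-9, 6⟩, ⟨-5, 0⟩, ⟨-7, 3⟩], ![⟨0, -4⟩, ⟨-6, -5⟩, ⟨-11, -4⟩, ⟨-4, 2⟩], ![⟨-14, 5⟩, ⟨-13, 3⟩, ⟨-11, -5⟩, ⟨-4, 3⟩], ![⟨-17, -6⟩, ⟨-9, -8⟩, ⟨-7, 13⟩, ⟨-14, 9⟩], ![⟨0, 4⟩, ⟨-7, 4⟩, ⟨-4, 12⟩, ⟨-8, -7⟩]],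
  ruOfArray ![![⟨-10, -5⟩, ⟨-10, 5⟩, ⟨-11, -3⟩, ⟨-4, -7⟩], ![⟨-4, -4⟩, ⟨-12, -4⟩, ⟨-12, -5⟩, ⟨-11, -7⟩], ![⟨-9, 0⟩, ⟨-7, 1⟩, ⟨-6, -2⟩, ⟨-3, 1⟩], ![⟨-6, -1⟩, ⟨6, -5⟩, ⟨-9, -2⟩, ⟨1, -3⟩], ![⟨-7, 1⟩, ⟨-12, 1⟩, ⟨-8, -8⟩, ⟨-8, 5⟩], ![⟨-7, 2⟩, ⟨-4, -4⟩, ⟨-4, 5⟩, ⟨-10, 4⟩], ![⟨-9, 5⟩, ⟨-7, 2⟩, ⟨-4, 4⟩, ⟨-13, -5⟩]],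
  ruOfArray ![![⟨-12, -1⟩, ⟨-5, 11⟩, ⟨-5, -3⟩, ⟨-7, -4⟩], ![⟨-3, -5⟩, ⟨-10, -4⟩, ⟨-10, 0⟩, ⟨-4, -2⟩], ![⟨-9, 6⟩, ⟨-5, 1⟩, ⟨-5, 3⟩, ⟨0, 1⟩], ![⟨-1, 3⟩, ⟨-2, -3⟩, ⟨-2, 0⟩, ⟨2, -2⟩], ![⟨-4, 2⟩, ⟨-6, 3⟩, ⟨-4, -1⟩, ⟨-1, 6⟩], ![⟨-10, -1⟩, ⟨-3, -6⟩, ⟨0, 7⟩, ⟨-8, 7⟩], ![⟨-1, 7⟩, ⟨-5, 6⟩, ⟨-2, 3⟩, ⟨-10, 3⟩]]]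

/-- parities of the real coordinates of `gA j` -/
def mGA : Fin 19 → ℕ := ![36328989633308193, 18299251449083228, 9310737586395221, 4791694245110056, 2538871186145908, 1432677312001033, 864302545919101, 163827239173171, 94558000997692, 56075098853221, 16492677781098, 641444282428, 371151405157, 220493119503, 66122940502, 4278190080, 16711680, 65280, 255]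

/-- halves of the real coordinates of `gB j` -/
def mGB : Fin 37 → ℕ := ![67686915058434113, 79852031967300, 67580820776288336, 67598541811351744, 57509268496056386, 67660105872572488, 57473963864883296, 60878472771321856, 22623551253152000, 27047986043323392, 10186588684328960, 37242657856063488, 54175136923815936, 38324577297793536, 40559223020519424, 59725763687219200, 16987068102082560, 67818590165794816, 54175420402106368, 37243508272136192, 57487578911211520, 11338189683949568,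 45141704017707008, 117261197115392, 38325144242880512, 59673667889528832, 70932675598221312, 67554831929180160, 57421350515507200, 24207560961687552, 51792248299323392, 40532837014700032, 16888867969826816, 47569984028672000, 5629527719936000, 43910657933836288, 38280745545891840]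

/-- checks for the first code: the `mGB` and the 8 padding coordinates -/
def mHA : Fin 45 → ℕ := ![67686915058434113, 79852031967300, 67580820776288336, 67598541811351744, 57509268496056386, 67660105872572488, 57473963864883296, 60878472771321856, 22623551253152000, 27047986043323392, 10186588684328960, 37242657856063488, 54175136923815936, 38324577297793536, 40559223020519424, 59725763687219200, 16987068102082560, 67818590165794816, 54175420402106368, 37243508272136192, 57487578911211520,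 11338189683949568, 45141704017707008, 117261197115392, 38325144242880512, 59673667889528832, 70932675598221312, 67554831929180160, 57421350515507200, 24207560961687552, 51792248299323392, 40532837014700032, 16888867969826816, 47569984028672000, 5629527719936000, 43910657933836288, 38280745545891840, 72057594037927936, 144115188075855872, 288230376151711744, 576460752303423488, 1152921504606846976, 2305843009213693952, 4611686018427387904, 9223372036854775808]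

/-- checks for the second code: the `mGA` and the 8 padding coordinates -/
def mHB : Fin 27 → ℕ := ![36328989633308193, 18299251449083228, 9310737586395221, 4791694245110056, 2538871186145908, 1432677312001033, 864302545919101, 163827239173171, 94558000997692, 56075098853221, 16492677781098, 641444282428, 371151405157, 220493119503, 66122940502, 4278190080, 16711680, 65280, 255, 72057594037927936, 144115188075855872, 288230376151711744, 576460752303423488, 1152921504606846976,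 2305843009213693952, 4611686018427387904, 9223372036854775808]

def infoA : Fin 19 → Fin 64 := ![55, 54, 53, 52, 51, 50, 49, 47, 46, 45, 43, 39, 38, 37, 35, 31, 23, 15, 7]

def infoB : Fin 37 → Fin 64 := ![0, 2, 4, 7, 1, 3, 5, 14, 8, 10, 13, 11, 12, 9, 16, 18, 40, 47, 21, 22, 42, 17, 19, 41, 20, 24, 26, 32, 35, 49, 25, 27, 36, 48, 28, 30, 29]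

def mKA : Fin 64 → ℕ := ![537001993, 268566552, 805306378, 536870952, 805437452, 537002056, 805306376, 0, 256, 8192, 537002496, 537004032, 537006080, 132096, 536871040, 0, 147456, 538968064, 268599296, 809500672, 822083584, 805699584, 655360, 0, 301989888, 1610612736, 872415232, 2684354560, 17716740096, 68987912192, 34628173824, 0, 402653184, 268435456, 805306368, 0, 4831838208, 0, 0, 0, 196608, 545259520, 1179648, 0, 537001984, 0, 0, 0, 9126805504, 0, 0, 0, 0, 0, 0, 0, 137438953472,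 274877906944, 549755813888, 1099511627776, 2199023255552, 4398046511104, 8796093022208, 17592186044416]

def mKB : Fin 64 → ℕ := ![0, 0, 0, 0, 0, 0, 262144, 0, 0, 0, 0, 0, 0, 0, 0, 131072, 0, 0, 0, 0, 0, 0, 0, 65536, 0, 0, 0, 0, 0, 0, 0, 32768, 0, 16576, 262336, 0, 0, 24768, 20480, 264384, 0, 0, 0, 263168, 128, 262784, 384, 0, 0, 0, 16480, 16400, 262344, 262276, 278722, 278657, 524288, 1048576, 2097152, 4194304, 8388608, 16777216, 33554432, 67108864]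

end Cfsg.Agent.Lib.Helper8.Ru2
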