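import Cfsg.Agent.Lib.Helper8.Ru2.MemL2

/-!
Five matrices (the lead's data): the generators x, y, z, t, u of the Rudvalis group on the lattice act as
`v ↦ M v / 4`. With the images of the 19 basis vectors. (helper8; generated)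
-/

set_option autoImplicit false

namespace Cfsg.Agent.Lib.Helper8.Ru2

open Cfsg.Spor Cfsg.Agent.Lib.Helper8.RuLat

/-- the five matrices, rows and columns indexed by `4 n + t` -/
def gM : Fin 5 → Fin 28 → Fin 28 → GaussianInt := ![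
  ![![⟨4, 0⟩, ⟨0, 0⟩, ⟨0, 0⟩, ⟨0, 0⟩, ⟨0, 0⟩, ⟨0, 0⟩, ⟨0, 0⟩, ⟨0, 0⟩, ⟨0, 0⟩, ⟨0, 0⟩, ⟨0, 0⟩, ⟨0, 0⟩, ⟨0, 0⟩, ⟨0, 0⟩, ⟨0, 0⟩, ⟨0, 0⟩, ⟨0, 0⟩, ⟨0, 0⟩, ⟨0, 0⟩, ⟨0, 0⟩, ⟨0, 0⟩, ⟨0, 0⟩, ⟨0, 0⟩, ⟨0, 0⟩, ⟨0, 0⟩, ⟨0, 0⟩, ⟨0, 0⟩, ⟨0, 0⟩],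
    ![⟨0, 0⟩, ⟨4, 0⟩, ⟨0, 0⟩, ⟨0, 0⟩, ⟨0, 0⟩, ⟨0, 0⟩, ⟨0, 0⟩, ⟨0, 0⟩, ⟨0, 0⟩, ⟨0, 0⟩, ⟨0, 0⟩, ⟨0, 0⟩, ⟨0, 0⟩, ⟨0, 0⟩, ⟨0, 0⟩, ⟨0, 0⟩, ⟨0, 0⟩, ⟨0, 0⟩, ⟨0, 0⟩, ⟨0, 0⟩, ⟨0, 0⟩, ⟨0, 0⟩, ⟨0, 0⟩, ⟨0, 0⟩, ⟨0, 0⟩, ⟨0, 0⟩, ⟨0, 0⟩, ⟨0, 0⟩],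
    ![⟨0, 0⟩, ⟨0, 0⟩, ⟨0, 0⟩, ⟨0, 4⟩, ⟨0, 0⟩, ⟨0, 0⟩, ⟨0, 0⟩, ⟨0, 0⟩, ⟨0, 0⟩, ⟨0, 0⟩, ⟨0, 0⟩, ⟨0, 0⟩, ⟨0, 0⟩, ⟨0, 0⟩, ⟨0, 0⟩, ⟨0, 0⟩, ⟨0, 0⟩, ⟨0, 0⟩, ⟨0, 0⟩, ⟨0, 0⟩, ⟨0, 0⟩, ⟨0, 0⟩, ⟨0, 0⟩, ⟨0, 0⟩, ⟨0, 0⟩, ⟨0, 0⟩, ⟨0, 0⟩, ⟨0, 0⟩],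
    ![⟨0, 0⟩, ⟨0, 0⟩, ⟨0, -4⟩, ⟨0, 0⟩, ⟨0, 0⟩, ⟨0, 0⟩, ⟨0, 0⟩, ⟨0, 0⟩, ⟨0, 0⟩, ⟨0, 0⟩, ⟨0, 0⟩, ⟨0, 0⟩, ⟨0, 0⟩, ⟨0, 0⟩, ⟨0, 0⟩, ⟨0, 0⟩, ⟨0, 0⟩, ⟨0, 0⟩, ⟨0, 0⟩, ⟨0, 0⟩, ⟨0, 0⟩, ⟨0, 0⟩, ⟨0, 0⟩, ⟨0, 0⟩, ⟨0, 0⟩, ⟨0, 0⟩, ⟨0, 0⟩, ⟨0, 0⟩],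
    ![⟨0, 0⟩, ⟨0, 0⟩, ⟨0, 0⟩, ⟨0, 0⟩, ⟨0, 0⟩, ⟨0, 0⟩, ⟨0, 0⟩, ⟨0, 0⟩, ⟨0, 0⟩, ⟨0, 0⟩, ⟨0, 0⟩, ⟨0, 0⟩, ⟨0, 0⟩, ⟨0, 0⟩, ⟨0, 0⟩, ⟨0, 0⟩, ⟨0, 0⟩, ⟨0, 0⟩, ⟨0, 0⟩, ⟨0, 0⟩, ⟨0, 0⟩, ⟨0, 0⟩, ⟨0, 0⟩, ⟨0, 0⟩, ⟨0, -4⟩, ⟨0, 0⟩, ⟨0, 0⟩, ⟨0, 0⟩],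
    ![⟨0, 0⟩, ⟨0, 0⟩, ⟨0, 0⟩, ⟨0, 0⟩, ⟨0, 0⟩, ⟨0, 0⟩, ⟨0, 0⟩, ⟨0, 0⟩, ⟨0, 0⟩, ⟨0, 0⟩, ⟨0, 0⟩, ⟨0, 0⟩, ⟨0, 0⟩, ⟨0, 0⟩, ⟨0, 0⟩, ⟨0, 0⟩, ⟨0, 0⟩, ⟨0, 0⟩, ⟨0, 0⟩, ⟨0, 0⟩, ⟨0, 0⟩, ⟨0, 0⟩, ⟨0, 0⟩, ⟨0, 0⟩, ⟨0, 0⟩, ⟨0, 0⟩, ⟨0, 0⟩, ⟨4, 0⟩],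
    ![⟨0, 0⟩, ⟨0, 0⟩, ⟨0, 0⟩, ⟨0, 0⟩, ⟨0, 0⟩, ⟨0, 0⟩, ⟨0, 0⟩, ⟨0, 0⟩, ⟨0, 0⟩, ⟨0, 0⟩, ⟨0, 0⟩, ⟨0, 0⟩, ⟨0, 0⟩, ⟨0, 0⟩, ⟨0, 0⟩, ⟨0, 0⟩, ⟨0, 0⟩, ⟨0, 0⟩, ⟨0, 0⟩, ⟨0, 0⟩, ⟨0, 0⟩, ⟨0, 0⟩, ⟨0, 0⟩, ⟨0, 0⟩, ⟨0, 0⟩, ⟨0, 4⟩, ⟨0, 0⟩, ⟨0, 0⟩],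
    ![⟨0, 0⟩, ⟨0, 0⟩, ⟨0, 0⟩, ⟨0, 0⟩, ⟨0, 0⟩, ⟨0, 0⟩, ⟨0, 0⟩, ⟨0, 0⟩, ⟨0, 0⟩, ⟨0, 0⟩, ⟨0, 0⟩, ⟨0, 0⟩, ⟨0, 0⟩, ⟨0, 0⟩, ⟨0, 0⟩, ⟨0, 0⟩, ⟨0, 0⟩, ⟨0, 0⟩, ⟨0, 0⟩, ⟨0, 0⟩, ⟨0, 0⟩, ⟨0, 0⟩, ⟨0, 0⟩, ⟨0, 0⟩, ⟨0, 0⟩, ⟨0, 0⟩, ⟨4, 0⟩, ⟨0, 0⟩],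
    ![⟨0, 0⟩, ⟨0, 0⟩, ⟨0, 0⟩, ⟨0, 0⟩, ⟨0, 0⟩, ⟨0, 0⟩, ⟨0, 0⟩, ⟨0, 0⟩, ⟨0, 0⟩, ⟨0, 0⟩, ⟨0, 0⟩, ⟨0, 0⟩, ⟨0, 0⟩, ⟨0, 0⟩, ⟨0, -4⟩, ⟨0, 0⟩, ⟨0, 0⟩, ⟨0, 0⟩, ⟨0, 0⟩, ⟨0, 0⟩, ⟨0, 0⟩, ⟨0, 0⟩, ⟨0, 0⟩, ⟨0, 0⟩, ⟨0, 0⟩, ⟨0, 0⟩, ⟨0, 0⟩, ⟨0, 0⟩],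
    ![⟨0, 0⟩, ⟨0, 0⟩, ⟨0, 0⟩, ⟨0, 0⟩, ⟨0, 0⟩, ⟨0, 0⟩, ⟨0, 0⟩, ⟨0, 0⟩, ⟨0, 0⟩, ⟨0, 0⟩, ⟨0, 0⟩, ⟨0, 0⟩, ⟨0, 0⟩, ⟨0, 0⟩, ⟨0, 0⟩, ⟨0, -4⟩, ⟨0, 0⟩, ⟨0, 0⟩, ⟨0, 0⟩, ⟨0, 0⟩, ⟨0, 0⟩, ⟨0, 0⟩, ⟨0, 0⟩, ⟨0, 0⟩, ⟨0, 0⟩, ⟨0, 0⟩, ⟨0, 0⟩, ⟨0, 0⟩],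
    ![⟨0, 0⟩, ⟨0, 0⟩, ⟨0, 0⟩, ⟨0, 0⟩, ⟨0, 0⟩, ⟨0, 0⟩, ⟨0, 0⟩, ⟨0, 0⟩, ⟨0, 0⟩, ⟨0, 0⟩, ⟨0, 0⟩, ⟨0, 0⟩, ⟨0, 0⟩, ⟨0, 4⟩, ⟨0, 0⟩, ⟨0, 0⟩, ⟨0, 0⟩, ⟨0, 0⟩, ⟨0, 0⟩, ⟨0, 0⟩, ⟨0, 0⟩, ⟨0, 0⟩, ⟨0, 0⟩, ⟨0, 0⟩, ⟨0, 0⟩, ⟨0, 0⟩, ⟨0, 0⟩, ⟨0, 0⟩],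
    ![⟨0, 0⟩, ⟨0, 0⟩, ⟨0, 0⟩, ⟨0, 0⟩, ⟨0, 0⟩, ⟨0, 0⟩, ⟨0, 0⟩, ⟨0, 0⟩, ⟨0, 0⟩, ⟨0, 0⟩, ⟨0, 0⟩, ⟨0, 0⟩, ⟨0, 4⟩, ⟨0, 0⟩, ⟨0, 0⟩, ⟨0, 0⟩, ⟨0, 0⟩, ⟨0, 0⟩, ⟨0, 0⟩, ⟨0, 0⟩, ⟨0, 0⟩, ⟨0, 0⟩, ⟨0, 0⟩, ⟨0, 0⟩, ⟨0, 0⟩, ⟨0, 0⟩, ⟨0, 0⟩, ⟨0, 0⟩],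
    ![⟨0, 0⟩, ⟨0, 0⟩, ⟨0, 0⟩, ⟨0, 0⟩, ⟨0, 0⟩, ⟨0, 0⟩, ⟨0, 0⟩, ⟨0, 0⟩, ⟨0, 0⟩, ⟨0, 0⟩, ⟨0, 0⟩, ⟨0, -4⟩, ⟨0, 0⟩, ⟨0, 0⟩, ⟨0, 0⟩, ⟨0, 0⟩, ⟨0, 0⟩, ⟨0, 0⟩, ⟨0, 0⟩, ⟨0, 0⟩, ⟨0, 0⟩, ⟨0, 0⟩, ⟨0, 0⟩, ⟨0, 0⟩, ⟨0, 0⟩, ⟨0, 0⟩, ⟨0, 0⟩, ⟨0, 0⟩],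
    ![⟨0, 0⟩, ⟨0, 0⟩, ⟨0, 0⟩, ⟨0, 0⟩, ⟨0, 0⟩, ⟨0, 0⟩, ⟨0, 0⟩, ⟨0, 0⟩, ⟨0, 0⟩, ⟨0, 0⟩, ⟨0, -4⟩, ⟨0, 0⟩, ⟨0, 0⟩, ⟨0, 0⟩, ⟨0, 0⟩, ⟨0, 0⟩, ⟨0, 0⟩, ⟨0, 0⟩, ⟨0, 0⟩, ⟨0, 0⟩, ⟨0, 0⟩, ⟨0, 0⟩, ⟨0, 0⟩, ⟨0, 0⟩, ⟨0, 0⟩, ⟨0, 0⟩, ⟨0, 0⟩, ⟨0, 0⟩],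
    ![⟨0, 0⟩, ⟨0, 0⟩, ⟨0, 0⟩, ⟨0, 0⟩, ⟨0, 0⟩, ⟨0, 0⟩, ⟨0, 0⟩, ⟨0, 0⟩, ⟨0, 4⟩, ⟨0, 0⟩, ⟨0, 0⟩, ⟨0, 0⟩, ⟨0, 0⟩, ⟨0, 0⟩, ⟨0, 0⟩, ⟨0, 0⟩, ⟨0, 0⟩, ⟨0, 0⟩, ⟨0, 0⟩, ⟨0, 0⟩, ⟨0, 0⟩, ⟨0, 0⟩, ⟨0, 0⟩, ⟨0, 0⟩, ⟨0, 0⟩, ⟨0, 0⟩, ⟨0, 0⟩, ⟨0, 0⟩],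
    ![⟨0, 0⟩, ⟨0, 0⟩, ⟨0, 0⟩, ⟨0, 0⟩, ⟨0, 0⟩, ⟨0, 0⟩, ⟨0, 0⟩, ⟨0, 0⟩, ⟨0, 0⟩, ⟨0, 4⟩, ⟨0, 0⟩, ⟨0, 0⟩, ⟨0, 0⟩, ⟨0, 0⟩, ⟨0, 0⟩, ⟨0, 0⟩, ⟨0, 0⟩, ⟨0, 0⟩, ⟨0, 0⟩, ⟨0, 0⟩, ⟨0, 0⟩, ⟨0, 0⟩, ⟨0, 0⟩, ⟨0, 0⟩, ⟨0, 0⟩, ⟨0, 0⟩, ⟨0, 0⟩, ⟨0, 0⟩],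
    ![⟨0, 0⟩, ⟨0, 0⟩, ⟨0, 0⟩, ⟨0, 0⟩, ⟨0, 0⟩, ⟨0, 0⟩, ⟨0, 0⟩, ⟨0, 0⟩, ⟨0, 0⟩, ⟨0, 0⟩, ⟨0, 0⟩, ⟨0, 0⟩, ⟨0, 0⟩, ⟨0, 0⟩, ⟨0, 0⟩, ⟨0, 0⟩, ⟨4, 0⟩, ⟨0, 0⟩, ⟨0, 0⟩, ⟨0, 0⟩, ⟨0, 0⟩, ⟨0, 0⟩, ⟨0, 0⟩, ⟨0, 0⟩, ⟨0, 0⟩, ⟨0, 0⟩, ⟨0, 0⟩, ⟨0, 0⟩],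
    ![⟨0, 0⟩, ⟨0, 0⟩, ⟨0, 0⟩, ⟨0, 0⟩, ⟨0, 0⟩, ⟨0, 0⟩, ⟨0, 0⟩, ⟨0, 0⟩, ⟨0, 0⟩, ⟨0, 0⟩, ⟨0, 0⟩, ⟨0, 0⟩, ⟨0, 0⟩, ⟨0, 0⟩, ⟨0, 0⟩, ⟨0, 0⟩, ⟨0, 0⟩, ⟨0, 0⟩, ⟨0, 0⟩, ⟨4, 0⟩, ⟨0, 0⟩, ⟨0, 0⟩, ⟨0, 0⟩, ⟨0, 0⟩, ⟨0, 0⟩, ⟨0, 0⟩, ⟨0, 0⟩, ⟨0, 0⟩],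
    ![⟨0, 0⟩, ⟨0, 0⟩, ⟨0, 0⟩, ⟨0, 0⟩, ⟨0, 0⟩, ⟨0, 0⟩, ⟨0, 0⟩, ⟨0, 0⟩, ⟨0, 0⟩, ⟨0, 0⟩, ⟨0, 0⟩, ⟨0, 0⟩, ⟨0, 0⟩, ⟨0, 0⟩, ⟨0, 0⟩, ⟨0, 0⟩, ⟨0, 0⟩, ⟨0, 0⟩, ⟨4, 0⟩, ⟨0, 0⟩, ⟨0, 0⟩, ⟨0, 0⟩, ⟨0, 0⟩, ⟨0, 0⟩, ⟨0, 0⟩, ⟨0, 0⟩, ⟨0, 0⟩, ⟨0, 0⟩],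
    ![⟨0, 0⟩, ⟨0, 0⟩, ⟨0, 0⟩, ⟨0, 0⟩, ⟨0, 0⟩, ⟨0, 0⟩, ⟨0, 0⟩, ⟨0, 0⟩, ⟨0, 0⟩, ⟨0, 0⟩, ⟨0, 0⟩, ⟨0, 0⟩, ⟨0, 0⟩, ⟨0, 0⟩, ⟨0, 0⟩, ⟨0, 0⟩, ⟨0, 0⟩, ⟨4, 0⟩, ⟨0, 0⟩, ⟨0, 0⟩, ⟨0, 0⟩, ⟨0, 0⟩, ⟨0, 0⟩, ⟨0, 0⟩, ⟨0, 0⟩, ⟨0, 0⟩, ⟨0, 0⟩, ⟨0, 0⟩],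
    ![⟨0, 0⟩, ⟨0, 0⟩, ⟨0, 0⟩, ⟨0, 0⟩, ⟨0, 0⟩, ⟨0, 0⟩, ⟨0, 0⟩, ⟨0, 0⟩, ⟨0, 0⟩, ⟨0, 0⟩, ⟨0, 0⟩, ⟨0, 0⟩, ⟨0, 0⟩, ⟨0, 0⟩, ⟨0, 0⟩, ⟨0, 0⟩, ⟨0, 0⟩, ⟨0, 0⟩, ⟨0, 0⟩, ⟨0, 0⟩, ⟨0, 0⟩, ⟨0, 0⟩, ⟨0, 0⟩, ⟨0, 4⟩, ⟨0, 0⟩, ⟨0, 0⟩, ⟨0, 0⟩, ⟨0, 0⟩],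
    ![⟨0, 0⟩, ⟨0, 0⟩, ⟨0, 0⟩, ⟨0, 0⟩, ⟨0, 0⟩, ⟨0, 0⟩, ⟨0, 0⟩, ⟨0, 0⟩, ⟨0, 0⟩, ⟨0, 0⟩, ⟨0, 0⟩, ⟨0, 0⟩, ⟨0, 0⟩, ⟨0, 0⟩, ⟨0, 0⟩, ⟨0, 0⟩, ⟨0, 0⟩, ⟨0, 0⟩, ⟨0, 0⟩, ⟨0, 0⟩, ⟨0, 0⟩, ⟨0, 0⟩, ⟨0, -4⟩, ⟨0, 0⟩, ⟨0, 0⟩, ⟨0, 0⟩, ⟨0, 0⟩, ⟨0, 0⟩],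
    ![⟨0, 0⟩, ⟨0, 0⟩, ⟨0, 0⟩, ⟨0, 0⟩, ⟨0, 0⟩, ⟨0, 0⟩, ⟨0, 0⟩, ⟨0, 0⟩, ⟨0, 0⟩, ⟨0, 0⟩, ⟨0, 0⟩, ⟨0, 0⟩, ⟨0, 0⟩, ⟨0, 0⟩, ⟨0, 0⟩, ⟨0, 0⟩, ⟨0, 0⟩, ⟨0, 0⟩, ⟨0, 0⟩, ⟨0, 0⟩, ⟨0, 0⟩, ⟨0, 4⟩, ⟨0, 0⟩, ⟨0, 0⟩, ⟨0, 0⟩, ⟨0, 0⟩, ⟨0, 0⟩, ⟨0, 0⟩],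
    ![⟨0, 0⟩, ⟨0, 0⟩, ⟨0, 0⟩, ⟨0, 0⟩, ⟨0, 0⟩, ⟨0, 0⟩, ⟨0, 0⟩, ⟨0, 0⟩, ⟨0, 0⟩, ⟨0, 0⟩, ⟨0, 0⟩, ⟨0, 0⟩, ⟨0, 0⟩, ⟨0, 0⟩, ⟨0, 0⟩, ⟨0, 0⟩, ⟨0, 0⟩, ⟨0, 0⟩, ⟨0, 0⟩, ⟨0, 0⟩, ⟨0, -4⟩, ⟨0, 0⟩, ⟨0, 0⟩, ⟨0, 0⟩, ⟨0, 0⟩, ⟨0, 0⟩, ⟨0, 0⟩, ⟨0, 0⟩],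
    ![⟨0, 0⟩, ⟨0, 0⟩, ⟨0, 0⟩, ⟨0, 0⟩, ⟨0, 4⟩, ⟨0, 0⟩, ⟨0, 0⟩, ⟨0, 0⟩, ⟨0, 0⟩, ⟨0, 0⟩, ⟨0, 0⟩, ⟨0, 0⟩, ⟨0, 0⟩, ⟨0, 0⟩, ⟨0, 0⟩, ⟨0, 0⟩, ⟨0, 0⟩, ⟨0, 0⟩, ⟨0, 0⟩, ⟨0, 0⟩, ⟨0, 0⟩, ⟨0, 0⟩, ⟨0, 0⟩, ⟨0, 0⟩, ⟨0, 0⟩, ⟨0, 0⟩, ⟨0, 0⟩, ⟨0, 0⟩],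
    ![⟨0, 0⟩, ⟨0, 0⟩, ⟨0, 0⟩, ⟨0, 0⟩, ⟨0, 0⟩, ⟨0, 0⟩, ⟨0, -4⟩, ⟨0, 0⟩, ⟨0, 0⟩, ⟨0, 0⟩, ⟨0, 0⟩, ⟨0, 0⟩, ⟨0, 0⟩, ⟨0, 0⟩, ⟨0, 0⟩, ⟨0, 0⟩, ⟨0, 0⟩, ⟨0, 0⟩, ⟨0, 0⟩, ⟨0, 0⟩, ⟨0, 0⟩, ⟨0, 0⟩, ⟨0, 0⟩, ⟨0, 0⟩, ⟨0, 0⟩, ⟨0, 0⟩, ⟨0, 0⟩, ⟨0, 0⟩],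
    ![⟨0, 0⟩, ⟨0, 0⟩, ⟨0, 0⟩, ⟨0, 0⟩, ⟨0, 0⟩, ⟨0, 0⟩, ⟨0, 0⟩, ⟨4, 0⟩, ⟨0, 0⟩, ⟨0, 0⟩, ⟨0, 0⟩, ⟨0, 0⟩, ⟨0, 0⟩, ⟨0, 0⟩, ⟨0, 0⟩, ⟨0, 0⟩, ⟨0, 0⟩, ⟨0, 0⟩, ⟨0, 0⟩, ⟨0, 0⟩, ⟨0, 0⟩, ⟨0, 0⟩, ⟨0, 0⟩, ⟨0, 0⟩, ⟨0, 0⟩, ⟨0, 0⟩, ⟨0, 0⟩, ⟨0, 0⟩],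
    ![⟨0, 0⟩, ⟨0, 0⟩, ⟨0, 0⟩, ⟨0, 0⟩, ⟨0, 0⟩, ⟨4, 0⟩, ⟨0, 0⟩, ⟨0, 0⟩, ⟨0, 0⟩, ⟨0, 0⟩, ⟨0, 0⟩, ⟨0, 0⟩, ⟨0, 0⟩, ⟨0, 0⟩, ⟨0, 0⟩, ⟨0, 0⟩, ⟨0, 0⟩, ⟨0, 0⟩, ⟨0, 0⟩, ⟨0, 0⟩, ⟨0, 0⟩, ⟨0, 0⟩, ⟨0, 0⟩, ⟨0, 0⟩, ⟨0, 0⟩, ⟨0, 0⟩, ⟨0, 0⟩, ⟨0, 0⟩]],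
  ![![⟨4, 0⟩, ⟨0, 0⟩, ⟨0, 0⟩, ⟨0, 0⟩, ⟨0, 0⟩, ⟨0, 0⟩, ⟨0, 0⟩, ⟨0, 0⟩, ⟨0, 0⟩, ⟨0, 0⟩, ⟨0, 0⟩, ⟨0, 0⟩, ⟨0, 0⟩, ⟨0, 0⟩, ⟨0, 0⟩, ⟨0, 0⟩, ⟨0, 0⟩, ⟨0, 0⟩, ⟨0, 0⟩, ⟨0, 0⟩, ⟨0, 0⟩, ⟨0, 0⟩, ⟨0, 0⟩, ⟨0, 0⟩, ⟨0, 0⟩, ⟨0, 0⟩, ⟨0, 0⟩, ⟨0, 0⟩],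
    ![⟨0, 0⟩, ⟨0, 0⟩, ⟨-1, 0⟩, ⟨0, 1⟩, ⟨-1, 0⟩, ⟨0, 1⟩, ⟨0, 0⟩, ⟨0, 0⟩, ⟨0, 0⟩, ⟨0, 1⟩, ⟨0, 0⟩, ⟨-1, 0⟩, ⟨1, 0⟩, ⟨0, 0⟩, ⟨0, 0⟩, ⟨0, -1⟩, ⟨1, 0⟩, ⟨0, 0⟩, ⟨0, -1⟩, ⟨0, 0⟩, ⟨0, -1⟩, ⟨0, -1⟩, ⟨0, -1⟩, ⟨0, -1⟩, ⟨0, 0⟩, ⟨1, 0⟩, ⟨0, -1⟩, ⟨0, 0⟩],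
    ![⟨0, 0⟩, ⟨-1, 0⟩, ⟨0, 0⟩, ⟨0, -1⟩, ⟨0, 0⟩, ⟨-1, 0⟩, ⟨-1, 0⟩, ⟨0, 0⟩, ⟨0, -1⟩, ⟨0, 0⟩, ⟨1, 0⟩, ⟨0, 0⟩, ⟨0, -1⟩, ⟨1, 0⟩, ⟨-1, 0⟩, ⟨0, -1⟩, ⟨0, -1⟩, ⟨0, 0⟩, ⟨0, 0⟩, ⟨0, 1⟩, ⟨0, 0⟩, ⟨0, 0⟩, ⟨1, 0⟩, ⟨0, -1⟩, ⟨0, -1⟩, ⟨-1, 0⟩, ⟨0, 0⟩, ⟨0, 0⟩],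
    ![⟨0, 0⟩, ⟨0, -1⟩, ⟨0, 1⟩, ⟨0, 0⟩, ⟨0, 1⟩, ⟨0, 0⟩, ⟨1, 0⟩, ⟨0, 0⟩, ⟨0, 1⟩, ⟨0, 1⟩, ⟨0, -1⟩, ⟨0, -1⟩, ⟨0, 0⟩, ⟨1, 0⟩, ⟨0, 1⟩, ⟨0, 0⟩, ⟨0, 0⟩, ⟨0, 0⟩, ⟨0, -1⟩, ⟨-1, 0⟩, ⟨1, 0⟩, ⟨0, 1⟩, ⟨0, 0⟩, ⟨0, 0⟩, ⟨0, -1⟩, ⟨0, 0⟩, ⟨0, 1⟩, ⟨0, 0⟩],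
    ![⟨0, 0⟩, ⟨-1, 0⟩, ⟨0, 0⟩, ⟨0, -1⟩, ⟨0, 0⟩, ⟨1, 0⟩, ⟨1, 0⟩, ⟨0, 0⟩, ⟨0, 0⟩, ⟨0, 1⟩, ⟨0, 0⟩, ⟨0, 1⟩, ⟨0, 1⟩, ⟨-1, 0⟩, ⟨-1, 0⟩, ⟨0, -1⟩, ⟨0, 0⟩, ⟨1, 0⟩, ⟨0, 1⟩, ⟨0, 0⟩, ⟨1, 0⟩, ⟨-1, 0⟩, ⟨0, 0⟩, ⟨0, 0⟩, ⟨0, 0⟩, ⟨0, 0⟩, ⟨1, 0⟩, ⟨1, 0⟩],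
    ![⟨0, 0⟩, ⟨0, -1⟩, ⟨-1, 0⟩, ⟨0, 0⟩, ⟨1, 0⟩, ⟨1, 0⟩, ⟨0, 0⟩, ⟨0, 0⟩, ⟨0, -1⟩, ⟨-1, 0⟩, ⟨0, 0⟩, ⟨0, 0⟩, ⟨0, -1⟩, ⟨0, 0⟩, ⟨0, 1⟩, ⟨0, 0⟩, ⟨0, 0⟩, ⟨0, -1⟩, ⟨0, 1⟩, ⟨0, 0⟩, ⟨0, 0⟩, ⟨1, 0⟩, ⟨0, 0⟩, ⟨1, 0⟩, ⟨-1, 0⟩, ⟨1, 0⟩, ⟨-1, 0⟩, ⟨1, 0⟩],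
    ![⟨0, 0⟩, ⟨0, 0⟩, ⟨-1, 0⟩, ⟨1, 0⟩, ⟨1, 0⟩, ⟨0, 0⟩, ⟨1, 0⟩, ⟨0, 0⟩, ⟨0, 0⟩, ⟨0, -1⟩, ⟨0, 1⟩, ⟨0, 0⟩, ⟨0, 0⟩, ⟨1, 0⟩, ⟨0, 0⟩, ⟨-1, 0⟩, ⟨-1, 0⟩, ⟨1, 0⟩, ⟨0, -1⟩, ⟨0, -1⟩, ⟨0, 0⟩, ⟨0, -1⟩, ⟨1, 0⟩, ⟨0, 0⟩, ⟨0, 0⟩, ⟨0, 0⟩, ⟨1, 0⟩, ⟨0, -1⟩],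
    ![⟨0, 0⟩, ⟨0, 0⟩, ⟨0, 0⟩, ⟨0, 0⟩, ⟨0, 0⟩, ⟨0, 0⟩, ⟨0, 0⟩, ⟨0, 0⟩, ⟨1, 0⟩, ⟨-1, 0⟩, ⟨0, -1⟩, ⟨1, 0⟩, ⟨0, 0⟩, ⟨0, 0⟩, ⟨0, 0⟩, ⟨0, 0⟩, ⟨0, 1⟩, ⟨1, 0⟩, ⟨0, -1⟩, ⟨0, 1⟩, ⟨0, -1⟩, ⟨0, -1⟩, ⟨0, 1⟩, ⟨-1, 0⟩, ⟨0, 1⟩, ⟨-1, 0⟩, ⟨-1, 0⟩, ⟨1, 0⟩],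
    ![⟨0, 0⟩, ⟨0, 0⟩, ⟨0, 1⟩, ⟨0, -1⟩, ⟨0, 0⟩, ⟨0, 1⟩, ⟨0, 0⟩, ⟨1, 0⟩, ⟨1, 0⟩, ⟨0, 0⟩, ⟨0, 0⟩, ⟨0, 1⟩, ⟨0, 0⟩, ⟨1, 0⟩, ⟨0, 0⟩, ⟨1, 0⟩, ⟨-1, 0⟩, ⟨-1, 0⟩, ⟨1, 0⟩, ⟨1, 0⟩, ⟨0, -1⟩, ⟨0, 0⟩, ⟨0, 0⟩, ⟨0, 1⟩, ⟨1, 0⟩, ⟨1, 0⟩, ⟨0, 0⟩, ⟨0, 0⟩],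
    ![⟨0, 0⟩, ⟨0, -1⟩, ⟨0, 0⟩, ⟨0, -1⟩, ⟨0, -1⟩, ⟨-1, 0⟩, ⟨0, 1⟩, ⟨-1, 0⟩, ⟨0, 0⟩, ⟨1, 0⟩, ⟨0, 1⟩, ⟨0, 0⟩, ⟨0, 0⟩, ⟨0, 0⟩, ⟨1, 0⟩, ⟨0, -1⟩, ⟨0, 1⟩, ⟨1, 0⟩, ⟨0, 0⟩, ⟨0, 0⟩, ⟨0, 0⟩, ⟨0, 1⟩, ⟨0, 0⟩, ⟨-1, 0⟩, ⟨0, 0⟩, ⟨1, 0⟩, ⟨-1, 0⟩, ⟨0, 0⟩],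
    ![⟨0, 0⟩, ⟨0, 0⟩, ⟨1, 0⟩, ⟨0, 1⟩, ⟨0, 0⟩, ⟨0, 0⟩, ⟨0, -1⟩, ⟨0, 1⟩, ⟨0, 0⟩, ⟨0, -1⟩, ⟨0, 0⟩, ⟨1, 0⟩, ⟨0, -1⟩, ⟨0, 0⟩, ⟨0, 0⟩, ⟨1, 0⟩, ⟨0, 0⟩, ⟨1, 0⟩, ⟨0, 0⟩, ⟨1, 0⟩, ⟨1, 0⟩, ⟨-1, 0⟩, ⟨0, -1⟩, ⟨0, -1⟩, ⟨0, 0⟩, ⟨1, 0⟩, ⟨0, 1⟩, ⟨0, 0⟩],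
    ![⟨0, 0⟩, ⟨-1, 0⟩, ⟨0, 0⟩, ⟨0, 1⟩, ⟨0, -1⟩, ⟨0, 0⟩, ⟨0, 0⟩, ⟨1, 0⟩, ⟨0, -1⟩, ⟨0, 0⟩, ⟨1, 0⟩, ⟨0, 0⟩, ⟨0, 1⟩, ⟨0, 1⟩, ⟨0, 1⟩, ⟨0, 1⟩, ⟨0, 0⟩, ⟨0, 1⟩, ⟨-1, 0⟩, ⟨0, 0⟩, ⟨0, 0⟩, ⟨0, 0⟩, ⟨0, 1⟩, ⟨-1, 0⟩, ⟨0, -1⟩, ⟨1, 0⟩, ⟨0, 0⟩, ⟨0, 0⟩],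
    ![⟨0, 0⟩, ⟨1, 0⟩, ⟨0, 1⟩, ⟨0, 0⟩, ⟨0, -1⟩, ⟨0, 1⟩, ⟨0, 0⟩, ⟨0, 0⟩, ⟨0, 0⟩, ⟨0, 0⟩, ⟨0, 1⟩, ⟨0, -1⟩, ⟨1, 0⟩, ⟨0, 0⟩, ⟨-1, 0⟩, ⟨0, 0⟩, ⟨0, 0⟩, ⟨0, 1⟩, ⟨0, 1⟩, ⟨0, 0⟩, ⟨0, -1⟩, ⟨0, 0⟩, ⟨-1, 0⟩, ⟨0, 0⟩, ⟨-1, 0⟩, ⟨-1, 0⟩, ⟨0, 1⟩, ⟨0, -1⟩],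
    ![⟨0, 0⟩, ⟨0, 0⟩, ⟨1, 0⟩, ⟨1, 0⟩, ⟨-1, 0⟩, ⟨0, 0⟩, ⟨1, 0⟩, ⟨0, 0⟩, ⟨1, 0⟩, ⟨0, 0⟩, ⟨0, 0⟩, ⟨0, -1⟩, ⟨0, 0⟩, ⟨1, 0⟩, ⟨0, 0⟩, ⟨-1, 0⟩, ⟨0, 1⟩, ⟨-1, 0⟩, ⟨0, 1⟩, ⟨1, 0⟩, ⟨0, 1⟩, ⟨0, 0⟩, ⟨0, 0⟩, ⟨0, -1⟩, ⟨0, 0⟩, ⟨0, 0⟩, ⟨0, -1⟩, ⟨1, 0⟩],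
    ![⟨0, 0⟩, ⟨0, 0⟩, ⟨-1, 0⟩, ⟨0, -1⟩, ⟨-1, 0⟩, ⟨0, -1⟩, ⟨0, 0⟩, ⟨0, 0⟩, ⟨0, 0⟩, ⟨1, 0⟩, ⟨0, 0⟩, ⟨0, -1⟩, ⟨-1, 0⟩, ⟨0, 0⟩, ⟨0, 0⟩, ⟨0, 1⟩, ⟨0, 0⟩, ⟨1, 0⟩, ⟨0, 0⟩, ⟨1, 0⟩, ⟨0, -1⟩, ⟨0, -1⟩, ⟨-1, 0⟩, ⟨1, 0⟩, ⟨0, -1⟩, ⟨0, 0⟩, ⟨0, 0⟩, ⟨0, 1⟩],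
    ![⟨0, 0⟩, ⟨0, 1⟩, ⟨0, 1⟩, ⟨0, 0⟩, ⟨0, 1⟩, ⟨0, 0⟩, ⟨-1, 0⟩, ⟨0, 0⟩, ⟨1, 0⟩, ⟨0, 1⟩, ⟨1, 0⟩, ⟨0, -1⟩, ⟨0, 0⟩, ⟨-1, 0⟩, ⟨0, -1⟩, ⟨0, 0⟩, ⟨-1, 0⟩, ⟨1, 0⟩, ⟨0, 0⟩, ⟨0, 0⟩, ⟨0, 1⟩, ⟨1, 0⟩, ⟨0, 0⟩, ⟨0, 0⟩, ⟨0, 0⟩, ⟨1, 0⟩, ⟨0, 0⟩, ⟨0, -1⟩],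
    ![⟨0, 0⟩, ⟨1, 0⟩, ⟨0, 1⟩, ⟨0, 0⟩, ⟨0, 0⟩, ⟨0, 0⟩, ⟨-1, 0⟩, ⟨0, -1⟩, ⟨-1, 0⟩, ⟨0, -1⟩, ⟨0, 0⟩, ⟨0, 0⟩, ⟨0, 0⟩, ⟨0, -1⟩, ⟨0, 0⟩, ⟨-1, 0⟩, ⟨1, 0⟩, ⟨0, 0⟩, ⟨0, 0⟩, ⟨0, 1⟩, ⟨1, 0⟩, ⟨0, 0⟩, ⟨0, 1⟩, ⟨0, 0⟩, ⟨1, 0⟩, ⟨1, 0⟩, ⟨1, 0⟩, ⟨1, 0⟩],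
    ![⟨0, 0⟩, ⟨0, 0⟩, ⟨0, 0⟩, ⟨0, 0⟩, ⟨1, 0⟩, ⟨0, 1⟩, ⟨1, 0⟩, ⟨1, 0⟩, ⟨-1, 0⟩, ⟨1, 0⟩, ⟨1, 0⟩, ⟨0, -1⟩, ⟨0, -1⟩, ⟨-1, 0⟩, ⟨1, 0⟩, ⟨1, 0⟩, ⟨0, 0⟩, ⟨0, 0⟩, ⟨0, 0⟩, ⟨0, 0⟩, ⟨0, 0⟩, ⟨0, 0⟩, ⟨0, 0⟩, ⟨0, 0⟩, ⟨1, 0⟩, ⟨-1, 0⟩, ⟨0, -1⟩, ⟨1, 0⟩],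
    ![⟨0, 0⟩, ⟨0, 1⟩, ⟨0, 0⟩, ⟨0, 1⟩, ⟨0, -1⟩, ⟨0, -1⟩, ⟨0, 1⟩, ⟨0, 1⟩, ⟨1, 0⟩, ⟨0, 0⟩, ⟨0, 0⟩, ⟨-1, 0⟩, ⟨0, -1⟩, ⟨0, -1⟩, ⟨0, 0⟩, ⟨0, 0⟩, ⟨0, 0⟩, ⟨0, 0⟩, ⟨1, 0⟩, ⟨-1, 0⟩, ⟨0, 0⟩, ⟨-1, 0⟩, ⟨0, 0⟩, ⟨0, 1⟩, ⟨0, -1⟩, ⟨0, 0⟩, ⟨0, 0⟩, ⟨1, 0⟩],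
    ![⟨0, 0⟩, ⟨0, 0⟩, ⟨0, -1⟩, ⟨-1, 0⟩, ⟨0, 0⟩, ⟨0, 0⟩, ⟨0, 1⟩, ⟨0, -1⟩, ⟨1, 0⟩, ⟨0, 0⟩, ⟨1, 0⟩, ⟨0, 0⟩, ⟨0, 0⟩, ⟨1, 0⟩, ⟨1, 0⟩, ⟨0, 0⟩, ⟨0, -1⟩, ⟨0, 0⟩, ⟨-1, 0⟩, ⟨0, 0⟩, ⟨1, 0⟩, ⟨-1, 0⟩, ⟨-1, 0⟩, ⟨1, 0⟩, ⟨0, 1⟩, ⟨0, 0⟩, ⟨0, 0⟩, ⟨0, -1⟩],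
    ![⟨0, 0⟩, ⟨0, 1⟩, ⟨0, 0⟩, ⟨1, 0⟩, ⟨1, 0⟩, ⟨0, 0⟩, ⟨0, 0⟩, ⟨0, 1⟩, ⟨0, 1⟩, ⟨0, 0⟩, ⟨1, 0⟩, ⟨0, 0⟩, ⟨0, 1⟩, ⟨0, -1⟩, ⟨0, 1⟩, ⟨0, -1⟩, ⟨1, 0⟩, ⟨0, 0⟩, ⟨0, 0⟩, ⟨1, 0⟩, ⟨0, 0⟩, ⟨0, 0⟩, ⟨0, 1⟩, ⟨1, 0⟩, ⟨0, 0⟩, ⟨0, 0⟩, ⟨-1, 0⟩, ⟨-1, 0⟩],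
    ![⟨0, 0⟩, ⟨0, 1⟩, ⟨0, 0⟩, ⟨0, -1⟩, ⟨-1, 0⟩, ⟨1, 0⟩, ⟨0, 1⟩, ⟨0, 1⟩, ⟨0, 0⟩, ⟨0, -1⟩, ⟨-1, 0⟩, ⟨0, 0⟩, ⟨0, 0⟩, ⟨0, 0⟩, ⟨0, 1⟩, ⟨1, 0⟩, ⟨0, 0⟩, ⟨0, 0⟩, ⟨-1, 0⟩, ⟨-1, 0⟩, ⟨0, 0⟩, ⟨1, 0⟩, ⟨0, 0⟩, ⟨0, -1⟩, ⟨1, 0⟩, ⟨0, 0⟩, ⟨0, 0⟩, ⟨0, -1⟩],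
    ![⟨0, 0⟩, ⟨0, 1⟩, ⟨1, 0⟩, ⟨0, 0⟩, ⟨0, 0⟩, ⟨0, 0⟩, ⟨1, 0⟩, ⟨0, -1⟩, ⟨0, 0⟩, ⟨0, 0⟩, ⟨0, 1⟩, ⟨0, -1⟩, ⟨-1, 0⟩, ⟨0, 0⟩, ⟨-1, 0⟩, ⟨0, 0⟩, ⟨0, -1⟩, ⟨0, 0⟩, ⟨0, 0⟩, ⟨-1, 0⟩, ⟨0, -1⟩, ⟨0, 0⟩, ⟨1, 0⟩, ⟨0, 0⟩, ⟨0, 1⟩, ⟨1, 0⟩, ⟨-1, 0⟩, ⟨0, 1⟩],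
    ![⟨0, 0⟩, ⟨0, 1⟩, ⟨0, 1⟩, ⟨0, 0⟩, ⟨0, 0⟩, ⟨1, 0⟩, ⟨0, 0⟩, ⟨-1, 0⟩, ⟨0, -1⟩, ⟨-1, 0⟩, ⟨0, 1⟩, ⟨-1, 0⟩, ⟨0, 0⟩, ⟨0, 1⟩, ⟨1, 0⟩, ⟨0, 0⟩, ⟨0, 0⟩, ⟨0, 0⟩, ⟨0, -1⟩, ⟨1, 0⟩, ⟨1, 0⟩, ⟨0, 1⟩, ⟨0, 0⟩, ⟨0, 0⟩, ⟨0, 0⟩, ⟨-1, 0⟩, ⟨0, 0⟩, ⟨0, 1⟩],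
    ![⟨0, 0⟩, ⟨0, 0⟩, ⟨0, 1⟩, ⟨0, 1⟩, ⟨0, 0⟩, ⟨-1, 0⟩, ⟨0, 0⟩, ⟨0, -1⟩, ⟨1, 0⟩, ⟨0, 0⟩, ⟨0, 0⟩, ⟨0, 1⟩, ⟨-1, 0⟩, ⟨0, 0⟩, ⟨0, 1⟩, ⟨0, 0⟩, ⟨1, 0⟩, ⟨1, 0⟩, ⟨0, 1⟩, ⟨0, -1⟩, ⟨0, 0⟩, ⟨1, 0⟩, ⟨0, -1⟩, ⟨0, 0⟩, ⟨1, 0⟩, ⟨-1, 0⟩, ⟨0, 0⟩, ⟨0, 0⟩],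
    ![⟨0, 0⟩, ⟨1, 0⟩, ⟨-1, 0⟩, ⟨0, 0⟩, ⟨0, 0⟩, ⟨1, 0⟩, ⟨0, 0⟩, ⟨-1, 0⟩, ⟨1, 0⟩, ⟨1, 0⟩, ⟨1, 0⟩, ⟨1, 0⟩, ⟨-1, 0⟩, ⟨0, 0⟩, ⟨0, 0⟩, ⟨1, 0⟩, ⟨1, 0⟩, ⟨-1, 0⟩, ⟨0, 0⟩, ⟨0, 0⟩, ⟨0, 0⟩, ⟨0, 0⟩, ⟨1, 0⟩, ⟨-1, 0⟩, ⟨-1, 0⟩, ⟨0, 0⟩, ⟨1, 0⟩, ⟨0, 0⟩],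
    ![⟨0, 0⟩, ⟨0, 1⟩, ⟨0, 0⟩, ⟨0, -1⟩, ⟨1, 0⟩, ⟨-1, 0⟩, ⟨1, 0⟩, ⟨-1, 0⟩, ⟨0, 0⟩, ⟨-1, 0⟩, ⟨0, -1⟩, ⟨0, 0⟩, ⟨0, -1⟩, ⟨0, 1⟩, ⟨0, 0⟩, ⟨0, 0⟩, ⟨1, 0⟩, ⟨0, 1⟩, ⟨0, 0⟩, ⟨0, 0⟩, ⟨-1, 0⟩, ⟨0, 0⟩, ⟨-1, 0⟩, ⟨0, 0⟩, ⟨0, 0⟩, ⟨1, 0⟩, ⟨1, 0⟩, ⟨0, 0⟩],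
    ![⟨0, 0⟩, ⟨0, 0⟩, ⟨0, 0⟩, ⟨0, 0⟩, ⟨1, 0⟩, ⟨1, 0⟩, ⟨0, 1⟩, ⟨1, 0⟩, ⟨0, 0⟩, ⟨0, 0⟩, ⟨0, 0⟩, ⟨0, 0⟩, ⟨0, 1⟩, ⟨1, 0⟩, ⟨0, -1⟩, ⟨0, 1⟩, ⟨1, 0⟩, ⟨1, 0⟩, ⟨1, 0⟩, ⟨0, 1⟩, ⟨-1, 0⟩, ⟨0, 1⟩, ⟨0, -1⟩, ⟨0, -1⟩, ⟨0, 0⟩, ⟨0, 0⟩, ⟨0, 0⟩, ⟨0, 0⟩]],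
  ![![⟨4, 0⟩, ⟨0, 0⟩, ⟨0, 0⟩, ⟨0, 0⟩, ⟨0, 0⟩, ⟨0, 0⟩, ⟨0, 0⟩, ⟨0, 0⟩, ⟨0, 0⟩, ⟨0, 0⟩, ⟨0, 0⟩, ⟨0, 0⟩, ⟨0, 0⟩, ⟨0, 0⟩, ⟨0, 0⟩, ⟨0, 0⟩, ⟨0, 0⟩, ⟨0, 0⟩, ⟨0, 0⟩, ⟨0, 0⟩, ⟨0, 0⟩, ⟨0, 0⟩, ⟨0, 0⟩, ⟨0, 0⟩, ⟨0, 0⟩, ⟨0, 0⟩, ⟨0, 0⟩, ⟨0, 0⟩],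
    ![⟨0, 0⟩, ⟨4, 0⟩, ⟨0, 0⟩, ⟨0, 0⟩, ⟨0, 0⟩, ⟨0, 0⟩, ⟨0, 0⟩, ⟨0, 0⟩, ⟨0, 0⟩, ⟨0, 0⟩, ⟨0, 0⟩, ⟨0, 0⟩, ⟨0, 0⟩, ⟨0, 0⟩, ⟨0, 0⟩, ⟨0, 0⟩, ⟨0, 0⟩, ⟨0, 0⟩, ⟨0, 0⟩, ⟨0, 0⟩, ⟨0, 0⟩, ⟨0, 0⟩, ⟨0, 0⟩, ⟨0, 0⟩, ⟨0, 0⟩, ⟨0, 0⟩, ⟨0, 0⟩, ⟨0, 0⟩],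
    ![⟨0, 0⟩, ⟨0, 0⟩, ⟨4, 0⟩, ⟨0, 0⟩, ⟨0, 0⟩, ⟨0, 0⟩, ⟨0, 0⟩, ⟨0, 0⟩, ⟨0, 0⟩, ⟨0, 0⟩, ⟨0, 0⟩, ⟨0, 0⟩, ⟨0, 0⟩, ⟨0, 0⟩, ⟨0, 0⟩, ⟨0, 0⟩, ⟨0, 0⟩, ⟨0, 0⟩, ⟨0, 0⟩, ⟨0, 0⟩, ⟨0, 0⟩, ⟨0, 0⟩, ⟨0, 0⟩, ⟨0, 0⟩, ⟨0, 0⟩, ⟨0, 0⟩, ⟨0, 0⟩, ⟨0, 0⟩],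
    ![⟨0, 0⟩, ⟨0, 0⟩, ⟨0, 0⟩, ⟨4, 0⟩, ⟨0, 0⟩, ⟨0, 0⟩, ⟨0, 0⟩, ⟨0, 0⟩, ⟨0, 0⟩, ⟨0, 0⟩, ⟨0, 0⟩, ⟨0, 0⟩, ⟨0, 0⟩, ⟨0, 0⟩, ⟨0, 0⟩, ⟨0, 0⟩, ⟨0, 0⟩, ⟨0, 0⟩, ⟨0, 0⟩, ⟨0, 0⟩, ⟨0, 0⟩, ⟨0, 0⟩, ⟨0, 0⟩, ⟨0, 0⟩, ⟨0, 0⟩, ⟨0, 0⟩, ⟨0, 0⟩, ⟨0, 0⟩],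
    ![⟨0, 0⟩, ⟨0, 0⟩, ⟨0, 0⟩, ⟨0, 0⟩, ⟨4, 0⟩, ⟨0, 0⟩, ⟨0, 0⟩, ⟨0, 0⟩, ⟨0, 0⟩, ⟨0, 0⟩, ⟨0, 0⟩, ⟨0, 0⟩, ⟨0, 0⟩, ⟨0, 0⟩, ⟨0, 0⟩, ⟨0, 0⟩, ⟨0, 0⟩, ⟨0, 0⟩, ⟨0, 0⟩, ⟨0, 0⟩, ⟨0, 0⟩, ⟨0, 0⟩, ⟨0, 0⟩, ⟨0, 0⟩, ⟨0, 0⟩, ⟨0, 0⟩, ⟨0, 0⟩, ⟨0, 0⟩],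
    ![⟨0, 0⟩, ⟨0, 0⟩, ⟨0, 0⟩, ⟨0, 0⟩, ⟨0, 0⟩, ⟨4, 0⟩, ⟨0, 0⟩, ⟨0, 0⟩, ⟨0, 0⟩, ⟨0, 0⟩, ⟨0, 0⟩, ⟨0, 0⟩, ⟨0, 0⟩, ⟨0, 0⟩, ⟨0, 0⟩, ⟨0, 0⟩, ⟨0, 0⟩, ⟨0, 0⟩, ⟨0, 0⟩, ⟨0, 0⟩, ⟨0, 0⟩, ⟨0, 0⟩, ⟨0, 0⟩, ⟨0, 0⟩, ⟨0, 0⟩, ⟨0, 0⟩, ⟨0, 0⟩, ⟨0, 0⟩],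
    ![⟨0, 0⟩, ⟨0, 0⟩, ⟨0, 0⟩, ⟨0, 0⟩, ⟨0, 0⟩, ⟨0, 0⟩, ⟨4, 0⟩, ⟨0, 0⟩, ⟨0, 0⟩, ⟨0, 0⟩, ⟨0, 0⟩, ⟨0, 0⟩, ⟨0, 0⟩, ⟨0, 0⟩, ⟨0, 0⟩, ⟨0, 0⟩, ⟨0, 0⟩, ⟨0, 0⟩, ⟨0, 0⟩, ⟨0, 0⟩, ⟨0, 0⟩, ⟨0, 0⟩, ⟨0, 0⟩, ⟨0, 0⟩, ⟨0, 0⟩, ⟨0, 0⟩, ⟨0, 0⟩, ⟨0, 0⟩],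
    ![⟨0, 0⟩, ⟨0, 0⟩, ⟨0, 0⟩, ⟨0, 0⟩, ⟨0, 0⟩, ⟨0, 0⟩, ⟨0, 0⟩, ⟨4, 0⟩, ⟨0, 0⟩, ⟨0, 0⟩, ⟨0, 0⟩, ⟨0, 0⟩, ⟨0, 0⟩, ⟨0, 0⟩, ⟨0, 0⟩, ⟨0, 0⟩, ⟨0, 0⟩, ⟨0, 0⟩, ⟨0, 0⟩, ⟨0, 0⟩, ⟨0, 0⟩, ⟨0, 0⟩, ⟨0, 0⟩, ⟨0, 0⟩, ⟨0, 0⟩, ⟨0, 0⟩, ⟨0, 0⟩, ⟨0, 0⟩],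
    ![⟨0, 0⟩, ⟨0, 0⟩, ⟨0, 0⟩, ⟨0, 0⟩, ⟨0, 0⟩, ⟨0, 0⟩, ⟨0, 0⟩, ⟨0, 0⟩, ⟨-4, 0⟩, ⟨0, 0⟩, ⟨0, 0⟩, ⟨0, 0⟩, ⟨0, 0⟩, ⟨0, 0⟩, ⟨0, 0⟩, ⟨0, 0⟩, ⟨0, 0⟩, ⟨0, 0⟩, ⟨0, 0⟩, ⟨0, 0⟩, ⟨0, 0⟩, ⟨0, 0⟩, ⟨0, 0⟩, ⟨0, 0⟩, ⟨0, 0⟩, ⟨0, 0⟩, ⟨0, 0⟩, ⟨0, 0⟩],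
    ![⟨0, 0⟩, ⟨0, 0⟩, ⟨0, 0⟩, ⟨0, 0⟩, ⟨0, 0⟩, ⟨0, 0⟩, ⟨0, 0⟩, ⟨0, 0⟩, ⟨0, 0⟩, ⟨-4, 0⟩, ⟨0, 0⟩, ⟨0, 0⟩, ⟨0, 0⟩, ⟨0, 0⟩, ⟨0, 0⟩, ⟨0, 0⟩, ⟨0, 0⟩, ⟨0, 0⟩, ⟨0, 0⟩, ⟨0, 0⟩, ⟨0, 0⟩, ⟨0, 0⟩, ⟨0, 0⟩, ⟨0, 0⟩, ⟨0, 0⟩, ⟨0, 0⟩, ⟨0, 0⟩, ⟨0, 0⟩],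
    ![⟨0, 0⟩, ⟨0, 0⟩, ⟨0, 0⟩, ⟨0, 0⟩, ⟨0, 0⟩, ⟨0, 0⟩, ⟨0, 0⟩, ⟨0, 0⟩, ⟨0, 0⟩, ⟨0, 0⟩, ⟨-4, 0⟩, ⟨0, 0⟩, ⟨0, 0⟩, ⟨0, 0⟩, ⟨0, 0⟩, ⟨0, 0⟩, ⟨0, 0⟩, ⟨0, 0⟩, ⟨0, 0⟩, ⟨0, 0⟩, ⟨0, 0⟩, ⟨0, 0⟩, ⟨0, 0⟩, ⟨0, 0⟩, ⟨0, 0⟩, ⟨0, 0⟩, ⟨0, 0⟩, ⟨0, 0⟩],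
    ![⟨0, 0⟩, ⟨0, 0⟩, ⟨0, 0⟩, ⟨0, 0⟩, ⟨0, 0⟩, ⟨0, 0⟩, ⟨0, 0⟩, ⟨0, 0⟩, ⟨0, 0⟩, ⟨0, 0⟩, ⟨0, 0⟩, ⟨-4, 0⟩, ⟨0, 0⟩, ⟨0, 0⟩, ⟨0, 0⟩, ⟨0, 0⟩, ⟨0, 0⟩, ⟨0, 0⟩, ⟨0, 0⟩, ⟨0, 0⟩, ⟨0, 0⟩, ⟨0, 0⟩, ⟨0, 0⟩, ⟨0, 0⟩, ⟨0, 0⟩, ⟨0, 0⟩, ⟨0, 0⟩, ⟨0, 0⟩],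
    ![⟨0, 0⟩, ⟨0, 0⟩, ⟨0, 0⟩, ⟨0, 0⟩, ⟨0, 0⟩, ⟨0, 0⟩, ⟨0, 0⟩, ⟨0, 0⟩, ⟨0, 0⟩, ⟨0, 0⟩, ⟨0, 0⟩, ⟨0, 0⟩, ⟨-4, 0⟩, ⟨0, 0⟩, ⟨0, 0⟩, ⟨0, 0⟩, ⟨0, 0⟩, ⟨0, 0⟩, ⟨0, 0⟩, ⟨0, 0⟩, ⟨0, 0⟩, ⟨0, 0⟩, ⟨0, 0⟩, ⟨0, 0⟩, ⟨0, 0⟩, ⟨0, 0⟩, ⟨0, 0⟩, ⟨0, 0⟩],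
    ![⟨0, 0⟩, ⟨0, 0⟩, ⟨0, 0⟩, ⟨0, 0⟩, ⟨0, 0⟩, ⟨0, 0⟩, ⟨0, 0⟩, ⟨0, 0⟩, ⟨0, 0⟩, ⟨0, 0⟩, ⟨0, 0⟩, ⟨0, 0⟩, ⟨0, 0⟩, ⟨-4, 0⟩, ⟨0, 0⟩, ⟨0, 0⟩, ⟨0, 0⟩, ⟨0, 0⟩, ⟨0, 0⟩, ⟨0, 0⟩, ⟨0, 0⟩, ⟨0, 0⟩, ⟨0, 0⟩, ⟨0, 0⟩, ⟨0, 0⟩, ⟨0, 0⟩, ⟨0, 0⟩, ⟨0, 0⟩],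
    ![⟨0, 0⟩, ⟨0, 0⟩, ⟨0, 0⟩, ⟨0, 0⟩, ⟨0, 0⟩, ⟨0, 0⟩, ⟨0, 0⟩, ⟨0, 0⟩, ⟨0, 0⟩, ⟨0, 0⟩, ⟨0, 0⟩, ⟨0, 0⟩, ⟨0, 0⟩, ⟨0, 0⟩, ⟨-4, 0⟩, ⟨0, 0⟩, ⟨0, 0⟩, ⟨0, 0⟩, ⟨0, 0⟩, ⟨0, 0⟩, ⟨0, 0⟩, ⟨0, 0⟩, ⟨0, 0⟩, ⟨0, 0⟩, ⟨0, 0⟩, ⟨0, 0⟩, ⟨0, 0⟩, ⟨0, 0⟩],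
    ![⟨0, 0⟩, ⟨0, 0⟩, ⟨0, 0⟩, ⟨0, 0⟩, ⟨0, 0⟩, ⟨0, 0⟩, ⟨0, 0⟩, ⟨0, 0⟩, ⟨0, 0⟩, ⟨0, 0⟩, ⟨0, 0⟩, ⟨0, 0⟩, ⟨0, 0⟩, ⟨0, 0⟩, ⟨0, 0⟩, ⟨-4, 0⟩, ⟨0, 0⟩, ⟨0, 0⟩, ⟨0, 0⟩, ⟨0, 0⟩, ⟨0, 0⟩, ⟨0, 0⟩, ⟨0, 0⟩, ⟨0, 0⟩, ⟨0, 0⟩, ⟨0, 0⟩, ⟨0, 0⟩, ⟨0, 0⟩],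
    ![⟨0, 0⟩, ⟨0, 0⟩, ⟨0, 0⟩, ⟨0, 0⟩, ⟨0, 0⟩, ⟨0, 0⟩, ⟨0, 0⟩, ⟨0, 0⟩, ⟨0, 0⟩, ⟨0, 0⟩, ⟨0, 0⟩, ⟨0, 0⟩, ⟨0, 0⟩, ⟨0, 0⟩, ⟨0, 0⟩, ⟨0, 0⟩, ⟨4, 0⟩, ⟨0, 0⟩, ⟨0, 0⟩, ⟨0, 0⟩, ⟨0, 0⟩, ⟨0, 0⟩, ⟨0, 0⟩, ⟨0, 0⟩, ⟨0, 0⟩, ⟨0, 0⟩, ⟨0, 0⟩, ⟨0, 0⟩],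
    ![⟨0, 0⟩, ⟨0, 0⟩, ⟨0, 0⟩, ⟨0, 0⟩, ⟨0, 0⟩, ⟨0, 0⟩, ⟨0, 0⟩, ⟨0, 0⟩, ⟨0, 0⟩, ⟨0, 0⟩, ⟨0, 0⟩, ⟨0, 0⟩, ⟨0, 0⟩, ⟨0, 0⟩, ⟨0, 0⟩, ⟨0, 0⟩, ⟨0, 0⟩, ⟨4, 0⟩, ⟨0, 0⟩, ⟨0, 0⟩, ⟨0, 0⟩, ⟨0, 0⟩, ⟨0, 0⟩, ⟨0, 0⟩, ⟨0, 0⟩, ⟨0, 0⟩, ⟨0, 0⟩, ⟨0, 0⟩],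
    ![⟨0, 0⟩, ⟨0, 0⟩, ⟨0, 0⟩, ⟨0, 0⟩, ⟨0, 0⟩, ⟨0, 0⟩, ⟨0, 0⟩, ⟨0, 0⟩, ⟨0, 0⟩, ⟨0, 0⟩, ⟨0, 0⟩, ⟨0, 0⟩, ⟨0, 0⟩, ⟨0, 0⟩, ⟨0, 0⟩, ⟨0, 0⟩, ⟨0, 0⟩, ⟨0, 0⟩, ⟨4, 0⟩, ⟨0, 0⟩, ⟨0, 0⟩, ⟨0, 0⟩, ⟨0, 0⟩, ⟨0, 0⟩, ⟨0, 0⟩, ⟨0, 0⟩, ⟨0, 0⟩, ⟨0, 0⟩],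
    ![⟨0, 0⟩, ⟨0, 0⟩, ⟨0, 0⟩, ⟨0, 0⟩, ⟨0, 0⟩, ⟨0, 0⟩, ⟨0, 0⟩, ⟨0, 0⟩, ⟨0, 0⟩, ⟨0, 0⟩, ⟨0, 0⟩, ⟨0, 0⟩, ⟨0, 0⟩, ⟨0, 0⟩, ⟨0, 0⟩, ⟨0, 0⟩, ⟨0, 0⟩, ⟨0, 0⟩, ⟨0, 0⟩, ⟨4, 0⟩, ⟨0, 0⟩, ⟨0, 0⟩, ⟨0, 0⟩, ⟨0, 0⟩, ⟨0, 0⟩, ⟨0, 0⟩, ⟨0, 0⟩, ⟨0, 0⟩],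
    ![⟨0, 0⟩, ⟨0, 0⟩, ⟨0, 0⟩, ⟨0, 0⟩, ⟨0, 0⟩, ⟨0, 0⟩, ⟨0, 0⟩, ⟨0, 0⟩, ⟨0, 0⟩, ⟨0, 0⟩, ⟨0, 0⟩, ⟨0, 0⟩, ⟨0, 0⟩, ⟨0, 0⟩, ⟨0, 0⟩, ⟨0, 0⟩, ⟨0, 0⟩, ⟨0, 0⟩, ⟨0, 0⟩, ⟨0, 0⟩, ⟨-4, 0⟩, ⟨0, 0⟩, ⟨0, 0⟩, ⟨0, 0⟩, ⟨0, 0⟩, ⟨0, 0⟩, ⟨0, 0⟩, ⟨0, 0⟩],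
    ![⟨0, 0⟩, ⟨0, 0⟩, ⟨0, 0⟩, ⟨0, 0⟩, ⟨0, 0⟩, ⟨0, 0⟩, ⟨0, 0⟩, ⟨0, 0⟩, ⟨0, 0⟩, ⟨0, 0⟩, ⟨0, 0⟩, ⟨0, 0⟩, ⟨0, 0⟩, ⟨0, 0⟩, ⟨0, 0⟩, ⟨0, 0⟩, ⟨0, 0⟩, ⟨0, 0⟩, ⟨0, 0⟩, ⟨0, 0⟩, ⟨0, 0⟩, ⟨-4, 0⟩, ⟨0, 0⟩, ⟨0, 0⟩, ⟨0, 0⟩, ⟨0, 0⟩, ⟨0, 0⟩, ⟨0, 0⟩],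
    ![⟨0, 0⟩, ⟨0, 0⟩, ⟨0, 0⟩, ⟨0, 0⟩, ⟨0, 0⟩, ⟨0, 0⟩, ⟨0, 0⟩, ⟨0, 0⟩, ⟨0, 0⟩, ⟨0, 0⟩, ⟨0, 0⟩, ⟨0, 0⟩, ⟨0, 0⟩, ⟨0, 0⟩, ⟨0, 0⟩, ⟨0, 0⟩, ⟨0, 0⟩, ⟨0, 0⟩, ⟨0, 0⟩, ⟨0, 0⟩, ⟨0, 0⟩, ⟨0, 0⟩, ⟨-4, 0⟩, ⟨0, 0⟩, ⟨0, 0⟩, ⟨0, 0⟩, ⟨0, 0⟩, ⟨0, 0⟩],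
    ![⟨0, 0⟩, ⟨0, 0⟩, ⟨0, 0⟩, ⟨0, 0⟩, ⟨0, 0⟩, ⟨0, 0⟩, ⟨0, 0⟩, ⟨0, 0⟩, ⟨0, 0⟩, ⟨0, 0⟩, ⟨0, 0⟩, ⟨0, 0⟩, ⟨0, 0⟩, ⟨0, 0⟩, ⟨0, 0⟩, ⟨0, 0⟩, ⟨0, 0⟩, ⟨0, 0⟩, ⟨0, 0⟩, ⟨0, 0⟩, ⟨0, 0⟩, ⟨0, 0⟩, ⟨0, 0⟩, ⟨-4, 0⟩, ⟨0, 0⟩, ⟨0, 0⟩, ⟨0, 0⟩, ⟨0, 0⟩],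
    ![⟨0, 0⟩, ⟨0, 0⟩, ⟨0, 0⟩, ⟨0, 0⟩, ⟨0, 0⟩, ⟨0, 0⟩, ⟨0, 0⟩, ⟨0, 0⟩, ⟨0, 0⟩, ⟨0, 0⟩, ⟨0, 0⟩, ⟨0, 0⟩, ⟨0, 0⟩, ⟨0, 0⟩, ⟨0, 0⟩, ⟨0, 0⟩, ⟨0, 0⟩, ⟨0, 0⟩, ⟨0, 0⟩, ⟨0, 0⟩, ⟨0, 0⟩, ⟨0, 0⟩, ⟨0, 0⟩, ⟨0, 0⟩, ⟨4, 0⟩, ⟨0, 0⟩, ⟨0, 0⟩, ⟨0, 0⟩],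
    ![⟨0, 0⟩, ⟨0, 0⟩, ⟨0, 0⟩, ⟨0, 0⟩, ⟨0, 0⟩, ⟨0, 0⟩, ⟨0, 0⟩, ⟨0, 0⟩, ⟨0, 0⟩, ⟨0, 0⟩, ⟨0, 0⟩, ⟨0, 0⟩, ⟨0, 0⟩, ⟨0, 0⟩, ⟨0, 0⟩, ⟨0, 0⟩, ⟨0, 0⟩, ⟨0, 0⟩, ⟨0, 0⟩, ⟨0, 0⟩, ⟨0, 0⟩, ⟨0, 0⟩, ⟨0, 0⟩, ⟨0, 0⟩, ⟨0, 0⟩, ⟨4, 0⟩, ⟨0, 0⟩, ⟨0, 0⟩],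
    ![⟨0, 0⟩, ⟨0, 0⟩, ⟨0, 0⟩, ⟨0, 0⟩, ⟨0, 0⟩, ⟨0, 0⟩, ⟨0, 0⟩, ⟨0, 0⟩, ⟨0, 0⟩, ⟨0, 0⟩, ⟨0, 0⟩, ⟨0, 0⟩, ⟨0, 0⟩, ⟨0, 0⟩, ⟨0, 0⟩, ⟨0, 0⟩, ⟨0, 0⟩, ⟨0, 0⟩, ⟨0, 0⟩, ⟨0, 0⟩, ⟨0, 0⟩, ⟨0, 0⟩, ⟨0, 0⟩, ⟨0, 0⟩, ⟨0, 0⟩, ⟨0, 0⟩, ⟨4, 0⟩, ⟨0, 0⟩],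
    ![⟨0, 0⟩, ⟨0, 0⟩, ⟨0, 0⟩, ⟨0, 0⟩, ⟨0, 0⟩, ⟨0, 0⟩, ⟨0, 0⟩, ⟨0, 0⟩, ⟨0, 0⟩, ⟨0, 0⟩, ⟨0, 0⟩, ⟨0, 0⟩, ⟨0, 0⟩, ⟨0, 0⟩, ⟨0, 0⟩, ⟨0, 0⟩, ⟨0, 0⟩, ⟨0, 0⟩, ⟨0, 0⟩, ⟨0, 0⟩, ⟨0, 0⟩, ⟨0, 0⟩, ⟨0, 0⟩, ⟨0, 0⟩, ⟨0, 0⟩, ⟨0, 0⟩, ⟨0, 0⟩, ⟨4, 0⟩]],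
  ![![⟨4, 0⟩, ⟨0, 0⟩, ⟨0, 0⟩, ⟨0, 0⟩, ⟨0, 0⟩, ⟨0, 0⟩, ⟨0, 0⟩, ⟨0, 0⟩, ⟨0, 0⟩, ⟨0, 0⟩, ⟨0, 0⟩, ⟨0, 0⟩, ⟨0, 0⟩, ⟨0, 0⟩, ⟨0, 0⟩, ⟨0, 0⟩, ⟨0, 0⟩, ⟨0, 0⟩, ⟨0, 0⟩, ⟨0, 0⟩, ⟨0, 0⟩, ⟨0, 0⟩, ⟨0, 0⟩, ⟨0, 0⟩, ⟨0, 0⟩, ⟨0, 0⟩, ⟨0, 0⟩, ⟨0, 0⟩],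
    ![⟨0, 0⟩, ⟨4, 0⟩, ⟨0, 0⟩, ⟨0, 0⟩, ⟨0, 0⟩, ⟨0, 0⟩, ⟨0, 0⟩, ⟨0, 0⟩, ⟨0, 0⟩, ⟨0, 0⟩, ⟨0, 0⟩, ⟨0, 0⟩, ⟨0, 0⟩, ⟨0, 0⟩, ⟨0, 0⟩, ⟨0, 0⟩, ⟨0, 0⟩, ⟨0, 0⟩, ⟨0, 0⟩, ⟨0, 0⟩, ⟨0, 0⟩, ⟨0, 0⟩, ⟨0, 0⟩, ⟨0, 0⟩, ⟨0, 0⟩, ⟨0, 0⟩, ⟨0, 0⟩, ⟨0, 0⟩],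
    ![⟨0, 0⟩, ⟨0, 0⟩, ⟨-4, 0⟩, ⟨0, 0⟩, ⟨0, 0⟩, ⟨0, 0⟩, ⟨0, 0⟩, ⟨0, 0⟩, ⟨0, 0⟩, ⟨0, 0⟩, ⟨0, 0⟩, ⟨0, 0⟩, ⟨0, 0⟩, ⟨0, 0⟩, ⟨0, 0⟩, ⟨0, 0⟩, ⟨0, 0⟩, ⟨0, 0⟩, ⟨0, 0⟩, ⟨0, 0⟩, ⟨0, 0⟩, ⟨0, 0⟩, ⟨0, 0⟩, ⟨0, 0⟩, ⟨0, 0⟩, ⟨0, 0⟩, ⟨0, 0⟩, ⟨0, 0⟩],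
    ![⟨0, 0⟩, ⟨0, 0⟩, ⟨0, 0⟩, ⟨-4, 0⟩, ⟨0, 0⟩, ⟨0, 0⟩, ⟨0, 0⟩, ⟨0, 0⟩, ⟨0, 0⟩, ⟨0, 0⟩, ⟨0, 0⟩, ⟨0, 0⟩, ⟨0, 0⟩, ⟨0, 0⟩, ⟨0, 0⟩, ⟨0, 0⟩, ⟨0, 0⟩, ⟨0, 0⟩, ⟨0, 0⟩, ⟨0, 0⟩, ⟨0, 0⟩, ⟨0, 0⟩, ⟨0, 0⟩, ⟨0, 0⟩, ⟨0, 0⟩, ⟨0, 0⟩, ⟨0, 0⟩, ⟨0, 0⟩],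
    ![⟨0, 0⟩, ⟨0, 0⟩, ⟨0, 0⟩, ⟨0, 0⟩, ⟨0, 0⟩, ⟨0, -4⟩, ⟨0, 0⟩, ⟨0, 0⟩, ⟨0, 0⟩, ⟨0, 0⟩, ⟨0, 0⟩, ⟨0, 0⟩, ⟨0, 0⟩, ⟨0, 0⟩, ⟨0, 0⟩, ⟨0, 0⟩, ⟨0, 0⟩, ⟨0, 0⟩, ⟨0, 0⟩, ⟨0, 0⟩, ⟨0, 0⟩, ⟨0, 0⟩, ⟨0, 0⟩, ⟨0, 0⟩, ⟨0, 0⟩, ⟨0, 0⟩, ⟨0, 0⟩, ⟨0, 0⟩],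
    ![⟨0, 0⟩, ⟨0, 0⟩, ⟨0, 0⟩, ⟨0, 0⟩, ⟨0, 4⟩, ⟨0, 0⟩, ⟨0, 0⟩, ⟨0, 0⟩, ⟨0, 0⟩, ⟨0, 0⟩, ⟨0, 0⟩, ⟨0, 0⟩, ⟨0, 0⟩, ⟨0, 0⟩, ⟨0, 0⟩, ⟨0, 0⟩, ⟨0, 0⟩, ⟨0, 0⟩, ⟨0, 0⟩, ⟨0, 0⟩, ⟨0, 0⟩, ⟨0, 0⟩, ⟨0, 0⟩, ⟨0, 0⟩, ⟨0, 0⟩, ⟨0, 0⟩, ⟨0, 0⟩, ⟨0, 0⟩],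
    ![⟨0, 0⟩, ⟨0, 0⟩, ⟨0, 0⟩, ⟨0, 0⟩, ⟨0, 0⟩, ⟨0, 0⟩, ⟨0, 0⟩, ⟨-4, 0⟩, ⟨0, 0⟩, ⟨0, 0⟩, ⟨0, 0⟩, ⟨0, 0⟩, ⟨0, 0⟩, ⟨0, 0⟩, ⟨0, 0⟩, ⟨0, 0⟩, ⟨0, 0⟩, ⟨0, 0⟩, ⟨0, 0⟩, ⟨0, 0⟩, ⟨0, 0⟩, ⟨0, 0⟩, ⟨0, 0⟩, ⟨0, 0⟩, ⟨0, 0⟩, ⟨0, 0⟩, ⟨0, 0⟩, ⟨0, 0⟩],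
    ![⟨0, 0⟩, ⟨0, 0⟩, ⟨0, 0⟩, ⟨0, 0⟩, ⟨0, 0⟩, ⟨0, 0⟩, ⟨-4, 0⟩, ⟨0, 0⟩, ⟨0, 0⟩, ⟨0, 0⟩, ⟨0, 0⟩, ⟨0, 0⟩, ⟨0, 0⟩, ⟨0, 0⟩, ⟨0, 0⟩, ⟨0, 0⟩, ⟨0, 0⟩, ⟨0, 0⟩, ⟨0, 0⟩, ⟨0, 0⟩, ⟨0, 0⟩, ⟨0, 0⟩, ⟨0, 0⟩, ⟨0, 0⟩, ⟨0, 0⟩, ⟨0, 0⟩, ⟨0, 0⟩, ⟨0, 0⟩],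
    ![⟨0, 0⟩, ⟨0, 0⟩, ⟨0, 0⟩, ⟨0, 0⟩, ⟨0, 0⟩, ⟨0, 0⟩, ⟨0, 0⟩, ⟨0, 0⟩, ⟨0, 0⟩, ⟨0, 0⟩, ⟨4, 0⟩, ⟨0, 0⟩, ⟨0, 0⟩, ⟨0, 0⟩, ⟨0, 0⟩, ⟨0, 0⟩, ⟨0, 0⟩, ⟨0, 0⟩, ⟨0, 0⟩, ⟨0, 0⟩, ⟨0, 0⟩, ⟨0, 0⟩, ⟨0, 0⟩, ⟨0, 0⟩, ⟨0, 0⟩, ⟨0, 0⟩, ⟨0, 0⟩, ⟨0, 0⟩],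
    ![⟨0, 0⟩, ⟨0, 0⟩, ⟨0, 0⟩, ⟨0, 0⟩, ⟨0, 0⟩, ⟨0, 0⟩, ⟨0, 0⟩, ⟨0, 0⟩, ⟨0, 0⟩, ⟨0, 0⟩, ⟨0, 0⟩, ⟨0, 4⟩, ⟨0, 0⟩, ⟨0, 0⟩, ⟨0, 0⟩, ⟨0, 0⟩, ⟨0, 0⟩, ⟨0, 0⟩, ⟨0, 0⟩, ⟨0, 0⟩, ⟨0, 0⟩, ⟨0, 0⟩, ⟨0, 0⟩, ⟨0, 0⟩, ⟨0, 0⟩, ⟨0, 0⟩, ⟨0, 0⟩, ⟨0, 0⟩],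
    ![⟨0, 0⟩, ⟨0, 0⟩, ⟨0, 0⟩, ⟨0, 0⟩, ⟨0, 0⟩, ⟨0, 0⟩, ⟨0, 0⟩, ⟨0, 0⟩, ⟨4, 0⟩, ⟨0, 0⟩, ⟨0, 0⟩, ⟨0, 0⟩, ⟨0, 0⟩, ⟨0, 0⟩, ⟨0, 0⟩, ⟨0, 0⟩, ⟨0, 0⟩, ⟨0, 0⟩, ⟨0, 0⟩, ⟨0, 0⟩, ⟨0, 0⟩, ⟨0, 0⟩, ⟨0, 0⟩, ⟨0, 0⟩, ⟨0, 0⟩, ⟨0, 0⟩, ⟨0, 0⟩, ⟨0, 0⟩],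
    ![⟨0, 0⟩, ⟨0, 0⟩, ⟨0, 0⟩, ⟨0, 0⟩, ⟨0, 0⟩, ⟨0, 0⟩, ⟨0, 0⟩, ⟨0, 0⟩, ⟨0, 0⟩, ⟨0, -4⟩, ⟨0, 0⟩, ⟨0, 0⟩, ⟨0, 0⟩, ⟨0, 0⟩, ⟨0, 0⟩, ⟨0, 0⟩, ⟨0, 0⟩, ⟨0, 0⟩, ⟨0, 0⟩, ⟨0, 0⟩, ⟨0, 0⟩, ⟨0, 0⟩, ⟨0, 0⟩, ⟨0, 0⟩, ⟨0, 0⟩, ⟨0, 0⟩, ⟨0, 0⟩, ⟨0, 0⟩],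
    ![⟨0, 0⟩, ⟨0, 0⟩, ⟨0, 0⟩, ⟨0, 0⟩, ⟨0, 0⟩, ⟨0, 0⟩, ⟨0, 0⟩, ⟨0, 0⟩, ⟨0, 0⟩, ⟨0, 0⟩, ⟨0, 0⟩, ⟨0, 0⟩, ⟨0, 0⟩, ⟨0, 0⟩, ⟨0, 0⟩, ⟨0, 4⟩, ⟨0, 0⟩, ⟨0, 0⟩, ⟨0, 0⟩, ⟨0, 0⟩, ⟨0, 0⟩, ⟨0, 0⟩, ⟨0, 0⟩, ⟨0, 0⟩, ⟨0, 0⟩, ⟨0, 0⟩, ⟨0, 0⟩, ⟨0, 0⟩],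
    ![⟨0, 0⟩, ⟨0, 0⟩, ⟨0, 0⟩, ⟨0, 0⟩, ⟨0, 0⟩, ⟨0, 0⟩, ⟨0, 0⟩, ⟨0, 0⟩, ⟨0, 0⟩, ⟨0, 0⟩, ⟨0, 0⟩, ⟨0, 0⟩, ⟨0, 0⟩, ⟨0, 0⟩, ⟨-4, 0⟩, ⟨0, 0⟩, ⟨0, 0⟩, ⟨0, 0⟩, ⟨0, 0⟩, ⟨0, 0⟩, ⟨0, 0⟩, ⟨0, 0⟩, ⟨0, 0⟩, ⟨0, 0⟩, ⟨0, 0⟩, ⟨0, 0⟩, ⟨0, 0⟩, ⟨0, 0⟩],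
    ![⟨0, 0⟩, ⟨0, 0⟩, ⟨0, 0⟩, ⟨0, 0⟩, ⟨0, 0⟩, ⟨0, 0⟩, ⟨0, 0⟩, ⟨0, 0⟩, ⟨0, 0⟩, ⟨0, 0⟩, ⟨0, 0⟩, ⟨0, 0⟩, ⟨0, 0⟩, ⟨-4, 0⟩, ⟨0, 0⟩, ⟨0, 0⟩, ⟨0, 0⟩, ⟨0, 0⟩, ⟨0, 0⟩, ⟨0, 0⟩, ⟨0, 0⟩, ⟨0, 0⟩, ⟨0, 0⟩, ⟨0, 0⟩, ⟨0, 0⟩, ⟨0, 0⟩, ⟨0, 0⟩, ⟨0, 0⟩],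
    ![⟨0, 0⟩, ⟨0, 0⟩, ⟨0, 0⟩, ⟨0, 0⟩, ⟨0, 0⟩, ⟨0, 0⟩, ⟨0, 0⟩, ⟨0, 0⟩, ⟨0, 0⟩, ⟨0, 0⟩, ⟨0, 0⟩, ⟨0, 0⟩, ⟨0, -4⟩, ⟨0, 0⟩, ⟨0, 0⟩, ⟨0, 0⟩, ⟨0, 0⟩, ⟨0, 0⟩, ⟨0, 0⟩, ⟨0, 0⟩, ⟨0, 0⟩, ⟨0, 0⟩, ⟨0, 0⟩, ⟨0, 0⟩, ⟨0, 0⟩, ⟨0, 0⟩, ⟨0, 0⟩, ⟨0, 0⟩],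
    ![⟨0, 0⟩, ⟨0, 0⟩, ⟨0, 0⟩, ⟨0, 0⟩, ⟨0, 0⟩, ⟨0, 0⟩, ⟨0, 0⟩, ⟨0, 0⟩, ⟨0, 0⟩, ⟨0, 0⟩, ⟨0, 0⟩, ⟨0, 0⟩, ⟨0, 0⟩, ⟨0, 0⟩, ⟨0, 0⟩, ⟨0, 0⟩, ⟨4, 0⟩, ⟨0, 0⟩, ⟨0, 0⟩, ⟨0, 0⟩, ⟨0, 0⟩, ⟨0, 0⟩, ⟨0, 0⟩, ⟨0, 0⟩, ⟨0, 0⟩, ⟨0, 0⟩, ⟨0, 0⟩, ⟨0, 0⟩],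
    ![⟨0, 0⟩, ⟨0, 0⟩, ⟨0, 0⟩, ⟨0, 0⟩, ⟨0, 0⟩, ⟨0, 0⟩, ⟨0, 0⟩, ⟨0, 0⟩, ⟨0, 0⟩, ⟨0, 0⟩, ⟨0, 0⟩, ⟨0, 0⟩, ⟨0, 0⟩, ⟨0, 0⟩, ⟨0, 0⟩, ⟨0, 0⟩, ⟨0, 0⟩, ⟨-4, 0⟩, ⟨0, 0⟩, ⟨0, 0⟩, ⟨0, 0⟩, ⟨0, 0⟩, ⟨0, 0⟩, ⟨0, 0⟩, ⟨0, 0⟩, ⟨0, 0⟩, ⟨0, 0⟩, ⟨0, 0⟩],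
    ![⟨0, 0⟩, ⟨0, 0⟩, ⟨0, 0⟩, ⟨0, 0⟩, ⟨0, 0⟩, ⟨0, 0⟩, ⟨0, 0⟩, ⟨0, 0⟩, ⟨0, 0⟩, ⟨0, 0⟩, ⟨0, 0⟩, ⟨0, 0⟩, ⟨0, 0⟩, ⟨0, 0⟩, ⟨0, 0⟩, ⟨0, 0⟩, ⟨0, 0⟩, ⟨0, 0⟩, ⟨4, 0⟩, ⟨0, 0⟩, ⟨0, 0⟩, ⟨0, 0⟩, ⟨0, 0⟩, ⟨0, 0⟩, ⟨0, 0⟩, ⟨0, 0⟩, ⟨0, 0⟩, ⟨0, 0⟩],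
    ![⟨0, 0⟩, ⟨0, 0⟩, ⟨0, 0⟩, ⟨0, 0⟩, ⟨0, 0⟩, ⟨0, 0⟩, ⟨0, 0⟩, ⟨0, 0⟩, ⟨0, 0⟩, ⟨0, 0⟩, ⟨0, 0⟩, ⟨0, 0⟩, ⟨0, 0⟩, ⟨0, 0⟩, ⟨0, 0⟩, ⟨0, 0⟩, ⟨0, 0⟩, ⟨0, 0⟩, ⟨0, 0⟩, ⟨-4, 0⟩, ⟨0, 0⟩, ⟨0, 0⟩, ⟨0, 0⟩, ⟨0, 0⟩, ⟨0, 0⟩, ⟨0, 0⟩, ⟨0, 0⟩, ⟨0, 0⟩],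
    ![⟨0, 0⟩, ⟨0, 0⟩, ⟨0, 0⟩, ⟨0, 0⟩, ⟨0, 0⟩, ⟨0, 0⟩, ⟨0, 0⟩, ⟨0, 0⟩, ⟨0, 0⟩, ⟨0, 0⟩, ⟨0, 0⟩, ⟨0, 0⟩, ⟨0, 0⟩, ⟨0, 0⟩, ⟨0, 0⟩, ⟨0, 0⟩, ⟨0, 0⟩, ⟨0, 0⟩, ⟨0, 0⟩, ⟨0, 0⟩, ⟨-4, 0⟩, ⟨0, 0⟩, ⟨0, 0⟩, ⟨0, 0⟩, ⟨0, 0⟩, ⟨0, 0⟩, ⟨0, 0⟩, ⟨0, 0⟩],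
    ![⟨0, 0⟩, ⟨0, 0⟩, ⟨0, 0⟩, ⟨0, 0⟩, ⟨0, 0⟩, ⟨0, 0⟩, ⟨0, 0⟩, ⟨0, 0⟩, ⟨0, 0⟩, ⟨0, 0⟩, ⟨0, 0⟩, ⟨0, 0⟩, ⟨0, 0⟩, ⟨0, 0⟩, ⟨0, 0⟩, ⟨0, 0⟩, ⟨0, 0⟩, ⟨0, 0⟩, ⟨0, 0⟩, ⟨0, 0⟩, ⟨0, 0⟩, ⟨-4, 0⟩, ⟨0, 0⟩, ⟨0, 0⟩, ⟨0, 0⟩, ⟨0, 0⟩, ⟨0, 0⟩, ⟨0, 0⟩],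
    ![⟨0, 0⟩, ⟨0, 0⟩, ⟨0, 0⟩, ⟨0, 0⟩, ⟨0, 0⟩, ⟨0, 0⟩, ⟨0, 0⟩, ⟨0, 0⟩, ⟨0, 0⟩, ⟨0, 0⟩, ⟨0, 0⟩, ⟨0, 0⟩, ⟨0, 0⟩, ⟨0, 0⟩, ⟨0, 0⟩, ⟨0, 0⟩, ⟨0, 0⟩, ⟨0, 0⟩, ⟨0, 0⟩, ⟨0, 0⟩, ⟨0, 0⟩, ⟨0, 0⟩, ⟨-4, 0⟩, ⟨0, 0⟩, ⟨0, 0⟩, ⟨0, 0⟩, ⟨0, 0⟩, ⟨0, 0⟩],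
    ![⟨0, 0⟩, ⟨0, 0⟩, ⟨0, 0⟩, ⟨0, 0⟩, ⟨0, 0⟩, ⟨0, 0⟩, ⟨0, 0⟩, ⟨0, 0⟩, ⟨0, 0⟩, ⟨0, 0⟩, ⟨0, 0⟩, ⟨0, 0⟩, ⟨0, 0⟩, ⟨0, 0⟩, ⟨0, 0⟩, ⟨0, 0⟩, ⟨0, 0⟩, ⟨0, 0⟩, ⟨0, 0⟩, ⟨0, 0⟩, ⟨0, 0⟩, ⟨0, 0⟩, ⟨0, 0⟩, ⟨-4, 0⟩, ⟨0, 0⟩, ⟨0, 0⟩, ⟨0, 0⟩, ⟨0, 0⟩],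
    ![⟨0, 0⟩, ⟨0, 0⟩, ⟨0, 0⟩, ⟨0, 0⟩, ⟨0, 0⟩, ⟨0, 0⟩, ⟨0, 0⟩, ⟨0, 0⟩, ⟨0, 0⟩, ⟨0, 0⟩, ⟨0, 0⟩, ⟨0, 0⟩, ⟨0, 0⟩, ⟨0, 0⟩, ⟨0, 0⟩, ⟨0, 0⟩, ⟨0, 0⟩, ⟨0, 0⟩, ⟨0, 0⟩, ⟨0, 0⟩, ⟨0, 0⟩, ⟨0, 0⟩, ⟨0, 0⟩, ⟨0, 0⟩, ⟨0, 0⟩, ⟨0, 0⟩, ⟨0, 0⟩, ⟨4, 0⟩],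
    ![⟨0, 0⟩, ⟨0, 0⟩, ⟨0, 0⟩, ⟨0, 0⟩, ⟨0, 0⟩, ⟨0, 0⟩, ⟨0, 0⟩, ⟨0, 0⟩, ⟨0, 0⟩, ⟨0, 0⟩, ⟨0, 0⟩, ⟨0, 0⟩, ⟨0, 0⟩, ⟨0, 0⟩, ⟨0, 0⟩, ⟨0, 0⟩, ⟨0, 0⟩, ⟨0, 0⟩, ⟨0, 0⟩, ⟨0, 0⟩, ⟨0, 0⟩, ⟨0, 0⟩, ⟨0, 0⟩, ⟨0, 0⟩, ⟨0, 0⟩, ⟨0, 0⟩, ⟨0, 4⟩, ⟨0, 0⟩],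
    ![⟨0, 0⟩, ⟨0, 0⟩, ⟨0, 0⟩, ⟨0, 0⟩, ⟨0, 0⟩, ⟨0, 0⟩, ⟨0, 0⟩, ⟨0, 0⟩, ⟨0, 0⟩, ⟨0, 0⟩, ⟨0, 0⟩, ⟨0, 0⟩, ⟨0, 0⟩, ⟨0, 0⟩, ⟨0, 0⟩, ⟨0, 0⟩, ⟨0, 0⟩, ⟨0, 0⟩, ⟨0, 0⟩, ⟨0, 0⟩, ⟨0, 0⟩, ⟨0, 0⟩, ⟨0, 0⟩, ⟨0, 0⟩, ⟨0, 0⟩, ⟨0, -4⟩, ⟨0, 0⟩, ⟨0, 0⟩],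
    ![⟨0, 0⟩, ⟨0, 0⟩, ⟨0, 0⟩, ⟨0, 0⟩, ⟨0, 0⟩, ⟨0, 0⟩, ⟨0, 0⟩, ⟨0, 0⟩, ⟨0, 0⟩, ⟨0, 0⟩, ⟨0, 0⟩, ⟨0, 0⟩, ⟨0, 0⟩, ⟨0, 0⟩, ⟨0, 0⟩, ⟨0, 0⟩, ⟨0, 0⟩, ⟨0, 0⟩, ⟨0, 0⟩, ⟨0, 0⟩, ⟨0, 0⟩, ⟨0, 0⟩, ⟨0, 0⟩, ⟨0, 0⟩, ⟨4, 0⟩, ⟨0, 0⟩, ⟨0, 0⟩, ⟨0, 0⟩]],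
  ![![⟨0, 0⟩, ⟨4, 0⟩, ⟨0, 0⟩, ⟨0, 0⟩, ⟨0, 0⟩, ⟨0, 0⟩, ⟨0, 0⟩, ⟨0, 0⟩, ⟨0, 0⟩, ⟨0, 0⟩, ⟨0, 0⟩, ⟨0, 0⟩, ⟨0, 0⟩, ⟨0, 0⟩, ⟨0, 0⟩, ⟨0, 0⟩, ⟨0, 0⟩, ⟨0, 0⟩, ⟨0, 0⟩, ⟨0, 0⟩, ⟨0, 0⟩, ⟨0, 0⟩, ⟨0, 0⟩, ⟨0, 0⟩, ⟨0, 0⟩, ⟨0, 0⟩, ⟨0, 0⟩, ⟨0, 0⟩],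
    ![⟨4, 0⟩, ⟨0, 0⟩, ⟨0, 0⟩, ⟨0, 0⟩, ⟨0, 0⟩, ⟨0, 0⟩, ⟨0, 0⟩, ⟨0, 0⟩, ⟨0, 0⟩, ⟨0, 0⟩, ⟨0, 0⟩, ⟨0, 0⟩, ⟨0, 0⟩, ⟨0, 0⟩, ⟨0, 0⟩, ⟨0, 0⟩, ⟨0, 0⟩, ⟨0, 0⟩, ⟨0, 0⟩, ⟨0, 0⟩, ⟨0, 0⟩, ⟨0, 0⟩, ⟨0, 0⟩, ⟨0, 0⟩, ⟨0, 0⟩, ⟨0, 0⟩, ⟨0, 0⟩, ⟨0, 0⟩],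
    ![⟨0, 0⟩, ⟨0, 0⟩, ⟨0, 0⟩, ⟨0, 4⟩, ⟨0, 0⟩, ⟨0, 0⟩, ⟨0, 0⟩, ⟨0, 0⟩, ⟨0, 0⟩, ⟨0, 0⟩, ⟨0, 0⟩, ⟨0, 0⟩, ⟨0, 0⟩, ⟨0, 0⟩, ⟨0, 0⟩, ⟨0, 0⟩, ⟨0, 0⟩, ⟨0, 0⟩, ⟨0, 0⟩, ⟨0, 0⟩, ⟨0, 0⟩, ⟨0, 0⟩, ⟨0, 0⟩, ⟨0, 0⟩, ⟨0, 0⟩, ⟨0, 0⟩, ⟨0, 0⟩, ⟨0, 0⟩],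
    ![⟨0, 0⟩, ⟨0, 0⟩, ⟨0, -4⟩, ⟨0, 0⟩, ⟨0, 0⟩, ⟨0, 0⟩, ⟨0, 0⟩, ⟨0, 0⟩, ⟨0, 0⟩, ⟨0, 0⟩, ⟨0, 0⟩, ⟨0, 0⟩, ⟨0, 0⟩, ⟨0, 0⟩, ⟨0, 0⟩, ⟨0, 0⟩, ⟨0, 0⟩, ⟨0, 0⟩, ⟨0, 0⟩, ⟨0, 0⟩, ⟨0, 0⟩, ⟨0, 0⟩, ⟨0, 0⟩, ⟨0, 0⟩, ⟨0, 0⟩, ⟨0, 0⟩, ⟨0, 0⟩, ⟨0, 0⟩],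
    ![⟨0, 0⟩, ⟨0, 0⟩, ⟨0, 0⟩, ⟨0, 0⟩, ⟨0, 0⟩, ⟨0, 4⟩, ⟨0, 0⟩, ⟨0, 0⟩, ⟨0, 0⟩, ⟨0, 0⟩, ⟨0, 0⟩, ⟨0, 0⟩, ⟨0, 0⟩, ⟨0, 0⟩, ⟨0, 0⟩, ⟨0, 0⟩, ⟨0, 0⟩, ⟨0, 0⟩, ⟨0, 0⟩, ⟨0, 0⟩, ⟨0, 0⟩, ⟨0, 0⟩, ⟨0, 0⟩, ⟨0, 0⟩, ⟨0, 0⟩, ⟨0, 0⟩, ⟨0, 0⟩, ⟨0, 0⟩],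
    ![⟨0, 0⟩, ⟨0, 0⟩, ⟨0, 0⟩, ⟨0, 0⟩, ⟨0, -4⟩, ⟨0, 0⟩, ⟨0, 0⟩, ⟨0, 0⟩, ⟨0, 0⟩, ⟨0, 0⟩, ⟨0, 0⟩, ⟨0, 0⟩, ⟨0, 0⟩, ⟨0, 0⟩, ⟨0, 0⟩, ⟨0, 0⟩, ⟨0, 0⟩, ⟨0, 0⟩, ⟨0, 0⟩, ⟨0, 0⟩, ⟨0, 0⟩, ⟨0, 0⟩, ⟨0, 0⟩, ⟨0, 0⟩, ⟨0, 0⟩, ⟨0, 0⟩, ⟨0, 0⟩, ⟨0, 0⟩],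
    ![⟨0, 0⟩, ⟨0, 0⟩, ⟨0, 0⟩, ⟨0, 0⟩, ⟨0, 0⟩, ⟨0, 0⟩, ⟨0, 0⟩, ⟨-4, 0⟩, ⟨0, 0⟩, ⟨0, 0⟩, ⟨0, 0⟩, ⟨0, 0⟩, ⟨0, 0⟩, ⟨0, 0⟩, ⟨0, 0⟩, ⟨0, 0⟩, ⟨0, 0⟩, ⟨0, 0⟩, ⟨0, 0⟩, ⟨0, 0⟩, ⟨0, 0⟩, ⟨0, 0⟩, ⟨0, 0⟩, ⟨0, 0⟩, ⟨0, 0⟩, ⟨0, 0⟩, ⟨0, 0⟩, ⟨0, 0⟩],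
    ![⟨0, 0⟩, ⟨0, 0⟩, ⟨0, 0⟩, ⟨0, 0⟩, ⟨0, 0⟩, ⟨0, 0⟩, ⟨-4, 0⟩, ⟨0, 0⟩, ⟨0, 0⟩, ⟨0, 0⟩, ⟨0, 0⟩, ⟨0, 0⟩, ⟨0, 0⟩, ⟨0, 0⟩, ⟨0, 0⟩, ⟨0, 0⟩, ⟨0, 0⟩, ⟨0, 0⟩, ⟨0, 0⟩, ⟨0, 0⟩, ⟨0, 0⟩, ⟨0, 0⟩, ⟨0, 0⟩, ⟨0, 0⟩, ⟨0, 0⟩, ⟨0, 0⟩, ⟨0, 0⟩, ⟨0, 0⟩],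
    ![⟨0, 0⟩, ⟨0, 0⟩, ⟨0, 0⟩, ⟨0, 0⟩, ⟨0, 0⟩, ⟨0, 0⟩, ⟨0, 0⟩, ⟨0, 0⟩, ⟨4, 0⟩, ⟨0, 0⟩, ⟨0, 0⟩, ⟨0, 0⟩, ⟨0, 0⟩, ⟨0, 0⟩, ⟨0, 0⟩, ⟨0, 0⟩, ⟨0, 0⟩, ⟨0, 0⟩, ⟨0, 0⟩, ⟨0, 0⟩, ⟨0, 0⟩, ⟨0, 0⟩, ⟨0, 0⟩, ⟨0, 0⟩, ⟨0, 0⟩, ⟨0, 0⟩, ⟨0, 0⟩, ⟨0, 0⟩],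
    ![⟨0, 0⟩, ⟨0, 0⟩, ⟨0, 0⟩, ⟨0, 0⟩, ⟨0, 0⟩, ⟨0, 0⟩, ⟨0, 0⟩, ⟨0, 0⟩, ⟨0, 0⟩, ⟨-4, 0⟩, ⟨0, 0⟩, ⟨0, 0⟩, ⟨0, 0⟩, ⟨0, 0⟩, ⟨0, 0⟩, ⟨0, 0⟩, ⟨0, 0⟩, ⟨0, 0⟩, ⟨0, 0⟩, ⟨0, 0⟩, ⟨0, 0⟩, ⟨0, 0⟩, ⟨0, 0⟩, ⟨0, 0⟩, ⟨0, 0⟩, ⟨0, 0⟩, ⟨0, 0⟩, ⟨0, 0⟩],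
    ![⟨0, 0⟩, ⟨0, 0⟩, ⟨0, 0⟩, ⟨0, 0⟩, ⟨0, 0⟩, ⟨0, 0⟩, ⟨0, 0⟩, ⟨0, 0⟩, ⟨0, 0⟩, ⟨0, 0⟩, ⟨4, 0⟩, ⟨0, 0⟩, ⟨0, 0⟩, ⟨0, 0⟩, ⟨0, 0⟩, ⟨0, 0⟩, ⟨0, 0⟩, ⟨0, 0⟩, ⟨0, 0⟩, ⟨0, 0⟩, ⟨0, 0⟩, ⟨0, 0⟩, ⟨0, 0⟩, ⟨0, 0⟩, ⟨0, 0⟩, ⟨0, 0⟩, ⟨0, 0⟩, ⟨0, 0⟩],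
    ![⟨0, 0⟩, ⟨0, 0⟩, ⟨0, 0⟩, ⟨0, 0⟩, ⟨0, 0⟩, ⟨0, 0⟩, ⟨0, 0⟩, ⟨0, 0⟩, ⟨0, 0⟩, ⟨0, 0⟩, ⟨0, 0⟩, ⟨-4, 0⟩, ⟨0, 0⟩, ⟨0, 0⟩, ⟨0, 0⟩, ⟨0, 0⟩, ⟨0, 0⟩, ⟨0, 0⟩, ⟨0, 0⟩, ⟨0, 0⟩, ⟨0, 0⟩, ⟨0, 0⟩, ⟨0, 0⟩, ⟨0, 0⟩, ⟨0, 0⟩, ⟨0, 0⟩, ⟨0, 0⟩, ⟨0, 0⟩],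
    ![⟨0, 0⟩, ⟨0, 0⟩, ⟨0, 0⟩, ⟨0, 0⟩, ⟨0, 0⟩, ⟨0, 0⟩, ⟨0, 0⟩, ⟨0, 0⟩, ⟨0, 0⟩, ⟨0, 0⟩, ⟨0, 0⟩, ⟨0, 0⟩, ⟨-4, 0⟩, ⟨0, 0⟩, ⟨0, 0⟩, ⟨0, 0⟩, ⟨0, 0⟩, ⟨0, 0⟩, ⟨0, 0⟩, ⟨0, 0⟩, ⟨0, 0⟩, ⟨0, 0⟩, ⟨0, 0⟩, ⟨0, 0⟩, ⟨0, 0⟩, ⟨0, 0⟩, ⟨0, 0⟩, ⟨0, 0⟩],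
    ![⟨0, 0⟩, ⟨0, 0⟩, ⟨0, 0⟩, ⟨0, 0⟩, ⟨0, 0⟩, ⟨0, 0⟩, ⟨0, 0⟩, ⟨0, 0⟩, ⟨0, 0⟩, ⟨0, 0⟩, ⟨0, 0⟩, ⟨0, 0⟩, ⟨0, 0⟩, ⟨4, 0⟩, ⟨0, 0⟩, ⟨0, 0⟩, ⟨0, 0⟩, ⟨0, 0⟩, ⟨0, 0⟩, ⟨0, 0⟩, ⟨0, 0⟩, ⟨0, 0⟩, ⟨0, 0⟩, ⟨0, 0⟩, ⟨0, 0⟩, ⟨0, 0⟩, ⟨0, 0⟩, ⟨0, 0⟩],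
    ![⟨0, 0⟩, ⟨0, 0⟩, ⟨0, 0⟩, ⟨0, 0⟩, ⟨0, 0⟩, ⟨0, 0⟩, ⟨0, 0⟩, ⟨0, 0⟩, ⟨0, 0⟩, ⟨0, 0⟩, ⟨0, 0⟩, ⟨0, 0⟩, ⟨0, 0⟩, ⟨0, 0⟩, ⟨4, 0⟩, ⟨0, 0⟩, ⟨0, 0⟩, ⟨0, 0⟩, ⟨0, 0⟩, ⟨0, 0⟩, ⟨0, 0⟩, ⟨0, 0⟩, ⟨0, 0⟩, ⟨0, 0⟩, ⟨0, 0⟩, ⟨0, 0⟩, ⟨0, 0⟩, ⟨0, 0⟩],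
    ![⟨0, 0⟩, ⟨0, 0⟩, ⟨0, 0⟩, ⟨0, 0⟩, ⟨0, 0⟩, ⟨0, 0⟩, ⟨0, 0⟩, ⟨0, 0⟩, ⟨0, 0⟩, ⟨0, 0⟩, ⟨0, 0⟩, ⟨0, 0⟩, ⟨0, 0⟩, ⟨0, 0⟩, ⟨0, 0⟩, ⟨-4, 0⟩, ⟨0, 0⟩, ⟨0, 0⟩, ⟨0, 0⟩, ⟨0, 0⟩, ⟨0, 0⟩, ⟨0, 0⟩, ⟨0, 0⟩, ⟨0, 0⟩, ⟨0, 0⟩, ⟨0, 0⟩, ⟨0, 0⟩, ⟨0, 0⟩],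
    ![⟨0, 0⟩, ⟨0, 0⟩, ⟨0, 0⟩, ⟨0, 0⟩, ⟨0, 0⟩, ⟨0, 0⟩, ⟨0, 0⟩, ⟨0, 0⟩, ⟨0, 0⟩, ⟨0, 0⟩, ⟨0, 0⟩, ⟨0, 0⟩, ⟨0, 0⟩, ⟨0, 0⟩, ⟨0, 0⟩, ⟨0, 0⟩, ⟨0, 0⟩, ⟨0, 0⟩, ⟨0, 4⟩, ⟨0, 0⟩, ⟨0, 0⟩, ⟨0, 0⟩, ⟨0, 0⟩, ⟨0, 0⟩, ⟨0, 0⟩, ⟨0, 0⟩, ⟨0, 0⟩, ⟨0, 0⟩],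
    ![⟨0, 0⟩, ⟨0, 0⟩, ⟨0, 0⟩, ⟨0, 0⟩, ⟨0, 0⟩, ⟨0, 0⟩, ⟨0, 0⟩, ⟨0, 0⟩, ⟨0, 0⟩, ⟨0, 0⟩, ⟨0, 0⟩, ⟨0, 0⟩, ⟨0, 0⟩, ⟨0, 0⟩, ⟨0, 0⟩, ⟨0, 0⟩, ⟨0, 0⟩, ⟨0, 0⟩, ⟨0, 0⟩, ⟨4, 0⟩, ⟨0, 0⟩, ⟨0, 0⟩, ⟨0, 0⟩, ⟨0, 0⟩, ⟨0, 0⟩, ⟨0, 0⟩, ⟨0, 0⟩, ⟨0, 0⟩],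
    ![⟨0, 0⟩, ⟨0, 0⟩, ⟨0, 0⟩, ⟨0, 0⟩, ⟨0, 0⟩, ⟨0, 0⟩, ⟨0, 0⟩, ⟨0, 0⟩, ⟨0, 0⟩, ⟨0, 0⟩, ⟨0, 0⟩, ⟨0, 0⟩, ⟨0, 0⟩, ⟨0, 0⟩, ⟨0, 0⟩, ⟨0, 0⟩, ⟨0, -4⟩, ⟨0, 0⟩, ⟨0, 0⟩, ⟨0, 0⟩, ⟨0, 0⟩, ⟨0, 0⟩, ⟨0, 0⟩, ⟨0, 0⟩, ⟨0, 0⟩, ⟨0, 0⟩, ⟨0, 0⟩, ⟨0, 0⟩],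
    ![⟨0, 0⟩, ⟨0, 0⟩, ⟨0, 0⟩, ⟨0, 0⟩, ⟨0, 0⟩, ⟨0, 0⟩, ⟨0, 0⟩, ⟨0, 0⟩, ⟨0, 0⟩, ⟨0, 0⟩, ⟨0, 0⟩, ⟨0, 0⟩, ⟨0, 0⟩, ⟨0, 0⟩, ⟨0, 0⟩, ⟨0, 0⟩, ⟨0, 0⟩, ⟨4, 0⟩, ⟨0, 0⟩, ⟨0, 0⟩, ⟨0, 0⟩, ⟨0, 0⟩, ⟨0, 0⟩, ⟨0, 0⟩, ⟨0, 0⟩, ⟨0, 0⟩, ⟨0, 0⟩, ⟨0, 0⟩],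
    ![⟨0, 0⟩, ⟨0, 0⟩, ⟨0, 0⟩, ⟨0, 0⟩, ⟨0, 0⟩, ⟨0, 0⟩, ⟨0, 0⟩, ⟨0, 0⟩, ⟨0, 0⟩, ⟨0, 0⟩, ⟨0, 0⟩, ⟨0, 0⟩, ⟨0, 0⟩, ⟨0, 0⟩, ⟨0, 0⟩, ⟨0, 0⟩, ⟨0, 0⟩, ⟨0, 0⟩, ⟨0, 0⟩, ⟨0, 0⟩, ⟨-4, 0⟩, ⟨0, 0⟩, ⟨0, 0⟩, ⟨0, 0⟩, ⟨0, 0⟩, ⟨0, 0⟩, ⟨0, 0⟩, ⟨0, 0⟩],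
    ![⟨0, 0⟩, ⟨0, 0⟩, ⟨0, 0⟩, ⟨0, 0⟩, ⟨0, 0⟩, ⟨0, 0⟩, ⟨0, 0⟩, ⟨0, 0⟩, ⟨0, 0⟩, ⟨0, 0⟩, ⟨0, 0⟩, ⟨0, 0⟩, ⟨0, 0⟩, ⟨0, 0⟩, ⟨0, 0⟩, ⟨0, 0⟩, ⟨0, 0⟩, ⟨0, 0⟩, ⟨0, 0⟩, ⟨0, 0⟩, ⟨0, 0⟩, ⟨-4, 0⟩, ⟨0, 0⟩, ⟨0, 0⟩, ⟨0, 0⟩, ⟨0, 0⟩, ⟨0, 0⟩, ⟨0, 0⟩],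
    ![⟨0, 0⟩, ⟨0, 0⟩, ⟨0, 0⟩, ⟨0, 0⟩, ⟨0, 0⟩, ⟨0, 0⟩, ⟨0, 0⟩, ⟨0, 0⟩, ⟨0, 0⟩, ⟨0, 0⟩, ⟨0, 0⟩, ⟨0, 0⟩, ⟨0, 0⟩, ⟨0, 0⟩, ⟨0, 0⟩, ⟨0, 0⟩, ⟨0, 0⟩, ⟨0, 0⟩, ⟨0, 0⟩, ⟨0, 0⟩, ⟨0, 0⟩, ⟨0, 0⟩, ⟨-4, 0⟩, ⟨0, 0⟩, ⟨0, 0⟩, ⟨0, 0⟩, ⟨0, 0⟩, ⟨0, 0⟩],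
    ![⟨0, 0⟩, ⟨0, 0⟩, ⟨0, 0⟩, ⟨0, 0⟩, ⟨0, 0⟩, ⟨0, 0⟩, ⟨0, 0⟩, ⟨0, 0⟩, ⟨0, 0⟩, ⟨0, 0⟩, ⟨0, 0⟩, ⟨0, 0⟩, ⟨0, 0⟩, ⟨0, 0⟩, ⟨0, 0⟩, ⟨0, 0⟩, ⟨0, 0⟩, ⟨0, 0⟩, ⟨0, 0⟩, ⟨0, 0⟩, ⟨0, 0⟩, ⟨0, 0⟩, ⟨0, 0⟩, ⟨-4, 0⟩, ⟨0, 0⟩, ⟨0, 0⟩, ⟨0, 0⟩, ⟨0, 0⟩],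
    ![⟨0, 0⟩, ⟨0, 0⟩, ⟨0, 0⟩, ⟨0, 0⟩, ⟨0, 0⟩, ⟨0, 0⟩, ⟨0, 0⟩, ⟨0, 0⟩, ⟨0, 0⟩, ⟨0, 0⟩, ⟨0, 0⟩, ⟨0, 0⟩, ⟨0, 0⟩, ⟨0, 0⟩, ⟨0, 0⟩, ⟨0, 0⟩, ⟨0, 0⟩, ⟨0, 0⟩, ⟨0, 0⟩, ⟨0, 0⟩, ⟨0, 0⟩, ⟨0, 0⟩, ⟨0, 0⟩, ⟨0, 0⟩, ⟨0, 0⟩, ⟨0, 0⟩, ⟨0, 0⟩, ⟨-4, 0⟩],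
    ![⟨0, 0⟩, ⟨0, 0⟩, ⟨0, 0⟩, ⟨0, 0⟩, ⟨0, 0⟩, ⟨0, 0⟩, ⟨0, 0⟩, ⟨0, 0⟩, ⟨0, 0⟩, ⟨0, 0⟩, ⟨0, 0⟩, ⟨0, 0⟩, ⟨0, 0⟩, ⟨0, 0⟩, ⟨0, 0⟩, ⟨0, 0⟩, ⟨0, 0⟩, ⟨0, 0⟩, ⟨0, 0⟩, ⟨0, 0⟩, ⟨0, 0⟩, ⟨0, 0⟩, ⟨0, 0⟩, ⟨0, 0⟩, ⟨0, 0⟩, ⟨0, 0⟩, ⟨0, 4⟩, ⟨0, 0⟩],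
    ![⟨0, 0⟩, ⟨0, 0⟩, ⟨0, 0⟩, ⟨0, 0⟩, ⟨0, 0⟩, ⟨0, 0⟩, ⟨0, 0⟩, ⟨0, 0⟩, ⟨0, 0⟩, ⟨0, 0⟩, ⟨0, 0⟩, ⟨0, 0⟩, ⟨0, 0⟩, ⟨0, 0⟩, ⟨0, 0⟩, ⟨0, 0⟩, ⟨0, 0⟩, ⟨0, 0⟩, ⟨0, 0⟩, ⟨0, 0⟩, ⟨0, 0⟩, ⟨0, 0⟩, ⟨0, 0⟩, ⟨0, 0⟩, ⟨0, 0⟩, ⟨0, -4⟩, ⟨0, 0⟩, ⟨0, 0⟩],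
    ![⟨0, 0⟩, ⟨0, 0⟩, ⟨0, 0⟩, ⟨0, 0⟩, ⟨0, 0⟩, ⟨0, 0⟩, ⟨0, 0⟩, ⟨0, 0⟩, ⟨0, 0⟩, ⟨0, 0⟩, ⟨0, 0⟩, ⟨0, 0⟩, ⟨0, 0⟩, ⟨0, 0⟩, ⟨0, 0⟩, ⟨0, 0⟩, ⟨0, 0⟩, ⟨0, 0⟩, ⟨0, 0⟩, ⟨0, 0⟩, ⟨0, 0⟩, ⟨0, 0⟩, ⟨0, 0⟩, ⟨0, 0⟩, ⟨-4, 0⟩, ⟨0, 0⟩, ⟨0, 0⟩, ⟨0, 0⟩]]]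

/-- the images of the 19 basis vectors -/
def gC : Fin 5 → Fin 19 → RuVec := ![
  ![
    ruOfArray ![![⟨0, -1⟩, ⟨1, 0⟩, ⟨-1, 0⟩, ⟨0, -1⟩], ![⟨0, 0⟩, ⟨0, -1⟩, ⟨1, 0⟩, ⟨0, 0⟩], ![⟨0, 0⟩, ⟨0, 0⟩, ⟨-1, 0⟩, ⟨0, -1⟩], ![⟨0, 0⟩, ⟨0, 0⟩, ⟨0, 1⟩, ⟨0, -1⟩], ![⟨-1, 0⟩, ⟨0, 0⟩, ⟨-1, 0⟩, ⟨0, 0⟩], ![⟨0, -1⟩, ⟨0, 0⟩, ⟨0, 0⟩, ⟨1, 0⟩], ![⟨0, 1⟩, ⟨0, 0⟩, ⟨1, 0⟩, ⟨0, 0⟩]],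
    ruOfArray ![![⟨0, 0⟩, ⟨0, 0⟩, ⟨0, -1⟩, ⟨-1, 0⟩], ![⟨0, 0⟩, ⟨0, 0⟩, ⟨0, 1⟩, ⟨0, 1⟩], ![⟨0, 1⟩, ⟨0, 0⟩, ⟨0, -1⟩, ⟨0, 0⟩], ![⟨0, 0⟩, ⟨1, 0⟩, ⟨1, 0⟩, ⟨0, 0⟩], ![⟨0, 0⟩, ⟨0, -1⟩, ⟨0, 0⟩, ⟨0, -1⟩], ![⟨-1, 0⟩, ⟨1, 0⟩, ⟨0, 1⟩, ⟨0, 1⟩], ![⟨0, 0⟩, ⟨-1, 0⟩, ⟨0, -1⟩, ⟨0, 0⟩]],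
    ruOfArray ![![⟨1, 1⟩, ⟨2, 0⟩, ⟨1, 0⟩, ⟨0, 1⟩], ![⟨-1, 0⟩, ⟨0, 2⟩, ⟨-1, 0⟩, ⟨0, 0⟩], ![⟨0, 1⟩, ⟨0, 0⟩, ⟨1, 1⟩, ⟨0, 1⟩], ![⟨0, -1⟩, ⟨0, 0⟩, ⟨0, -1⟩, ⟨-1, 1⟩], ![⟨1, -1⟩, ⟨0, 0⟩, ⟨0, 0⟩, ⟨0, 0⟩], ![⟨0, 0⟩, ⟨-1, 0⟩, ⟨0, 1⟩, ⟨2, 0⟩], ![⟨0, -1⟩, ⟨0, -1⟩, ⟨0, 0⟩, ⟨0, 0⟩]],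
    ruOfArray ![![⟨-1, 0⟩, ⟨2, 0⟩, ⟨0, -1⟩, ⟨0, 0⟩], ![⟨1, -1⟩, ⟨0, 0⟩, ⟨0, 0⟩, ⟨0, 0⟩], ![⟨1, -1⟩, ⟨0, -1⟩, ⟨0, -1⟩, ⟨0, 0⟩], ![⟨1, 1⟩, ⟨0, 0⟩, ⟨1, 0⟩, ⟨1, 0⟩], ![⟨0, 1⟩, ⟨1, 0⟩, ⟨2, 0⟩, ⟨0, 0⟩], ![⟨0, 1⟩, ⟨1, -1⟩, ⟨0, -1⟩, ⟨1, 1⟩], ![⟨1, 0⟩, ⟨-1, 1⟩, ⟨0, 0⟩, ⟨-1, 0⟩]],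
    ruOfArray ![![⟨0, 1⟩, ⟨0, 0⟩, ⟨-2, 1⟩, ⟨1, 1⟩], ![⟨-1, 1⟩, ⟨0, 2⟩, ⟨0, 0⟩, ⟨0, 0⟩], ![⟨-1, 1⟩, ⟨0, 1⟩, ⟨0, 1⟩, ⟨0, 0⟩], ![⟨-1, -2⟩, ⟨-1, 0⟩, ⟨-1, -1⟩, ⟨-1, 1⟩], ![⟨0, -1⟩, ⟨-1, 0⟩, ⟨0, 0⟩, ⟨0, 0⟩], ![⟨0, 0⟩, ⟨0, 1⟩, ⟨-1, 1⟩, ⟨2, -1⟩], ![⟨-2, -1⟩, ⟨1, -1⟩, ⟨-1, -1⟩, ⟨1, 0⟩]],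
    ruOfArray ![![⟨0, 2⟩, ⟨0, 0⟩, ⟨0, 0⟩, ⟨2, -2⟩], ![⟨1, 1⟩, ⟨0, 0⟩, ⟨1, -1⟩, ⟨0, 0⟩], ![⟨0, -1⟩, ⟨0, -1⟩, ⟨-1, 0⟩, ⟨0, -1⟩], ![⟨1, -2⟩, ⟨1, 0⟩, ⟨0, 1⟩, ⟨1, 2⟩], ![⟨0, 1⟩, ⟨-1, 0⟩, ⟨1, 0⟩, ⟨1, 0⟩], ![⟨-1, -1⟩, ⟨0, 0⟩, ⟨1, -1⟩, ⟨2, 0⟩], ![⟨1, 2⟩, ⟨0, 1⟩, ⟨2, 1⟩, ⟨0, -1⟩]],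
    ruOfArray ![![⟨-1, 0⟩, ⟨1, 0⟩, ⟨0, -1⟩, ⟨1, 0⟩], ![⟨1, 1⟩, ⟨-1, -1⟩, ⟨0, 0⟩, ⟨0, 0⟩], ![⟨0, -1⟩, ⟨1, 0⟩, ⟨0, -1⟩, ⟨0, -1⟩], ![⟨0, 0⟩, ⟨0, 0⟩, ⟨0, 0⟩, ⟨-2, 0⟩], ![⟨0, 0⟩, ⟨0, 0⟩, ⟨2, 0⟩, ⟨0, 0⟩], ![⟨1, 1⟩, ⟨2, 0⟩, ⟨1, -1⟩, ⟨2, 0⟩], ![⟨0, 0⟩, ⟨0, -2⟩, ⟨2, 0⟩, ⟨0, 0⟩]],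
    ruOfArray ![![⟨2, -1⟩, ⟨1, 0⟩, ⟨-2, -1⟩, ⟨2, -1⟩], ![⟨-1, -1⟩, ⟨1, 1⟩, ⟨0, 0⟩, ⟨0, 0⟩], ![⟨1, -1⟩, ⟨-1, -1⟩, ⟨0, 2⟩, ⟨0, 0⟩], ![⟨2, -1⟩, ⟨1, 0⟩, ⟨0, 1⟩, ⟨-2, -1⟩], ![⟨0, 2⟩, ⟨1, -1⟩, ⟨1, -1⟩, ⟨0, 0⟩], ![⟨-1, 1⟩, ⟨1, -1⟩, ⟨1, -1⟩, ⟨-1, 1⟩], ![⟨-2, 0⟩, ⟨-1, -1⟩, ⟨1, 1⟩, ⟨0, 0⟩]],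
    ruOfArray ![![⟨2, -1⟩, ⟨0, -1⟩, ⟨1, 2⟩, ⟨0, -1⟩], ![⟨1, -1⟩, ⟨0, 2⟩, ⟨-1, 1⟩, ⟨0, 0⟩], ![⟨-1, -1⟩, ⟨0, -2⟩, ⟨-2, 2⟩, ⟨-1, -1⟩], ![⟨1, 1⟩, ⟨-1, 1⟩, ⟨0, 2⟩, ⟨0, 0⟩], ![⟨0, 2⟩, ⟨0, 0⟩, ⟨0, 0⟩, ⟨2, 0⟩], ![⟨0, 0⟩, ⟨1, 1⟩, ⟨-2, 2⟩, ⟨1, -1⟩], ![⟨-2, 1⟩, ⟨1, 0⟩, ⟨-1, 0⟩, ⟨1, 0⟩]],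
    ruOfArray ![![⟨2, -2⟩, ⟨-2, 0⟩, ⟨-1, 1⟩, ⟨-1, -1⟩], ![⟨-1, -1⟩, ⟨-1, -1⟩, ⟨0, 0⟩, ⟨0, 0⟩], ![⟨-2, 0⟩, ⟨-1, 1⟩, ⟨-2, 2⟩, ⟨-1, -1⟩], ![⟨2, -2⟩, ⟨-1, 1⟩, ⟨1, 1⟩, ⟨2, 2⟩], ![⟨2, 0⟩, ⟨-1, -1⟩, ⟨0, -2⟩, ⟨1, -1⟩], ![⟨1, -1⟩, ⟨-1, -1⟩, ⟨-1, -1⟩, ⟨1, -3⟩], ![⟨1, -1⟩, ⟨-2, -2⟩, ⟨0, 0⟩, ⟨1, 1⟩]],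
    ruOfArray ![![⟨0, 0⟩, ⟨-2, -4⟩, ⟨0, 4⟩, ⟨0, 2⟩], ![⟨-4, 2⟩, ⟨2, -4⟩, ⟨0, 2⟩, ⟨0, -2⟩], ![⟨2, 0⟩, ⟨0, 0⟩, ⟨-2, -2⟩, ⟨4, -2⟩], ![⟨-2, 2⟩, ⟨2, -4⟩, ⟨4, 4⟩, ⟨2, 0⟩], ![⟨-2, -2⟩, ⟨-2, 2⟩, ⟨4, 2⟩, ⟨2, 0⟩], ![⟨4, -2⟩, ⟨2, 2⟩, ⟨4, 0⟩, ⟨-4, 2⟩], ![⟨-2, 2⟩, ⟨-2, -4⟩, ⟨2, 0⟩, ⟨0, 0⟩]],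
    ruOfArray ![![⟨4, -2⟩, ⟨-2, -4⟩, ⟨0, 2⟩, ⟨2, -4⟩], ![⟨-2, 0⟩, ⟨0, -4⟩, ⟨4, 0⟩, ⟨2, 0⟩], ![⟨2, 0⟩, ⟨2, -2⟩, ⟨0, 2⟩, ⟨4, 0⟩], ![⟨-4, 2⟩, ⟨0, 2⟩, ⟨4, -2⟩, ⟨0, 2⟩], ![⟨0, 0⟩, ⟨0, 2⟩, ⟨4, 2⟩, ⟨0, 0⟩], ![⟨2, 0⟩, ⟨0, 2⟩, ⟨-2, 4⟩, ⟨-4, -2⟩], ![⟨-2, 0⟩, ⟨-2, -4⟩, ⟨4, 2⟩, ⟨4, 2⟩]],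
    ruOfArray ![![⟨4, -4⟩, ⟨4, -4⟩, ⟨2, 4⟩, ⟨-2, -4⟩], ![⟨-2, -4⟩, ⟨4, 0⟩, ⟨2, 0⟩, ⟨0, 0⟩], ![⟨-4, -4⟩, ⟨2, 2⟩, ⟨-2, -2⟩, ⟨0, 4⟩], ![⟨0, 0⟩, ⟨-4, -4⟩, ⟨-2, 0⟩, ⟨-2, 0⟩], ![⟨2, 0⟩, ⟨4, -4⟩, ⟨2, -4⟩, ⟨2, -2⟩], ![⟨0, 0⟩, ⟨-4, -4⟩, ⟨-2, -2⟩, ⟨-2, -2⟩], ![⟨2, 4⟩, ⟨0, 0⟩, ⟨4, -4⟩, ⟨2, -4⟩]],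
    ruOfArray ![![⟨0, 0⟩, ⟨0, -2⟩, ⟨0, 4⟩, ⟨-4, -2⟩], ![⟨-2, 2⟩, ⟨4, 0⟩, ⟨0, 0⟩, ⟨-2, -2⟩], ![⟨-2, 0⟩, ⟨-2, 0⟩, ⟨-2, 4⟩, ⟨-2, 0⟩], ![⟨2, 2⟩, ⟨2, -2⟩, ⟨4, 2⟩, ⟨4, 2⟩], ![⟨0, 0⟩, ⟨0, -2⟩, ⟨-2, -2⟩, ⟨2, -4⟩], ![⟨4, 4⟩, ⟨-4, 2⟩, ⟨-2, 4⟩, ⟨0, 0⟩], ![⟨0, 4⟩, ⟨0, 0⟩, ⟨2, -2⟩, ⟨4, 0⟩]],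
    ruOfArray ![![⟨4, 0⟩, ⟨0, 2⟩, ⟨4, -2⟩, ⟨2, -2⟩], ![⟨-4, 0⟩, ⟨2, -2⟩, ⟨-2, 2⟩, ⟨0, 0⟩], ![⟨2, -4⟩, ⟨-2, -2⟩, ⟨0, 0⟩, ⟨0, 2⟩], ![⟨0, -4⟩, ⟨0, -4⟩, ⟨4, 4⟩, ⟨2, -2⟩], ![⟨4, -4⟩, ⟨-2, -2⟩, ⟨-2, 0⟩, ⟨-2, 0⟩], ![⟨2, 2⟩, ⟨0, -4⟩, ⟨0, 4⟩, ⟨-4, -4⟩], ![⟨4, 4⟩, ⟨-4, 2⟩, ⟨-2, -2⟩, ⟨2, 0⟩]],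
    ruOfArray ![![⟨2, -2⟩, ⟨4, 0⟩, ⟨4, 4⟩, ⟨0, 0⟩], ![⟨2, 2⟩, ⟨0, 0⟩, ⟨0, 4⟩, ⟨-2, -2⟩], ![⟨-2, -4⟩, ⟨-2, 0⟩, ⟨2, 2⟩, ⟨-2, 2⟩], ![⟨-4, -2⟩, ⟨2, 0⟩, ⟨4, -2⟩, ⟨0, 2⟩], ![⟨4, -4⟩, ⟨2, -2⟩, ⟨4, -4⟩, ⟨-2, -2⟩], ![⟨2, -2⟩, ⟨-4, -4⟩, ⟨2, 2⟩, ⟨0, -4⟩], ![⟨2, 0⟩, ⟨-4, 0⟩, ⟨0, 2⟩, ⟨4, -4⟩]],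
    ruOfArray ![![⟨0, 0⟩, ⟨0, -4⟩, ⟨-2, 0⟩, ⟨-2, -4⟩], ![⟨-4, -4⟩, ⟨4, 0⟩, ⟨-2, 2⟩, ⟨0, 0⟩], ![⟨-4, -4⟩, ⟨2, 2⟩, ⟨2, -2⟩, ⟨-2, -2⟩], ![⟨-4, 0⟩, ⟨-2, 2⟩, ⟨4, 2⟩, ⟨4, -2⟩], ![⟨0, -4⟩, ⟨4, -4⟩, ⟨-2, 2⟩, ⟨2, -2⟩], ![⟨0, 4⟩, ⟨2, 2⟩, ⟨-2, -2⟩, ⟨-4, -4⟩], ![⟨-2, -2⟩, ⟨2, -4⟩, ⟨4, -4⟩, ⟨2, -4⟩]],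
    ruOfArray ![![⟨4, 0⟩, ⟨0, 2⟩, ⟨-2, 0⟩, ⟨-4, -4⟩], ![⟨0, 0⟩, ⟨2, -2⟩, ⟨4, 0⟩, ⟨0, -4⟩], ![⟨-2, -2⟩, ⟨0, -4⟩, ⟨-2, 2⟩, ⟨0, 4⟩], ![⟨-4, -4⟩, ⟨-2, 2⟩, ⟨0, 0⟩, ⟨4, 0⟩], ![⟨4, -4⟩, ⟨-2, -2⟩, ⟨4, 0⟩, ⟨0, -4⟩], ![⟨4, 0⟩, ⟨-4, 0⟩, ⟨0, 4⟩, ⟨-2, -2⟩], ![⟨2, -2⟩, ⟨-4, -2⟩, ⟨2, 2⟩, ⟨4, -2⟩]],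
    ruOfArray ![![⟨2, 2⟩, ⟨2, -6⟩, ⟨2, -2⟩, ⟨-4, 4⟩], ![⟨-2, 6⟩, ⟨0, 0⟩, ⟨8, 0⟩, ⟨0, -4⟩], ![⟨-2, 6⟩, ⟨-2, 2⟩, ⟨6, 2⟩, ⟨0, 0⟩], ![⟨-2, 6⟩, ⟨-2, -6⟩, ⟨4, 0⟩, ⟨2, -6⟩], ![⟨-2, -6⟩, ⟨-6, -2⟩, ⟨-2, -2⟩, ⟨0, 0⟩], ![⟨4, 4⟩, ⟨-8, 0⟩, ⟨0, 0⟩, ⟨-2, -6⟩], ![⟨-2, -2⟩, ⟨-2, 6⟩, ⟨-6, -2⟩, ⟨0, 0⟩]]],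
  ![
    ruOfArray ![![⟨0, -1⟩, ⟨-1, 0⟩, ⟨0, 1⟩, ⟨0, 1⟩], ![⟨0, -1⟩, ⟨0, -1⟩, ⟨0, 1⟩, ⟨1, 0⟩], ![⟨1, 0⟩, ⟨0, -1⟩, ⟨0, 1⟩, ⟨0, -1⟩], ![⟨0, 0⟩, ⟨0, 0⟩, ⟨0, 0⟩, ⟨0, 0⟩], ![⟨0, 0⟩, ⟨0, 0⟩, ⟨0, 0⟩, ⟨0, 0⟩], ![⟨0, 1⟩, ⟨0, 1⟩, ⟨1, 0⟩, ⟨0, 1⟩], ![⟨0, 0⟩, ⟨0, 0⟩, ⟨0, 0⟩, ⟨0, 0⟩]],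
    ruOfArray ![![⟨0, 0⟩, ⟨1, 0⟩, ⟨0, 1⟩, ⟨0, 0⟩], ![⟨0, 0⟩, ⟨0, 0⟩, ⟨-1, 0⟩, ⟨0, -1⟩], ![⟨0, 0⟩, ⟨0, 0⟩, ⟨0, -1⟩, ⟨0, -1⟩], ![⟨0, 0⟩, ⟨0, -1⟩, ⟨0, 0⟩, ⟨1, 0⟩], ![⟨0, 1⟩, ⟨0, 0⟩, ⟨0, 0⟩, ⟨-1, 0⟩], ![⟨0, 0⟩, ⟨1, 0⟩, ⟨0, 0⟩, ⟨-1, 0⟩], ![⟨0, -1⟩, ⟨0, 1⟩, ⟨1, 0⟩, ⟨1, 0⟩]],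
    ruOfArray ![![⟨1, 1⟩, ⟨1, 0⟩, ⟨-1, -1⟩, ⟨0, -1⟩], ![⟨-1, 2⟩, ⟨0, 0⟩, ⟨1, -1⟩, ⟨1, 0⟩], ![⟨0, 0⟩, ⟨0, 1⟩, ⟨0, 0⟩, ⟨0, 1⟩], ![⟨2, 0⟩, ⟨0, 0⟩, ⟨0, 0⟩, ⟨-1, 1⟩], ![⟨1, 0⟩, ⟨0, 0⟩, ⟨-1, 1⟩, ⟨0, 1⟩], ![⟨0, -1⟩, ⟨1, 0⟩, ⟨0, 0⟩, ⟨-1, 1⟩], ![⟨0, -1⟩, ⟨1, 0⟩, ⟨0, 0⟩, ⟨0, 0⟩]],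
    ruOfArray ![![⟨-1, 0⟩, ⟨1, -1⟩, ⟨0, 0⟩, ⟨0, -1⟩], ![⟨-1, 0⟩, ⟨-1, 0⟩, ⟨-1, -1⟩, ⟨-1, 1⟩], ![⟨1, 0⟩, ⟨0, -1⟩, ⟨0, 0⟩, ⟨-2, 0⟩], ![⟨0, 0⟩, ⟨-1, 0⟩, ⟨1, 1⟩, ⟨1, 0⟩], ![⟨0, 2⟩, ⟨1, 0⟩, ⟨1, 0⟩, ⟨0, 0⟩], ![⟨0, 1⟩, ⟨-1, 1⟩, ⟨0, 1⟩, ⟨0, 0⟩], ![⟨0, 0⟩, ⟨0, 0⟩, ⟨0, 0⟩, ⟨1, -1⟩]],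
    ruOfArray ![![⟨0, 1⟩, ⟨0, 0⟩, ⟨0, 0⟩, ⟨-1, 0⟩], ![⟨1, 2⟩, ⟨1, 1⟩, ⟨2, 1⟩, ⟨1, -1⟩], ![⟨0, 0⟩, ⟨1, 1⟩, ⟨0, 0⟩, ⟨0, 0⟩], ![⟨2, 0⟩, ⟨0, 1⟩, ⟨1, -2⟩, ⟨-2, 0⟩], ![⟨0, -1⟩, ⟨-1, 0⟩, ⟨-1, 1⟩, ⟨0, 0⟩], ![⟨0, -1⟩, ⟨2, -1⟩, ⟨0, 0⟩, ⟨-1, 1⟩], ![⟨-1, 1⟩, ⟨1, 0⟩, ⟨0, 0⟩, ⟨-1, 0⟩]],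
    ruOfArray ![![⟨0, 2⟩, ⟨-1, 0⟩, ⟨1, 1⟩, ⟨1, 2⟩], ![⟨0, 1⟩, ⟨-1, -1⟩, ⟨-1, -1⟩, ⟨1, 0⟩], ![⟨0, 1⟩, ⟨0, -2⟩, ⟨1, 2⟩, ⟨0, 0⟩], ![⟨0, 0⟩, ⟨-1, 1⟩, ⟨0, 0⟩, ⟨0, 0⟩], ![⟨-1, 0⟩, ⟨2, 0⟩, ⟨0, 0⟩, ⟨1, 0⟩], ![⟨0, 1⟩, ⟨-1, 0⟩, ⟨1, -1⟩, ⟨-2, 0⟩], ![⟨0, 2⟩, ⟨1, -1⟩, ⟨-1, 0⟩, ⟨2, -1⟩]],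
    ruOfArray ![![⟨-1, 0⟩, ⟨0, -1⟩, ⟨-1, 1⟩, ⟨0, 0⟩], ![⟨0, 1⟩, ⟨0, -1⟩, ⟨0, 0⟩, ⟨-1, -1⟩], ![⟨1, 1⟩, ⟨0, 1⟩, ⟨1, 1⟩, ⟨-1, 0⟩], ![⟨0, 0⟩, ⟨-1, 0⟩, ⟨1, 0⟩, ⟨-2, 0⟩], ![⟨-1, 0⟩, ⟨1, 1⟩, ⟨1, 2⟩, ⟨0, 0⟩], ![⟨0, 1⟩, ⟨-1, 2⟩, ⟨1, 0⟩, ⟨0, -1⟩], ![⟨0, 0⟩, ⟨0, 1⟩, ⟨0, -1⟩, ⟨1, -1⟩]],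
    ruOfArray ![![⟨2, -1⟩, ⟨-2, -2⟩, ⟨1, 0⟩, ⟨-1, -1⟩], ![⟨-1, 0⟩, ⟨0, 0⟩, ⟨0, 0⟩, ⟨0, 1⟩], ![⟨1, 0⟩, ⟨0, 0⟩, ⟨1, 0⟩, ⟨-1, 1⟩], ![⟨0, 0⟩, ⟨2, 0⟩, ⟨0, 0⟩, ⟨-1, -1⟩], ![⟨0, 1⟩, ⟨1, 1⟩, ⟨0, 0⟩, ⟨3, 0⟩], ![⟨-1, 2⟩, ⟨1, 0⟩, ⟨1, 1⟩, ⟨-1, -1⟩], ![⟨-1, 0⟩, ⟨0, 1⟩, ⟨1, 1⟩, ⟨3, 1⟩]],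
    ruOfArray ![![⟨2, -1⟩, ⟨1, 0⟩, ⟨0, -1⟩, ⟨0, 3⟩], ![⟨-1, -1⟩, ⟨1, 1⟩, ⟨2, 0⟩, ⟨0, 0⟩], ![⟨1, 0⟩, ⟨0, -1⟩, ⟨2, 1⟩, ⟨0, 1⟩], ![⟨1, 0⟩, ⟨0, 1⟩, ⟨1, -2⟩, ⟨1, 0⟩], ![⟨0, 1⟩, ⟨0, 1⟩, ⟨2, -1⟩, ⟨1, 0⟩], ![⟨1, -1⟩, ⟨2, 0⟩, ⟨1, 1⟩, ⟨0, 0⟩], ![⟨2, 2⟩, ⟨0, 0⟩, ⟨0, 2⟩, ⟨0, 2⟩]],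
    ruOfArray ![![⟨2, -2⟩, ⟨-1, 1⟩, ⟨0, 0⟩, ⟨3, 1⟩], ![⟨2, 0⟩, ⟨-1, 1⟩, ⟨0, 0⟩, ⟨1, 1⟩], ![⟨0, -1⟩, ⟨1, 0⟩, ⟨0, -1⟩, ⟨0, 1⟩], ![⟨0, 1⟩, ⟨2, 1⟩, ⟨2, -3⟩, ⟨-1, 0⟩], ![⟨1, 0⟩, ⟨0, -3⟩, ⟨1, -2⟩, ⟨1, 0⟩], ![⟨1, -1⟩, ⟨1, 1⟩, ⟨3, -3⟩, ⟨-1, -1⟩], ![⟨1, 0⟩, ⟨1, 0⟩, ⟨-1, 0⟩, ⟨0, -1⟩]],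
    ruOfArray ![![⟨0, 0⟩, ⟨-2, 0⟩, ⟨-6, 2⟩, ⟨1, -1⟩], ![⟨4, -3⟩, ⟨-2, 0⟩, ⟨1, 1⟩, ⟨1, -4⟩], ![⟨2, -2⟩, ⟨2, 2⟩, ⟨-3, 2⟩, ⟨0, 1⟩], ![⟨-3, 0⟩, ⟨0, -1⟩, ⟨-2, 0⟩, ⟨4, -2⟩], ![⟨-4, -5⟩, ⟨0, 0⟩, ⟨5, 2⟩, ⟨-1, -1⟩], ![⟨3, 2⟩, ⟨-4, -4⟩, ⟨2, 2⟩, ⟨0, -1⟩], ![⟨1, -1⟩, ⟨1, 0⟩, ⟨2, -2⟩, ⟨4, 3⟩]],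
    ruOfArray ![![⟨4, -2⟩, ⟨-1, -3⟩, ⟨-5, 1⟩, ⟨-1, 1⟩], ![⟨4, -2⟩, ⟨-4, 1⟩, ⟨1, -4⟩, ⟨-2, -4⟩], ![⟨2, 0⟩, ⟨-2, 0⟩, ⟨-2, -1⟩, ⟨-1, 2⟩], ![⟨-4, 2⟩, ⟨1, -1⟩, ⟨-1, -2⟩, ⟨-2, 1⟩], ![⟨-1, -5⟩, ⟨0, 3⟩, ⟨1, -1⟩, ⟨-1, -4⟩], ![⟨2, 0⟩, ⟨1, 0⟩, ⟨2, -3⟩, ⟨1, 3⟩], ![⟨0, 2⟩, ⟨-2, -1⟩, ⟨-1, -1⟩, ⟨3, 6⟩]],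
    ruOfArray ![![⟨4, -4⟩, ⟨-1, 1⟩, ⟨0, 0⟩, ⟨-4, 0⟩], ![⟨2, 0⟩, ⟨1, -2⟩, ⟨2, -3⟩, ⟨2, 2⟩], ![⟨2, -2⟩, ⟨-1, -1⟩, ⟨4, -3⟩, ⟨2, 1⟩], ![⟨2, 3⟩, ⟨4, 1⟩, ⟨-5, -1⟩, ⟨2, 0⟩], ![⟨7, -1⟩, ⟨7, -4⟩, ⟨2, 0⟩, ⟨-1, -2⟩], ![⟨8, 3⟩, ⟨0, 4⟩, ⟨0, 2⟩, ⟨3, 0⟩], ![⟨0, 2⟩, ⟨-1, 0⟩, ⟨-2, 0⟩, ⟨1, -4⟩]],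
    ruOfArray ![![⟨0, 0⟩, ⟨-3, 3⟩, ⟨-2, -1⟩, ⟨4, 5⟩], ![⟨0, -3⟩, ⟨4, 1⟩, ⟨0, -2⟩, ⟨3, -1⟩], ![⟨2, -1⟩, ⟨-3, -1⟩, ⟨-2, -3⟩, ⟨1, 3⟩], ![⟨4, 2⟩, ⟨2, -1⟩, ⟨2, -3⟩, ⟨4, 0⟩], ![⟨1, -2⟩, ⟨2, 0⟩, ⟨3, -2⟩, ⟨1, -3⟩], ![⟨6, -1⟩, ⟨0, -3⟩, ⟨1, 0⟩, ⟨-1, 4⟩], ![⟨0, -2⟩, ⟨-1, 0⟩, ⟨1, 2⟩, ⟨1, -1⟩]],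
    ruOfArray ![![⟨4, 0⟩, ⟨-1, -4⟩, ⟨-4, -4⟩, ⟨2, 1⟩], ![⟨-2, -3⟩, ⟨3, -1⟩, ⟨-3, -1⟩, ⟨3, -2⟩], ![⟨-2, 0⟩, ⟨0, 3⟩, ⟨1, -3⟩, ⟨-1, 0⟩], ![⟨-5, -2⟩, ⟨1, -2⟩, ⟨-6, -3⟩, ⟨4, 1⟩], ![⟨1, 2⟩, ⟨1, -5⟩, ⟨0, -4⟩, ⟨4, -3⟩], ![⟨2, -1⟩, ⟨-1, 0⟩, ⟨-1, -1⟩, ⟨0, 2⟩], ![⟨0, -2⟩, ⟨5, -1⟩, ⟨-1, -2⟩, ⟨2, -3⟩]],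
    ruOfArray ![![⟨2, -2⟩, ⟨0, 1⟩, ⟨-5, 1⟩, ⟨3, -2⟩], ![⟨-2, 0⟩, ⟨3, -1⟩, ⟨-2, -6⟩, ⟨0, -2⟩], ![⟨3, -2⟩, ⟨2, 0⟩, ⟨1, -3⟩, ⟨2, 7⟩], ![⟨0, 1⟩, ⟨2, 1⟩, ⟨-4, -4⟩, ⟨-2, 2⟩], ![⟨5, 2⟩, ⟨0, 1⟩, ⟨0, 0⟩, ⟨-2, 0⟩], ![⟨3, 0⟩, ⟨-1, 1⟩, ⟨-2, -3⟩, ⟨0, 0⟩], ![⟨0, 0⟩, ⟨5, -6⟩, ⟨-1, -2⟩, ⟨2, -4⟩]],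
    ruOfArray ![![⟨0, 0⟩, ⟨2, 1⟩, ⟨-5, 1⟩, ⟨0, 1⟩], ![⟨6, -1⟩, ⟨-1, 3⟩, ⟨-1, 1⟩, ⟨3, 0⟩], ![⟨4, 0⟩, ⟨0, 1⟩, ⟨5, -3⟩, ⟨-1, -2⟩], ![⟨-2, 0⟩, ⟨5, -3⟩, ⟨-1, -5⟩, ⟨1, -1⟩], ![⟨1, -2⟩, ⟨3, -1⟩, ⟨0, 4⟩, ⟨2, -7⟩], ![⟨3, 1⟩, ⟨3, 1⟩, ⟨-1, 2⟩, ⟨4, -1⟩], ![⟨1, -3⟩, ⟨-5, -3⟩, ⟨2, 5⟩, ⟨-2, -3⟩]],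
    ruOfArray ![![⟨4, 0⟩, ⟨-2, -2⟩, ⟨-3, -2⟩, ⟨5, 0⟩], ![⟨3, -3⟩, ⟨1, 0⟩, ⟨-4, -4⟩, ⟨3, 0⟩], ![⟨5, 4⟩, ⟨2, 0⟩, ⟨-2, -6⟩, ⟨0, 3⟩], ![⟨2, 4⟩, ⟨0, 1⟩, ⟨-3, -3⟩, ⟨-1, -2⟩], ![⟨3, -3⟩, ⟨0, -4⟩, ⟨0, 0⟩, ⟨-2, -4⟩], ![⟨0, -1⟩, ⟨2, 2⟩, ⟨-1, -5⟩, ⟨1, 2⟩], ![⟨1, 3⟩, ⟨1, -3⟩, ⟨-1, -2⟩, ⟨2, 1⟩]],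
    ruOfArray ![![⟨2, 2⟩, ⟨-2, -6⟩, ⟨0, 1⟩, ⟨2, -5⟩], ![⟨1, -1⟩, ⟨3, -2⟩, ⟨-1, 3⟩, ⟨2, -3⟩], ![⟨-3, -8⟩, ⟨-2, 0⟩, ⟨-5, -5⟩, ⟨3, 0⟩], ![⟨6, 4⟩, ⟨-3, -4⟩, ⟨-2, 2⟩, ⟨5, 2⟩], ![⟨3, -5⟩, ⟨-9, 3⟩, ⟨5, -1⟩, ⟨2, -2⟩], ![⟨3, -5⟩, ⟨0, -3⟩, ⟨0, -1⟩, ⟨6, 4⟩], ![⟨-2, -3⟩, ⟨1, -6⟩, ⟨1, -1⟩, ⟨-6, -6⟩]]],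
  ![
    ruOfArray ![![⟨0, -1⟩, ⟨1, 0⟩, ⟨1, 0⟩, ⟨0, 1⟩], ![⟨1, 0⟩, ⟨0, 0⟩, ⟨0, 0⟩, ⟨1, 0⟩], ![⟨-1, 0⟩, ⟨1, 0⟩, ⟨0, 0⟩, ⟨0, 0⟩], ![⟨1, 0⟩, ⟨0, -1⟩, ⟨0, 0⟩, ⟨0, 0⟩], ![⟨-1, 0⟩, ⟨0, 0⟩, ⟨-1, 0⟩, ⟨0, 0⟩], ![⟨0, -1⟩, ⟨0, 0⟩, ⟨0, 0⟩, ⟨1, 0⟩], ![⟨0, 0⟩, ⟨0, -1⟩, ⟨0, 0⟩, ⟨0, -1⟩]],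
    ruOfArray ![![⟨0, 0⟩, ⟨0, 0⟩, ⟨0, -1⟩, ⟨-1, 0⟩], ![⟨0, 0⟩, ⟨0, 0⟩, ⟨0, -1⟩, ⟨0, -1⟩], ![⟨0, 1⟩, ⟨0, 0⟩, ⟨0, -1⟩, ⟨0, 0⟩], ![⟨0, 0⟩, ⟨1, 0⟩, ⟨1, 0⟩, ⟨0, 0⟩], ![⟨0, 0⟩, ⟨0, -1⟩, ⟨0, 0⟩, ⟨0, -1⟩], ![⟨1, 0⟩, ⟨-1, 0⟩, ⟨0, -1⟩, ⟨0, -1⟩], ![⟨0, 0⟩, ⟨1, 0⟩, ⟨0, 1⟩, ⟨0, 0⟩]],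
    ruOfArray ![![⟨1, 1⟩, ⟨2, 0⟩, ⟨-1, 0⟩, ⟨0, -1⟩], ![⟨-1, 0⟩, ⟨0, 0⟩, ⟨1, 0⟩, ⟨0, 0⟩], ![⟨1, 0⟩, ⟨-1, -1⟩, ⟨0, 0⟩, ⟨-1, 0⟩], ![⟨-1, 0⟩, ⟨-1, 1⟩, ⟨1, 0⟩, ⟨0, 0⟩], ![⟨1, -1⟩, ⟨0, 0⟩, ⟨0, 0⟩, ⟨0, 0⟩], ![⟨0, -2⟩, ⟨-1, 0⟩, ⟨0, 1⟩, ⟨0, 0⟩], ![⟨0, -1⟩, ⟨0, 1⟩, ⟨0, 0⟩, ⟨0, 2⟩]],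
    ruOfArray ![![⟨-1, 0⟩, ⟨2, 0⟩, ⟨0, 0⟩, ⟨-1, 0⟩], ![⟨0, -1⟩, ⟨-1, 0⟩, ⟨-1, -1⟩, ⟨0, 0⟩], ![⟨0, 1⟩, ⟨0, 1⟩, ⟨0, 0⟩, ⟨1, -1⟩], ![⟨0, 0⟩, ⟨1, 0⟩, ⟨-1, -1⟩, ⟨-1, 0⟩], ![⟨0, 1⟩, ⟨0, 0⟩, ⟨2, 0⟩, ⟨1, 0⟩], ![⟨1, -1⟩, ⟨1, 0⟩, ⟨-1, -1⟩, ⟨-1, 0⟩], ![⟨1, 1⟩, ⟨0, 0⟩, ⟨0, 0⟩, ⟨0, 0⟩]],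
    ruOfArray ![![⟨0, 1⟩, ⟨0, 0⟩, ⟨-1, 1⟩, ⟨1, 2⟩], ![⟨-1, 2⟩, ⟨1, 0⟩, ⟨1, 1⟩, ⟨-1, -1⟩], ![⟨1, -1⟩, ⟨-1, -1⟩, ⟨0, 1⟩, ⟨-2, 1⟩], ![⟨0, 0⟩, ⟨-1, 0⟩, ⟨1, 1⟩, ⟨1, 0⟩], ![⟨0, -1⟩, ⟨0, 0⟩, ⟨0, 0⟩, ⟨-1, 0⟩], ![⟨-1, -2⟩, ⟨-1, -1⟩, ⟨1, 0⟩, ⟨0, 0⟩], ![⟨-1, -1⟩, ⟨0, 0⟩, ⟨0, 0⟩, ⟨0, 2⟩]],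
    ruOfArray ![![⟨0, 2⟩, ⟨0, 0⟩, ⟨2, 2⟩, ⟨0, 0⟩], ![⟨2, -1⟩, ⟨0, -1⟩, ⟨-1, 0⟩, ⟨2, 1⟩], ![⟨-1, 0⟩, ⟨-2, 1⟩, ⟨0, -1⟩, ⟨-2, -1⟩], ![⟨1, 0⟩, ⟨0, -1⟩, ⟨-1, 0⟩, ⟨-1, 0⟩], ![⟨0, 1⟩, ⟨1, 0⟩, ⟨1, 0⟩, ⟨-1, 0⟩], ![⟨0, -2⟩, ⟨1, 1⟩, ⟨0, 0⟩, ⟨1, -1⟩], ![⟨-1, 1⟩, ⟨-1, -1⟩, ⟨0, 0⟩, ⟨0, 0⟩]],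
    ruOfArray ![![⟨-1, 0⟩, ⟨1, 0⟩, ⟨0, 1⟩, ⟨-1, 0⟩], ![⟨0, 0⟩, ⟨0, 0⟩, ⟨2, 0⟩, ⟨2, 0⟩], ![⟨0, 0⟩, ⟨0, -2⟩, ⟨0, 0⟩, ⟨0, 0⟩], ![⟨1, 0⟩, ⟨1, 0⟩, ⟨-1, 0⟩, ⟨0, -1⟩], ![⟨0, 0⟩, ⟨0, 0⟩, ⟨2, 0⟩, ⟨0, 0⟩], ![⟨0, -2⟩, ⟨1, 1⟩, ⟨0, -2⟩, ⟨-1, 1⟩], ![⟨-1, 1⟩, ⟨0, 0⟩, ⟨0, 0⟩, ⟨-1, -1⟩]],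
    ruOfArray ![![⟨2, -1⟩, ⟨1, 0⟩, ⟨1, 2⟩, ⟨-1, 2⟩], ![⟨0, 2⟩, ⟨0, 0⟩, ⟨1, -1⟩, ⟨1, 1⟩], ![⟨-1, 0⟩, ⟨1, -2⟩, ⟨0, -1⟩, ⟨-1, -2⟩], ![⟨0, 0⟩, ⟨-2, 0⟩, ⟨-1, -1⟩, ⟨-1, 1⟩], ![⟨0, 2⟩, ⟨0, 0⟩, ⟨1, -1⟩, ⟨1, -1⟩], ![⟨1, 1⟩, ⟨1, 1⟩, ⟨-1, -1⟩, ⟨-1, -1⟩], ![⟨1, -1⟩, ⟨0, 0⟩, ⟨0, 0⟩, ⟨1, 1⟩]],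
    ruOfArray ![![⟨2, -1⟩, ⟨0, -1⟩, ⟨1, 0⟩, ⟨2, -1⟩], ![⟨1, 2⟩, ⟨1, 0⟩, ⟨0, 1⟩, ⟨-1, 0⟩], ![⟨-2, 0⟩, ⟨0, 0⟩, ⟨1, 1⟩, ⟨1, -1⟩], ![⟨1, -1⟩, ⟨-2, -2⟩, ⟨-1, 1⟩, ⟨-2, 0⟩], ![⟨0, 2⟩, ⟨2, 0⟩, ⟨0, 0⟩, ⟨0, 0⟩], ![⟨-1, -1⟩, ⟨-2, -2⟩, ⟨1, -1⟩, ⟨0, 0⟩], ![⟨1, 1⟩, ⟨1, 1⟩, ⟨0, 0⟩, ⟨0, 2⟩]],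
    ruOfArray ![![⟨2, -2⟩, ⟨-2, 0⟩, ⟨1, -1⟩, ⟨1, 1⟩], ![⟨-1, -1⟩, ⟨1, 1⟩, ⟨2, -2⟩, ⟨0, 0⟩], ![⟨-1, 1⟩, ⟨-2, 2⟩, ⟨1, 1⟩, ⟨-2, -2⟩], ![⟨1, -1⟩, ⟨-2, -2⟩, ⟨0, 2⟩, ⟨1, 1⟩], ![⟨2, 0⟩, ⟨1, -1⟩, ⟨0, -2⟩, ⟨-1, -1⟩], ![⟨-3, -1⟩, ⟨1, -1⟩, ⟨-1, 1⟩, ⟨1, 1⟩], ![⟨1, -1⟩, ⟨0, 0⟩, ⟨0, 0⟩, ⟨-1, -1⟩]],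
    ruOfArray ![![⟨0, 0⟩, ⟨-2, -4⟩, ⟨-2, 0⟩, ⟨4, 0⟩], ![⟨2, 2⟩, ⟨0, 0⟩, ⟨4, -2⟩, ⟨2, 0⟩], ![⟨-4, 4⟩, ⟨0, 2⟩, ⟨-4, -2⟩, ⟨2, 2⟩], ![⟨2, 4⟩, ⟨2, -2⟩, ⟨0, -2⟩, ⟨0, 0⟩], ![⟨-2, -2⟩, ⟨2, 0⟩, ⟨4, 2⟩, ⟨-2, 2⟩], ![⟨2, 4⟩, ⟨0, 4⟩, ⟨2, -2⟩, ⟨2, 4⟩], ![⟨-2, -4⟩, ⟨2, 0⟩, ⟨0, -2⟩, ⟨2, -4⟩]],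
    ruOfArray ![![⟨4, -2⟩, ⟨-2, -4⟩, ⟨4, 2⟩, ⟨2, 0⟩], ![⟨0, 2⟩, ⟨4, 2⟩, ⟨4, -2⟩, ⟨4, 2⟩], ![⟨2, 4⟩, ⟨-2, 0⟩, ⟨2, 0⟩, ⟨2, 4⟩], ![⟨0, 4⟩, ⟨-2, 0⟩, ⟨0, -2⟩, ⟨-2, -2⟩], ![⟨0, 0⟩, ⟨0, 0⟩, ⟨4, 2⟩, ⟨0, 2⟩], ![⟨-2, 4⟩, ⟨-4, -2⟩, ⟨2, 0⟩, ⟨0, 2⟩], ![⟨0, -2⟩, ⟨0, -4⟩, ⟨2, 0⟩, ⟨0, -4⟩]],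
    ruOfArray ![![⟨4, -4⟩, ⟨4, -4⟩, ⟨4, -2⟩, ⟨4, -2⟩], ![⟨4, -2⟩, ⟨2, -4⟩, ⟨0, 0⟩, ⟨4, -4⟩], ![⟨0, -2⟩, ⟨0, -2⟩, ⟨-4, 4⟩, ⟨0, 0⟩], ![⟨-4, 0⟩, ⟨2, -2⟩, ⟨-4, 4⟩, ⟨2, -2⟩], ![⟨2, 0⟩, ⟨2, -2⟩, ⟨2, -4⟩, ⟨4, -4⟩], ![⟨-2, 2⟩, ⟨2, -2⟩, ⟨-4, 4⟩, ⟨0, 0⟩], ![⟨4, -2⟩, ⟨0, -2⟩, ⟨0, 0⟩, ⟨4, 0⟩]],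
    ruOfArray ![![⟨0, 0⟩, ⟨0, -2⟩, ⟨2, -4⟩, ⟨4, 0⟩], ![⟨4, 0⟩, ⟨4, 0⟩, ⟨0, 0⟩, ⟨2, -2⟩], ![⟨-2, 4⟩, ⟨-2, 4⟩, ⟨-2, -2⟩, ⟨2, -2⟩], ![⟨0, -2⟩, ⟨-4, -2⟩, ⟨0, 2⟩, ⟨0, 2⟩], ![⟨0, 0⟩, ⟨2, -4⟩, ⟨-2, -2⟩, ⟨0, -2⟩], ![⟨0, 0⟩, ⟨-4, -2⟩, ⟨2, 4⟩, ⟨-4, 4⟩], ![⟨-2, -2⟩, ⟨0, 0⟩, ⟨-2, -2⟩, ⟨4, 0⟩]],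
    ruOfArray ![![⟨4, 0⟩, ⟨0, 2⟩, ⟨2, 2⟩, ⟨-2, -4⟩], ![⟨4, -4⟩, ⟨2, 0⟩, ⟨-2, -4⟩, ⟨-2, -2⟩], ![⟨-4, 4⟩, ⟨2, 2⟩, ⟨-4, 0⟩, ⟨-4, 0⟩], ![⟨-2, 0⟩, ⟨0, 0⟩, ⟨-4, -2⟩, ⟨-2, 2⟩], ![⟨4, -4⟩, ⟨-2, 0⟩, ⟨-2, 0⟩, ⟨-2, -2⟩], ![⟨-4, 4⟩, ⟨-4, 0⟩, ⟨-4, 0⟩, ⟨-2, 2⟩], ![⟨0, -4⟩, ⟨2, 2⟩, ⟨0, 0⟩, ⟨2, -2⟩]],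
    ruOfArray ![![⟨2, -2⟩, ⟨4, 0⟩, ⟨0, 0⟩, ⟨4, -4⟩], ![⟨0, -2⟩, ⟨4, -4⟩, ⟨0, -4⟩, ⟨0, 2⟩], ![⟨2, 4⟩, ⟨-2, 0⟩, ⟨0, -2⟩, ⟨-2, 4⟩], ![⟨-2, -2⟩, ⟨-2, 2⟩, ⟨-4, 2⟩, ⟨0, 2⟩], ![⟨4, -4⟩, ⟨-2, -2⟩, ⟨4, -4⟩, ⟨2, -2⟩], ![⟨-4, 0⟩, ⟨-2, 2⟩, ⟨-4, 4⟩, ⟨2, 2⟩], ![⟨-2, 2⟩, ⟨4, 0⟩, ⟨-2, -2⟩, ⟨0, 0⟩]],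
    ruOfArray ![![⟨0, 0⟩, ⟨0, -4⟩, ⟨4, -2⟩, ⟨0, 2⟩], ![⟨-2, 2⟩, ⟨2, -4⟩, ⟨4, 2⟩, ⟨4, -4⟩], ![⟨-2, 4⟩, ⟨2, 4⟩, ⟨2, 2⟩, ⟨0, 4⟩], ![⟨2, -2⟩, ⟨2, 2⟩, ⟨-4, 4⟩, ⟨2, -2⟩], ![⟨0, -4⟩, ⟨2, -2⟩, ⟨-2, 2⟩, ⟨4, -4⟩], ![⟨-4, 4⟩, ⟨2, -2⟩, ⟨2, -2⟩, ⟨-4, 0⟩], ![⟨4, -4⟩, ⟨2, 2⟩, ⟨0, 0⟩, ⟨4, 0⟩]],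
    ruOfArray ![![⟨4, 0⟩, ⟨0, 2⟩, ⟨4, -4⟩, ⟨0, 2⟩], ![⟨-2, -2⟩, ⟨4, -2⟩, ⟨2, -4⟩, ⟨2, 2⟩], ![⟨0, 0⟩, ⟨0, 4⟩, ⟨2, 2⟩, ⟨-4, 4⟩], ![⟨-4, 0⟩, ⟨-2, -2⟩, ⟨-2, 2⟩, ⟨-4, 0⟩], ![⟨4, -4⟩, ⟨0, -4⟩, ⟨4, 0⟩, ⟨-2, -2⟩], ![⟨-2, 2⟩, ⟨-4, 0⟩, ⟨0, 4⟩, ⟨0, 4⟩], ![⟨0, 0⟩, ⟨0, -4⟩, ⟨0, -4⟩, ⟨2, -2⟩]],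
    ruOfArray ![![⟨2, 2⟩, ⟨2, -6⟩, ⟨-4, -4⟩, ⟨-2, -2⟩], ![⟨-2, 2⟩, ⟨0, 0⟩, ⟨-6, -2⟩, ⟨-6, -2⟩], ![⟨0, 4⟩, ⟨6, 2⟩, ⟨-6, 2⟩, ⟨6, 2⟩], ![⟨0, 0⟩, ⟨-2, 6⟩, ⟨6, 2⟩, ⟨2, 2⟩], ![⟨-2, -6⟩, ⟨0, 0⟩, ⟨-2, -2⟩, ⟨-6, -2⟩], ![⟨-6, 2⟩, ⟨0, 0⟩, ⟨0, 8⟩, ⟨-4, 4⟩], ![⟨-6, -2⟩, ⟨0, -8⟩, ⟨0, -4⟩, ⟨0, 0⟩]]],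
  ![
    ruOfArray ![![⟨0, -1⟩, ⟨1, 0⟩, ⟨-1, 0⟩, ⟨0, -1⟩], ![⟨0, 0⟩, ⟨0, 1⟩, ⟨-1, 0⟩, ⟨0, 0⟩], ![⟨0, 0⟩, ⟨0, 0⟩, ⟨1, 0⟩, ⟨0, 1⟩], ![⟨0, 0⟩, ⟨0, 0⟩, ⟨0, -1⟩, ⟨0, 1⟩], ![⟨-1, 0⟩, ⟨0, 0⟩, ⟨-1, 0⟩, ⟨0, 0⟩], ![⟨0, -1⟩, ⟨0, 0⟩, ⟨0, 0⟩, ⟨1, 0⟩], ![⟨0, -1⟩, ⟨0, 0⟩, ⟨-1, 0⟩, ⟨0, 0⟩]],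
    ruOfArray ![![⟨0, 0⟩, ⟨0, 0⟩, ⟨0, 1⟩, ⟨1, 0⟩], ![⟨0, 0⟩, ⟨0, 0⟩, ⟨0, 1⟩, ⟨0, 1⟩], ![⟨0, 1⟩, ⟨0, 0⟩, ⟨0, -1⟩, ⟨0, 0⟩], ![⟨0, 0⟩, ⟨1, 0⟩, ⟨1, 0⟩, ⟨0, 0⟩], ![⟨0, 0⟩, ⟨0, 1⟩, ⟨0, 0⟩, ⟨0, 1⟩], ![⟨1, 0⟩, ⟨-1, 0⟩, ⟨0, -1⟩, ⟨0, -1⟩], ![⟨0, 0⟩, ⟨-1, 0⟩, ⟨0, -1⟩, ⟨0, 0⟩]],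
    ruOfArray ![![⟨1, 1⟩, ⟨2, 0⟩, ⟨1, 0⟩, ⟨0, 1⟩], ![⟨0, 0⟩, ⟨0, -1⟩, ⟨0, 0⟩, ⟨-1, 0⟩], ![⟨0, 0⟩, ⟨0, 1⟩, ⟨-1, 0⟩, ⟨1, -1⟩], ![⟨0, 0⟩, ⟨1, 0⟩, ⟨-1, 1⟩, ⟨0, -1⟩], ![⟨1, -1⟩, ⟨0, 0⟩, ⟨0, 0⟩, ⟨0, 0⟩], ![⟨0, -2⟩, ⟨-1, 0⟩, ⟨0, 1⟩, ⟨0, 0⟩], ![⟨0, 2⟩, ⟨0, 0⟩, ⟨1, 0⟩, ⟨0, -1⟩]],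
    ruOfArray ![![⟨-1, 0⟩, ⟨2, 0⟩, ⟨0, 0⟩, ⟨1, 0⟩], ![⟨0, 1⟩, ⟨1, 0⟩, ⟨0, 0⟩, ⟨1, 1⟩], ![⟨0, 0⟩, ⟨-1, -1⟩, ⟨0, -1⟩, ⟨-1, 0⟩], ![⟨0, 1⟩, ⟨-1, -1⟩, ⟨1, 0⟩, ⟨0, 0⟩], ![⟨0, 1⟩, ⟨0, 0⟩, ⟨2, 0⟩, ⟨-1, 0⟩], ![⟨1, -1⟩, ⟨1, 0⟩, ⟨-1, -1⟩, ⟨-1, 0⟩], ![⟨0, 0⟩, ⟨0, 0⟩, ⟨0, 0⟩, ⟨1, 1⟩]],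
    ruOfArray ![![⟨0, 1⟩, ⟨0, 0⟩, ⟨1, -1⟩, ⟨-1, -2⟩], ![⟨0, -1⟩, ⟨-2, -1⟩, ⟨1, 1⟩, ⟨-1, -1⟩], ![⟨0, -1⟩, ⟨1, 2⟩, ⟨-1, 1⟩, ⟨1, -1⟩], ![⟨0, -1⟩, ⟨1, 1⟩, ⟨-1, 0⟩, ⟨0, 0⟩], ![⟨0, -1⟩, ⟨0, 0⟩, ⟨0, 0⟩, ⟨1, 0⟩], ![⟨-1, -2⟩, ⟨-1, -1⟩, ⟨1, 0⟩, ⟨0, 0⟩], ![⟨0, 2⟩, ⟨0, 0⟩, ⟨0, 0⟩, ⟨-1, -1⟩]],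
    ruOfArray ![![⟨0, 2⟩, ⟨0, 0⟩, ⟨-2, -2⟩, ⟨0, 0⟩], ![⟨-1, 0⟩, ⟨1, 2⟩, ⟨-2, -1⟩, ⟨1, 0⟩], ![⟨0, 1⟩, ⟨-1, 2⟩, ⟨1, 0⟩, ⟨-1, -2⟩], ![⟨0, 1⟩, ⟨-1, 0⟩, ⟨0, -1⟩, ⟨0, 1⟩], ![⟨0, 1⟩, ⟨-1, 0⟩, ⟨1, 0⟩, ⟨1, 0⟩], ![⟨0, -2⟩, ⟨1, 1⟩, ⟨0, 0⟩, ⟨1, -1⟩], ![⟨0, 0⟩, ⟨0, 0⟩, ⟨-1, 1⟩, ⟨-1, 1⟩]],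
    ruOfArray ![![⟨-1, 0⟩, ⟨1, 0⟩, ⟨0, -1⟩, ⟨1, 0⟩], ![⟨0, 0⟩, ⟨0, 0⟩, ⟨-2, 0⟩, ⟨-2, 0⟩], ![⟨0, 0⟩, ⟨0, 0⟩, ⟨0, 0⟩, ⟨2, 0⟩], ![⟨-1, 0⟩, ⟨-1, 0⟩, ⟨1, 0⟩, ⟨0, 1⟩], ![⟨0, 0⟩, ⟨0, 0⟩, ⟨2, 0⟩, ⟨0, 0⟩], ![⟨0, -2⟩, ⟨1, 1⟩, ⟨0, -2⟩, ⟨-1, 1⟩], ![⟨-1, -1⟩, ⟨0, 0⟩, ⟨0, 0⟩, ⟨-1, 1⟩]],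
    ruOfArray ![![⟨2, -1⟩, ⟨1, 0⟩, ⟨-1, -2⟩, ⟨1, -2⟩], ![⟨0, 0⟩, ⟨-2, 0⟩, ⟨-1, -1⟩, ⟨-1, 1⟩], ![⟨0, 1⟩, ⟨-2, 1⟩, ⟨1, 0⟩, ⟨2, 1⟩], ![⟨1, 1⟩, ⟨-1, -1⟩, ⟨-2, 0⟩, ⟨0, 0⟩], ![⟨0, 2⟩, ⟨0, 0⟩, ⟨1, -1⟩, ⟨-1, 1⟩], ![⟨1, 1⟩, ⟨1, 1⟩, ⟨-1, -1⟩, ⟨-1, -1⟩], ![⟨1, 1⟩, ⟨0, 0⟩, ⟨0, 0⟩, ⟨1, -1⟩]],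
    ruOfArray ![![⟨2, -1⟩, ⟨0, -1⟩, ⟨-1, 0⟩, ⟨-2, 1⟩], ![⟨0, -1⟩, ⟨-2, 1⟩, ⟨1, 0⟩, ⟨0, -1⟩], ![⟨-1, -1⟩, ⟨-1, -1⟩, ⟨2, 0⟩, ⟨0, 0⟩], ![⟨0, 2⟩, ⟨-1, 1⟩, ⟨-2, -2⟩, ⟨1, 1⟩], ![⟨0, 2⟩, ⟨-2, 0⟩, ⟨0, 0⟩, ⟨0, 0⟩], ![⟨-1, -1⟩, ⟨-2, -2⟩, ⟨1, -1⟩, ⟨0, 0⟩], ![⟨0, 2⟩, ⟨0, 0⟩, ⟨1, -1⟩, ⟨1, 1⟩]],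
    ruOfArray ![![⟨2, -2⟩, ⟨-2, 0⟩, ⟨-1, 1⟩, ⟨-1, -1⟩], ![⟨1, -1⟩, ⟨1, -1⟩, ⟨0, 0⟩, ⟨-2, 2⟩], ![⟨-1, -1⟩, ⟨-2, 2⟩, ⟨1, -1⟩, ⟨-2, -2⟩], ![⟨1, -1⟩, ⟨0, 2⟩, ⟨-2, -2⟩, ⟨1, 1⟩], ![⟨2, 0⟩, ⟨-1, 1⟩, ⟨0, -2⟩, ⟨1, 1⟩], ![⟨-3, -1⟩, ⟨1, -1⟩, ⟨-1, 1⟩, ⟨1, 1⟩], ![⟨-1, -1⟩, ⟨0, 0⟩, ⟨0, 0⟩, ⟨1, -1⟩]],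
    ruOfArray ![![⟨0, 0⟩, ⟨-2, -4⟩, ⟨2, 0⟩, ⟨-4, 0⟩], ![⟨0, 0⟩, ⟨-2, 2⟩, ⟨-2, 0⟩, ⟨-4, 2⟩], ![⟨4, 2⟩, ⟨2, -2⟩, ⟨4, -4⟩, ⟨-2, 0⟩], ![⟨0, 0⟩, ⟨0, -2⟩, ⟨2, -2⟩, ⟨-4, 2⟩], ![⟨-2, -2⟩, ⟨-2, 0⟩, ⟨4, 2⟩, ⟨2, -2⟩], ![⟨2, 4⟩, ⟨0, 4⟩, ⟨2, -2⟩, ⟨2, 4⟩], ![⟨2, -4⟩, ⟨2, 0⟩, ⟨0, -2⟩, ⟨-2, -4⟩]],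
    ruOfArray ![![⟨4, -2⟩, ⟨-2, -4⟩, ⟨-4, -2⟩, ⟨-2, 0⟩], ![⟨2, -4⟩, ⟨-2, 0⟩, ⟨-4, -2⟩, ⟨-4, 2⟩], ![⟨-2, 0⟩, ⟨4, -2⟩, ⟨-2, -4⟩, ⟨0, -2⟩], ![⟨-2, 2⟩, ⟨0, -2⟩, ⟨-2, 0⟩, ⟨-4, 0⟩], ![⟨0, 0⟩, ⟨0, 0⟩, ⟨4, 2⟩, ⟨0, -2⟩], ![⟨-2, 4⟩, ⟨-4, -2⟩, ⟨2, 0⟩, ⟨0, 2⟩], ![⟨0, -4⟩, ⟨0, 2⟩, ⟨-4, 0⟩, ⟨0, -2⟩]],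
    ruOfArray ![![⟨4, -4⟩, ⟨4, -4⟩, ⟨-4, 2⟩, ⟨-4, 2⟩], ![⟨-4, -2⟩, ⟨2, 4⟩, ⟨-4, 4⟩, ⟨0, 0⟩], ![⟨4, -4⟩, ⟨0, 0⟩, ⟨0, 2⟩, ⟨2, 0⟩], ![⟨-2, -2⟩, ⟨-4, 4⟩, ⟨2, -2⟩, ⟨0, -4⟩], ![⟨2, 0⟩, ⟨-2, 2⟩, ⟨2, -4⟩, ⟨-4, 4⟩], ![⟨-2, 2⟩, ⟨2, -2⟩, ⟨-4, 4⟩, ⟨0, 0⟩], ![⟨4, 0⟩, ⟨0, 0⟩, ⟨-2, 0⟩, ⟨4, -2⟩]],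
    ruOfArray ![![⟨0, 0⟩, ⟨0, -2⟩, ⟨-2, 4⟩, ⟨-4, 0⟩], ![⟨0, -4⟩, ⟨0, 4⟩, ⟨-2, 2⟩, ⟨0, 0⟩], ![⟨2, 2⟩, ⟨-2, -2⟩, ⟨2, -4⟩, ⟨-4, -2⟩], ![⟨2, 0⟩, ⟨0, 2⟩, ⟨-4, -2⟩, ⟨2, 0⟩], ![⟨0, 0⟩, ⟨-2, 4⟩, ⟨-2, -2⟩, ⟨0, 2⟩], ![⟨0, 0⟩, ⟨-4, -2⟩, ⟨2, 4⟩, ⟨-4, 4⟩], ![⟨4, 0⟩, ⟨2, -2⟩, ⟨0, 0⟩, ⟨-2, -2⟩]],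
    ruOfArray ![![⟨4, 0⟩, ⟨0, 2⟩, ⟨-2, -2⟩, ⟨2, 4⟩], ![⟨0, -2⟩, ⟨4, 4⟩, ⟨2, 2⟩, ⟨2, 4⟩], ![⟨4, 0⟩, ⟨0, 4⟩, ⟨4, -4⟩, ⟨-2, 2⟩], ![⟨2, 2⟩, ⟨-4, -2⟩, ⟨0, 0⟩, ⟨0, -2⟩], ![⟨4, -4⟩, ⟨2, 0⟩, ⟨-2, 0⟩, ⟨2, 2⟩], ![⟨-4, 4⟩, ⟨-4, 0⟩, ⟨-4, 0⟩, ⟨-2, 2⟩], ![⟨2, -2⟩, ⟨0, 0⟩, ⟨2, -2⟩, ⟨0, -4⟩]],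
    ruOfArray ![![⟨2, -2⟩, ⟨4, 0⟩, ⟨0, 0⟩, ⟨-4, 4⟩], ![⟨-4, -4⟩, ⟨2, 0⟩, ⟨0, -2⟩, ⟨0, 4⟩], ![⟨0, 2⟩, ⟨4, 2⟩, ⟨-2, -4⟩, ⟨0, -2⟩], ![⟨2, 0⟩, ⟨-4, 2⟩, ⟨-2, 2⟩, ⟨2, -2⟩], ![⟨4, -4⟩, ⟨2, 2⟩, ⟨4, -4⟩, ⟨-2, 2⟩], ![⟨-4, 0⟩, ⟨-2, 2⟩, ⟨-4, 4⟩, ⟨2, 2⟩], ![⟨0, 0⟩, ⟨2, -2⟩, ⟨0, -4⟩, ⟨-2, 2⟩]],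
    ruOfArray ![![⟨0, 0⟩, ⟨0, -4⟩, ⟨-4, 2⟩, ⟨0, -2⟩], ![⟨-4, -2⟩, ⟨-2, -2⟩, ⟨-4, 4⟩, ⟨-4, -2⟩], ![⟨-2, -2⟩, ⟨4, 0⟩, ⟨2, -4⟩, ⟨-4, 2⟩], ![⟨-2, -2⟩, ⟨-4, 4⟩, ⟨2, 2⟩, ⟨2, 2⟩], ![⟨0, -4⟩, ⟨-2, 2⟩, ⟨-2, 2⟩, ⟨-4, 4⟩], ![⟨-4, 4⟩, ⟨2, -2⟩, ⟨2, -2⟩, ⟨-4, 0⟩], ![⟨4, 0⟩, ⟨0, 0⟩, ⟨2, -2⟩, ⟨4, -4⟩]],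
    ruOfArray ![![⟨4, 0⟩, ⟨0, 2⟩, ⟨-4, 4⟩, ⟨0, -2⟩], ![⟨-2, -4⟩, ⟨2, -2⟩, ⟨-2, -2⟩, ⟨-2, 4⟩], ![⟨-2, -2⟩, ⟨4, 4⟩, ⟨0, 0⟩, ⟨-4, 0⟩], ![⟨0, 4⟩, ⟨-2, 2⟩, ⟨-2, -2⟩, ⟨0, -4⟩], ![⟨4, -4⟩, ⟨0, 4⟩, ⟨4, 0⟩, ⟨2, 2⟩], ![⟨-2, 2⟩, ⟨-4, 0⟩, ⟨0, 4⟩, ⟨0, 4⟩], ![⟨2, -2⟩, ⟨4, 0⟩, ⟨-4, 0⟩, ⟨0, 0⟩]],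
    ruOfArray ![![⟨2, 2⟩, ⟨2, -6⟩, ⟨4, 4⟩, ⟨2, 2⟩], ![⟨0, 0⟩, ⟨-2, -2⟩, ⟨6, 2⟩, ⟨6, 2⟩], ![⟨6, -2⟩, ⟨2, -6⟩, ⟨0, -4⟩, ⟨-2, 6⟩], ![⟨2, -2⟩, ⟨6, 2⟩, ⟨-2, 6⟩, ⟨0, 0⟩], ![⟨-2, -6⟩, ⟨0, 0⟩, ⟨-2, -2⟩, ⟨6, 2⟩], ![⟨-6, 2⟩, ⟨0, 0⟩, ⟨0, 8⟩, ⟨-4, 4⟩], ![⟨0, 0⟩, ⟨4, 0⟩, ⟨-8, 0⟩, ⟨-6, -2⟩]]],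
  ![
    ruOfArray ![![⟨1, 0⟩, ⟨0, -1⟩, ⟨-1, 0⟩, ⟨0, -1⟩], ![⟨0, 0⟩, ⟨0, -1⟩, ⟨-1, 0⟩, ⟨0, 0⟩], ![⟨1, 0⟩, ⟨1, 0⟩, ⟨0, 0⟩, ⟨0, 0⟩], ![⟨1, 0⟩, ⟨0, 1⟩, ⟨0, 0⟩, ⟨0, 0⟩], ![⟨0, -1⟩, ⟨0, 0⟩, ⟨0, 1⟩, ⟨0, 0⟩], ![⟨0, -1⟩, ⟨0, 0⟩, ⟨0, 0⟩, ⟨1, 0⟩], ![⟨0, 1⟩, ⟨0, 0⟩, ⟨-1, 0⟩, ⟨0, 0⟩]],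
    ruOfArray ![![⟨0, 0⟩, ⟨0, 0⟩, ⟨0, -1⟩, ⟨-1, 0⟩], ![⟨0, 0⟩, ⟨0, 0⟩, ⟨0, 1⟩, ⟨0, 1⟩], ![⟨0, -1⟩, ⟨0, 0⟩, ⟨0, 1⟩, ⟨0, 0⟩], ![⟨0, 0⟩, ⟨-1, 0⟩, ⟨-1, 0⟩, ⟨0, 0⟩], ![⟨0, 0⟩, ⟨0, -1⟩, ⟨0, 0⟩, ⟨0, -1⟩], ![⟨1, 0⟩, ⟨-1, 0⟩, ⟨0, -1⟩, ⟨0, -1⟩], ![⟨0, 0⟩, ⟨-1, 0⟩, ⟨0, -1⟩, ⟨0, 0⟩]],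
    ruOfArray ![![⟨2, 0⟩, ⟨1, 1⟩, ⟨1, 0⟩, ⟨0, 1⟩], ![⟨0, 0⟩, ⟨0, 1⟩, ⟨0, 0⟩, ⟨-1, 0⟩], ![⟨-1, 0⟩, ⟨-1, -1⟩, ⟨0, 0⟩, ⟨-1, 0⟩], ![⟨-1, 0⟩, ⟨1, -1⟩, ⟨-1, 0⟩, ⟨0, 0⟩], ![⟨0, 0⟩, ⟨0, 0⟩, ⟨-1, -1⟩, ⟨0, 0⟩], ![⟨0, -2⟩, ⟨-1, 0⟩, ⟨0, 1⟩, ⟨0, 0⟩], ![⟨0, -2⟩, ⟨0, 0⟩, ⟨1, 0⟩, ⟨0, 1⟩]],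
    ruOfArray ![![⟨2, 0⟩, ⟨-1, 0⟩, ⟨0, -1⟩, ⟨0, 0⟩], ![⟨0, -1⟩, ⟨-1, 0⟩, ⟨0, 0⟩, ⟨1, 1⟩], ![⟨0, -1⟩, ⟨0, 1⟩, ⟨0, 0⟩, ⟨1, -1⟩], ![⟨0, 0⟩, ⟨-1, 0⟩, ⟨1, 1⟩, ⟨-1, 0⟩], ![⟨0, 2⟩, ⟨1, 0⟩, ⟨1, 0⟩, ⟨0, 0⟩], ![⟨1, -1⟩, ⟨1, 0⟩, ⟨-1, -1⟩, ⟨-1, 0⟩], ![⟨0, 0⟩, ⟨0, 0⟩, ⟨0, 0⟩, ⟨-1, -1⟩]],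
    ruOfArray ![![⟨0, 0⟩, ⟨0, 1⟩, ⟨-2, 1⟩, ⟨1, 1⟩], ![⟨0, 1⟩, ⟨2, 1⟩, ⟨1, 1⟩, ⟨-1, -1⟩], ![⟨-1, 1⟩, ⟨-1, -1⟩, ⟨0, -1⟩, ⟨-2, 1⟩], ![⟨0, 0⟩, ⟨1, 0⟩, ⟨-1, -1⟩, ⟨1, 0⟩], ![⟨0, 0⟩, ⟨-1, 0⟩, ⟨-1, 0⟩, ⟨0, 0⟩], ![⟨-1, -2⟩, ⟨-1, -1⟩, ⟨1, 0⟩, ⟨0, 0⟩], ![⟨0, -2⟩, ⟨0, 0⟩, ⟨0, 0⟩, ⟨1, 1⟩]],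
    ruOfArray ![![⟨0, 0⟩, ⟨0, 2⟩, ⟨0, 0⟩, ⟨2, -2⟩], ![⟨1, 0⟩, ⟨-1, -2⟩, ⟨-2, -1⟩, ⟨1, 0⟩], ![⟨1, 0⟩, ⟨-2, 1⟩, ⟨0, 1⟩, ⟨-2, -1⟩], ![⟨1, 0⟩, ⟨0, 1⟩, ⟨1, 0⟩, ⟨-1, 0⟩], ![⟨0, 1⟩, ⟨-1, 0⟩, ⟨1, 0⟩, ⟨1, 0⟩], ![⟨0, -2⟩, ⟨1, 1⟩, ⟨0, 0⟩, ⟨1, -1⟩], ![⟨0, 0⟩, ⟨0, 0⟩, ⟨-1, 1⟩, ⟨1, -1⟩]],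
    ruOfArray ![![⟨1, 0⟩, ⟨-1, 0⟩, ⟨0, -1⟩, ⟨1, 0⟩], ![⟨0, 0⟩, ⟨0, 0⟩, ⟨-2, 0⟩, ⟨-2, 0⟩], ![⟨0, 0⟩, ⟨0, -2⟩, ⟨0, 0⟩, ⟨0, 0⟩], ![⟨1, 0⟩, ⟨-1, 0⟩, ⟨1, 0⟩, ⟨0, -1⟩], ![⟨0, 2⟩, ⟨0, 0⟩, ⟨0, 0⟩, ⟨0, 0⟩], ![⟨0, -2⟩, ⟨1, 1⟩, ⟨0, -2⟩, ⟨-1, 1⟩], ![⟨1, 1⟩, ⟨0, 0⟩, ⟨0, 0⟩, ⟨1, -1⟩]],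
    ruOfArray ![![⟨1, 0⟩, ⟨2, -1⟩, ⟨-2, -1⟩, ⟨2, -1⟩], ![⟨0, 0⟩, ⟨2, 0⟩, ⟨-1, -1⟩, ⟨-1, 1⟩], ![⟨1, 0⟩, ⟨1, -2⟩, ⟨0, 1⟩, ⟨-1, -2⟩], ![⟨0, 0⟩, ⟨2, 0⟩, ⟨1, 1⟩, ⟨-1, 1⟩], ![⟨1, 1⟩, ⟨1, -1⟩, ⟨2, 0⟩, ⟨0, 0⟩], ![⟨1, 1⟩, ⟨1, 1⟩, ⟨-1, -1⟩, ⟨-1, -1⟩], ![⟨-1, -1⟩, ⟨0, 0⟩, ⟨0, 0⟩, ⟨-1, 1⟩]],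
    ruOfArray ![![⟨0, -1⟩, ⟨2, -1⟩, ⟨1, 2⟩, ⟨0, -1⟩], ![⟨0, 1⟩, ⟨2, -1⟩, ⟨1, 0⟩, ⟨0, -1⟩], ![⟨2, 0⟩, ⟨0, 0⟩, ⟨-1, -1⟩, ⟨1, -1⟩], ![⟨1, -1⟩, ⟨2, 2⟩, ⟨1, -1⟩, ⟨-2, 0⟩], ![⟨0, 0⟩, ⟨0, 0⟩, ⟨2, 0⟩, ⟨2, 0⟩], ![⟨-1, -1⟩, ⟨-2, -2⟩, ⟨1, -1⟩, ⟨0, 0⟩], ![⟨0, -2⟩, ⟨0, 0⟩, ⟨1, -1⟩, ⟨-1, -1⟩]],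
    ruOfArray ![![⟨-2, 0⟩, ⟨2, -2⟩, ⟨-1, 1⟩, ⟨-1, -1⟩], ![⟨-1, 1⟩, ⟨-1, 1⟩, ⟨0, 0⟩, ⟨-2, 2⟩], ![⟨1, -1⟩, ⟨-2, 2⟩, ⟨-1, -1⟩, ⟨-2, -2⟩], ![⟨1, -1⟩, ⟨2, 2⟩, ⟨0, -2⟩, ⟨1, 1⟩], ![⟨2, 0⟩, ⟨-1, -1⟩, ⟨0, -2⟩, ⟨1, -1⟩], ![⟨-3, -1⟩, ⟨1, -1⟩, ⟨-1, 1⟩, ⟨1, 1⟩], ![⟨1, 1⟩, ⟨0, 0⟩, ⟨0, 0⟩, ⟨-1, 1⟩]],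
    ruOfArray ![![⟨-2, -4⟩, ⟨0, 0⟩, ⟨0, 4⟩, ⟨0, 2⟩], ![⟨0, 0⟩, ⟨2, -2⟩, ⟨-2, 0⟩, ⟨-4, 2⟩], ![⟨4, -4⟩, ⟨0, 2⟩, ⟨4, 2⟩, ⟨2, 2⟩], ![⟨2, 4⟩, ⟨-2, 2⟩, ⟨0, 2⟩, ⟨0, 0⟩], ![⟨-2, 4⟩, ⟨-2, 2⟩, ⟨-2, 2⟩, ⟨2, 0⟩], ![⟨2, 4⟩, ⟨0, 4⟩, ⟨2, -2⟩, ⟨2, 4⟩], ![⟨-2, 4⟩, ⟨2, 0⟩, ⟨0, -2⟩, ⟨2, 4⟩]],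
    ruOfArray ![![⟨-2, -4⟩, ⟨4, -2⟩, ⟨0, 2⟩, ⟨2, -4⟩], ![⟨-2, 4⟩, ⟨2, 0⟩, ⟨-4, -2⟩, ⟨-4, 2⟩], ![⟨-2, -4⟩, ⟨-2, 0⟩, ⟨-2, 0⟩, ⟨2, 4⟩], ![⟨0, 4⟩, ⟨2, 0⟩, ⟨0, 2⟩, ⟨-2, -2⟩], ![⟨-2, 4⟩, ⟨0, 2⟩, ⟨0, 0⟩, ⟨0, 0⟩], ![⟨-2, 4⟩, ⟨-4, -2⟩, ⟨2, 0⟩, ⟨0, 2⟩], ![⟨0, 4⟩, ⟨0, 2⟩, ⟨-4, 0⟩, ⟨0, 2⟩]],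
    ruOfArray ![![⟨4, -4⟩, ⟨4, -4⟩, ⟨2, 4⟩, ⟨-2, -4⟩], ![⟨4, 2⟩, ⟨-2, -4⟩, ⟨-4, 4⟩, ⟨0, 0⟩], ![⟨0, 2⟩, ⟨0, -2⟩, ⟨4, -4⟩, ⟨0, 0⟩], ![⟨-4, 0⟩, ⟨-2, 2⟩, ⟨4, -4⟩, ⟨2, -2⟩], ![⟨4, 2⟩, ⟨4, -4⟩, ⟨0, -2⟩, ⟨2, -2⟩], ![⟨-2, 2⟩, ⟨2, -2⟩, ⟨-4, 4⟩, ⟨0, 0⟩], ![⟨-4, 0⟩, ⟨0, 0⟩, ⟨-2, 0⟩, ⟨-4, 2⟩]],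
    ruOfArray ![![⟨0, -2⟩, ⟨0, 0⟩, ⟨0, 4⟩, ⟨-4, -2⟩], ![⟨0, 4⟩, ⟨0, -4⟩, ⟨-2, 2⟩, ⟨0, 0⟩], ![⟨2, -4⟩, ⟨-2, 4⟩, ⟨2, 2⟩, ⟨2, -2⟩], ![⟨0, -2⟩, ⟨4, 2⟩, ⟨0, -2⟩, ⟨0, 2⟩], ![⟨2, -2⟩, ⟨0, -2⟩, ⟨0, 0⟩, ⟨2, -4⟩], ![⟨0, 0⟩, ⟨-4, -2⟩, ⟨2, 4⟩, ⟨-4, 4⟩], ![⟨-4, 0⟩, ⟨2, -2⟩, ⟨0, 0⟩, ⟨2, 2⟩]],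
    ruOfArray ![![⟨0, 2⟩, ⟨4, 0⟩, ⟨4, -2⟩, ⟨2, -2⟩], ![⟨0, 2⟩, ⟨-4, -4⟩, ⟨2, 2⟩, ⟨2, 4⟩], ![⟨4, -4⟩, ⟨2, 2⟩, ⟨4, 0⟩, ⟨-4, 0⟩], ![⟨-2, 0⟩, ⟨0, 0⟩, ⟨4, 2⟩, ⟨-2, 2⟩], ![⟨0, -2⟩, ⟨-2, -2⟩, ⟨-4, -4⟩, ⟨-2, 0⟩], ![⟨-4, 4⟩, ⟨-4, 0⟩, ⟨-4, 0⟩, ⟨-2, 2⟩], ![⟨-2, 2⟩, ⟨0, 0⟩, ⟨2, -2⟩, ⟨0, 4⟩]],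
    ruOfArray ![![⟨4, 0⟩, ⟨2, -2⟩, ⟨4, 4⟩, ⟨0, 0⟩], ![⟨4, 4⟩, ⟨-2, 0⟩, ⟨0, -2⟩, ⟨0, 4⟩], ![⟨-2, -4⟩, ⟨-2, 0⟩, ⟨0, 2⟩, ⟨-2, 4⟩], ![⟨-2, -2⟩, ⟨2, -2⟩, ⟨4, -2⟩, ⟨0, 2⟩], ![⟨4, 4⟩, ⟨2, -2⟩, ⟨-4, -4⟩, ⟨-2, -2⟩], ![⟨-4, 0⟩, ⟨-2, 2⟩, ⟨-4, 4⟩, ⟨2, 2⟩], ![⟨0, 0⟩, ⟨2, -2⟩, ⟨0, -4⟩, ⟨2, -2⟩]],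
    ruOfArray ![![⟨0, -4⟩, ⟨0, 0⟩, ⟨-2, 0⟩, ⟨-2, -4⟩], ![⟨4, 2⟩, ⟨2, 2⟩, ⟨-4, 4⟩, ⟨-4, -2⟩], ![⟨2, -4⟩, ⟨2, 4⟩, ⟨-2, -2⟩, ⟨0, 4⟩], ![⟨2, -2⟩, ⟨-2, -2⟩, ⟨4, -4⟩, ⟨2, -2⟩], ![⟨-2, -2⟩, ⟨4, -4⟩, ⟨-4, 0⟩, ⟨2, -2⟩], ![⟨-4, 4⟩, ⟨2, -2⟩, ⟨2, -2⟩, ⟨-4, 0⟩], ![⟨-4, 0⟩, ⟨0, 0⟩, ⟨2, -2⟩, ⟨-4, 4⟩]],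
    ruOfArray ![![⟨0, 2⟩, ⟨4, 0⟩, ⟨-2, 0⟩, ⟨-4, -4⟩], ![⟨2, 4⟩, ⟨-2, 2⟩, ⟨-2, -2⟩, ⟨-2, 4⟩], ![⟨0, 0⟩, ⟨0, 4⟩, ⟨-2, -2⟩, ⟨-4, 4⟩], ![⟨-4, 0⟩, ⟨2, 2⟩, ⟨2, -2⟩, ⟨-4, 0⟩], ![⟨0, 4⟩, ⟨-2, -2⟩, ⟨-4, -4⟩, ⟨0, -4⟩], ![⟨-2, 2⟩, ⟨-4, 0⟩, ⟨0, 4⟩, ⟨0, 4⟩], ![⟨-2, 2⟩, ⟨4, 0⟩, ⟨-4, 0⟩, ⟨0, 0⟩]],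
    ruOfArray ![![⟨2, -6⟩, ⟨2, 2⟩, ⟨2, -2⟩, ⟨-4, 4⟩], ![⟨0, 0⟩, ⟨2, 2⟩, ⟨6, 2⟩, ⟨6, 2⟩], ![⟨0, -4⟩, ⟨6, 2⟩, ⟨6, -2⟩, ⟨6, 2⟩], ![⟨0, 0⟩, ⟨2, -6⟩, ⟨-6, -2⟩, ⟨2, 2⟩], ![⟨2, -2⟩, ⟨-6, -2⟩, ⟨-6, 2⟩, ⟨0, 0⟩], ![⟨-6, 2⟩, ⟨0, 0⟩, ⟨0, 8⟩, ⟨-4, 4⟩], ![⟨0, 0⟩, ⟨4, 0⟩, ⟨-8, 0⟩, ⟨6, 2⟩]]]]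

end Cfsg.Agent.Lib.Helper8.Ru2
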