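import Cfsg.Agent.Lib.Helper8.Ru2.TrajD0
import Cfsg.Agent.Lib.Helper8.Ru2.TrajD1
import Cfsg.Agent.Lib.Helper8.Ru2.TrajD2
import Cfsg.Agent.Lib.Helper8.Ru2.TrajD3
import Cfsg.Agent.Lib.Helper8.Ru2.TrajD4
import Cfsg.Agent.Lib.Helper8.Ru2.TrajD5
import Cfsg.Agent.Lib.Helper6.RuSimple
import Cfsg.Agent.Lib.Helper6.CoxLift

/-!
The homomorphism from the presented group `P5` (helper6: simple of order 145926144000) to the Rudvalis group
`Ru`, the quotient of the automorphism group of the lattice by its centre. (helper8)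
-/

set_option autoImplicit false

namespace Cfsg.Agent.Lib.Helper8.Ru2

open Cfsg.Spor Cfsg.Agent.Lib.Helper8.RuLat Cfsg.Agent.Lib.Helper6.RuSub Cfsg.Agent.Lib.Helper6.TC
  Cfsg.Agent.Lib.Helper6

/-- the five automorphisms, indexed by the generators of the presentation -/
def gF : P5.Gen → fourRu
  | .x => genAut 0
  | .y => genAut 1
  | .z => genAut 2
  | .t => genAut 3
  | .u => genAut 4

/-- the images of the generators in `Ru` -/
def gRu (a : P5.Gen) : Ru := QuotientGroup.mk (gF a)

theorem gRu_mul_self (a : P5.Gen) : gRu a * gRu a = 1 := by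
  unfold gRu
  rw [← QuotientGroup.mk_mul]
  cases a <;> (simp only [gF]; rw [genAut_mul_self]; rfl)

/-- the words of all relators -/
def wordsF : List (List (Fin 5)) := [rW0, rW1, rW2, rW3, rW4, rW5, rW6, rW7, rW8, rW9, rW10, rW11, rW12, rW13, rW14, rW15, rW16, rW17, rW18, rW19, rW20, rW21, rW22, rW23, rW24, rW25, rW26, rW27, rW28, rW29, rW30, rW31, rW32, rW33, rW34, rW35]

set_option maxRecDepth 1000000 in
theorem words_eq : coxWordsL P5.edges RuP5TC.gen 5 ++ RuP5TC.extraWords = wordsF.map (List.map Fin.val) := by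
  decide +kernel

theorem gF_gen (k : Fin 5) : gF (RuP5TC.gen k.val) = genAut k := by
  fin_cases k <;> rfl

theorem wordsF_central : ∀ w ∈ wordsF, (w.map genAut).prod ∈ Subgroup.center fourRu := by
  unfold wordsF
  refine List.forall_mem_cons.2 ⟨word_mem_center rW0 false rT0 rC0, ?_⟩
  refine List.forall_mem_cons.2 ⟨word_mem_center rW1 false rT1 rC1, ?_⟩
  refine List.forall_mem_cons.2 ⟨word_mem_center rW2 false rT2 rC2, ?_⟩
  refine List.forall_mem_cons.2 ⟨word_mem_center rW3 false rT3 rC3, ?_⟩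
  refine List.forall_mem_cons.2 ⟨word_mem_center rW4 false rT4 rC4, ?_⟩
  refine List.forall_mem_cons.2 ⟨word_mem_center rW5 false rT5 rC5, ?_⟩
  refine List.forall_mem_cons.2 ⟨word_mem_center rW6 false rT6 rC6, ?_⟩
  refine List.forall_mem_cons.2 ⟨word_mem_center rW7 false rT7 rC7, ?_⟩
  refine List.forall_mem_cons.2 ⟨word_mem_center rW8 false rT8 rC8, ?_⟩
  refine List.forall_mem_cons.2 ⟨word_mem_center rW9 true rT9 rC9, ?_⟩
  refine List.forall_mem_cons.2 ⟨word_mem_center rW10 false rT10 rC10, ?_⟩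
  refine List.forall_mem_cons.2 ⟨word_mem_center rW11 false rT11 rC11, ?_⟩
  refine List.forall_mem_cons.2 ⟨word_mem_center rW12 false rT12 rC12, ?_⟩
  refine List.forall_mem_cons.2 ⟨word_mem_center rW13 false rT13 rC13, ?_⟩
  refine List.forall_mem_cons.2 ⟨word_mem_center rW14 false rT14 rC14, ?_⟩
  refine List.forall_mem_cons.2 ⟨word_mem_center rW15 false rT15 rC15, ?_⟩
  refine List.forall_mem_cons.2 ⟨word_mem_center rW16 false rT16 rC16, ?_⟩
  refine List.forall_mem_cons.2 ⟨word_mem_center rW17 false rT17 rC17, ?_⟩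
  refine List.forall_mem_cons.2 ⟨word_mem_center rW18 false rT18 rC18, ?_⟩
  refine List.forall_mem_cons.2 ⟨word_mem_center rW19 false rT19 rC19, ?_⟩
  refine List.forall_mem_cons.2 ⟨word_mem_center rW20 false rT20 rC20, ?_⟩
  refine List.forall_mem_cons.2 ⟨word_mem_center rW21 true rT21 rC21, ?_⟩
  refine List.forall_mem_cons.2 ⟨word_mem_center rW22 false rT22 rC22, ?_⟩
  refine List.forall_mem_cons.2 ⟨word_mem_center rW23 false rT23 rC23, ?_⟩
  refine List.forall_mem_cons.2 ⟨word_mem_center rW24 false rT24 rC24, ?_⟩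
  refine List.forall_mem_cons.2 ⟨word_mem_center rW25 false rT25 rC25, ?_⟩
  refine List.forall_mem_cons.2 ⟨word_mem_center rW26 false rT26 rC26, ?_⟩
  refine List.forall_mem_cons.2 ⟨word_mem_center rW27 false rT27 rC27, ?_⟩
  refine List.forall_mem_cons.2 ⟨word_mem_center rW28 false rT28 rC28, ?_⟩
  refine List.forall_mem_cons.2 ⟨word_mem_center rW29 false rT29 rC29, ?_⟩
  refine List.forall_mem_cons.2 ⟨word_mem_center rW30 false rT30 rC30, ?_⟩
  refine List.forall_mem_cons.2 ⟨word_mem_center rW31 false rT31 rC31, ?_⟩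
  refine List.forall_mem_cons.2 ⟨word_mem_center rW32 true rT32 rC32, ?_⟩
  refine List.forall_mem_cons.2 ⟨word_mem_center rW33 false rT33 rC33, ?_⟩
  refine List.forall_mem_cons.2 ⟨word_mem_center rW34 true rT34 rC34, ?_⟩
  refine List.forall_mem_cons.2 ⟨word_mem_center rW35 true rT35 rC35, ?_⟩
  exact fun _ h => absurd h List.not_mem_nil

theorem words_one : ∀ w ∈ coxWordsL P5.edges RuP5TC.gen 5 ++ RuP5TC.extraWords,
    (w.map fun x => gRu (RuP5TC.gen x)).prod = 1 := by
  intro w hw
  rw [words_eq, List.mem_map] at hw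
  obtain ⟨w', hw', rfl⟩ := hw
  have hc := wordsF_central w' hw'
  have e : (w'.map Fin.val).map (fun x => gRu (RuP5TC.gen x)) =
      (w'.map genAut).map (QuotientGroup.mk' (Subgroup.center fourRu)) := by
    rw [List.map_map, List.map_map]
    apply List.map_congr_left
    intro k _
    show gRu (RuP5TC.gen k.val) = QuotientGroup.mk (genAut k)
    unfold gRu
    rw [gF_gen]
  rw [e, ← map_list_prod]
  exact (QuotientGroup.eq_one_iff _).2 hc

theorem lift_rel : ∀ r ∈ coxRelators P5.edges ∪ {r | r ∈ P5.extra}, FreeGroup.lift gRu r = 1 :=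
  CoxLift.lift_eq_one_of_words RuP5TC.gen RuP5TC.code 5 RuP5TC.extraWords
    (by intro a; cases a <;> exact ⟨by decide, rfl⟩) gRu (RuP5TC.extra_iff gRu gRu_mul_self) words_one

/-- the homomorphism from the presented group to the Rudvalis group -/
noncomputable def ruHom : P5 →* Ru := PresentedGroup.toGroup lift_rel

theorem ruHom_of (a : P5.Gen) : ruHom (PresentedGroup.of a) = gRu a := PresentedGroup.toGroup.of _

end Cfsg.Agent.Lib.Helper8.Ru2
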