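import Cfsg.Agent.Lib.Helper8.Ru2.Decomp3

/-!
The 19 basis vectors `ruB` lie in the Rudvalis lattice: certificates along 26 images of vectors of the table.
(helper8; generated)
-/

set_option autoImplicit false

namespace Cfsg.Agent.Lib.Helper8.Ru2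

open Cfsg.Spor Cfsg.Agent.Lib.Helper8.RuLat

/-- the `i`-th vector of the table -/
def tb (i : ℕ) : RuVec := ruTable.getD i 0

theorem tb_mem (i : ℕ) (hi : i < 20) : tb i ∈ ruLattice := by
  have hi' : i < ruTable.length := by rw [ruTable_length]; exact hi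
  unfold tb
  rw [List.getD_eq_getElem _ _ hi']
  exact table_mem (List.getElem_mem _)

/-- 26 vectors of the lattice -/
def oV : Fin 26 → RuVec := ![
  tb 1,
  tb 2,
  tb 3,
  tb 5,
  tb 6,
  tb 7,
  tb 8,
  tb 9,
  tb 10,
  tb 11,
  tb 12,
  tb 13,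
  tb 14,
  tb 15,
  tb 16,
  tb 17,
  tb 18,
  ruRj (tb 1),
  ruRk (tb 1),
  ruShift (tb 1),
  ruRk (tb 2),
  ruRj (tb 5),
  ruRk (tb 5),
  ruShift (tb 5),
  ruShift (tb 6),
  ruShift (ruShift (tb 5))]

theorem oV_mem : ∀ m, oV m ∈ ruLattice := by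
  intro m
  fin_cases m
  · exact tb_mem 1 (by decide)
  · exact tb_mem 2 (by decide)
  · exact tb_mem 3 (by decide)
  · exact tb_mem 5 (by decide)
  · exact tb_mem 6 (by decide)
  · exact tb_mem 7 (by decide)
  · exact tb_mem 8 (by decide)
  · exact tb_mem 9 (by decide)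
  · exact tb_mem 10 (by decide)
  · exact tb_mem 11 (by decide)
  · exact tb_mem 12 (by decide)
  · exact tb_mem 13 (by decide)
  · exact tb_mem 14 (by decide)
  · exact tb_mem 15 (by decide)
  · exact tb_mem 16 (by decide)
  · exact tb_mem 17 (by decide)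
  · exact tb_mem 18 (by decide)
  · exact ruRj_mem (tb_mem 1 (by decide))
  · exact ruRk_mem (tb_mem 1 (by decide))
  · exact ruShift_mem (tb_mem 1 (by decide))
  · exact ruRk_mem (tb_mem 2 (by decide))
  · exact ruRj_mem (tb_mem 5 (by decide))
  · exact ruRk_mem (tb_mem 5 (by decide))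
  · exact ruShift_mem (tb_mem 5 (by decide))
  · exact ruShift_mem (tb_mem 6 (by decide))
  · exact ruShift_mem (ruShift_mem (tb_mem 5 (by decide)))

/-- coefficients of the basis vectors along the 26 vectors -/
def cO : Fin 19 → Fin 26 → GaussianInt := ![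
  ![⟨1, 0⟩, ⟨1, 0⟩, ⟨2, 1⟩, ⟨3, 2⟩, ⟨3, 0⟩, ⟨0, 1⟩, ⟨0, 2⟩, ⟨2, 2⟩, ⟨1, 3⟩, ⟨2, 2⟩, ⟨1, 1⟩, ⟨1, 0⟩, ⟨1, 1⟩, ⟨2, 3⟩, ⟨1, 0⟩, ⟨0, 0⟩, ⟨2, 1⟩, ⟨1, 0⟩, ⟨0, 1⟩, ⟨1, 0⟩, ⟨0, 1⟩, ⟨1, 0⟩, ⟨3, 2⟩, ⟨2, 0⟩, ⟨0, 0⟩, ⟨0, 0⟩],
  ![⟨3, 1⟩, ⟨3, 0⟩, ⟨2, 3⟩, ⟨1, 1⟩, ⟨3, 0⟩, ⟨3, 0⟩, ⟨1, 2⟩, ⟨2, 3⟩, ⟨0, 0⟩, ⟨2, 2⟩, ⟨1, 3⟩, ⟨1, 1⟩, ⟨2, 3⟩, ⟨2, 3⟩, ⟨2, 0⟩, ⟨3, 3⟩, ⟨3, 1⟩, ⟨1, 2⟩, ⟨0, 1⟩, ⟨0, 1⟩, ⟨0, 1⟩, ⟨0, 3⟩, ⟨0, 3⟩, ⟨2, 2⟩, ⟨0, 0⟩, ⟨0, 3⟩],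
  ![⟨3, 0⟩, ⟨1, 3⟩, ⟨1, 0⟩, ⟨3, 1⟩, ⟨1, 3⟩, ⟨1, 2⟩, ⟨0, 2⟩, ⟨2, 1⟩, ⟨2, 1⟩, ⟨0, 2⟩, ⟨3, 3⟩, ⟨3, 1⟩, ⟨0, 2⟩, ⟨0, 0⟩, ⟨0, 0⟩, ⟨3, 3⟩, ⟨1, 0⟩, ⟨1, 3⟩, ⟨0, 1⟩, ⟨0, 0⟩, ⟨0, 0⟩, ⟨0, 2⟩, ⟨1, 0⟩, ⟨0, 3⟩, ⟨1, 0⟩, ⟨1, 0⟩],
  ![⟨3, 1⟩, ⟨2, 3⟩, ⟨0, 1⟩, ⟨1, 2⟩, ⟨1, 3⟩, ⟨2, 0⟩, ⟨0, 2⟩, ⟨0, 0⟩, ⟨1, 2⟩, ⟨2, 3⟩, ⟨0, 3⟩, ⟨0, 3⟩, ⟨2, 3⟩, ⟨2, 0⟩, ⟨1, 0⟩, ⟨1, 1⟩, ⟨3, 0⟩, ⟨3, 3⟩, ⟨0, 1⟩, ⟨0, 1⟩, ⟨0, 1⟩, ⟨3, 0⟩, ⟨2, 1⟩, ⟨0, 3⟩, ⟨0, 2⟩, ⟨2, 0⟩],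
  ![⟨2, 3⟩, ⟨2, 0⟩, ⟨2, 0⟩, ⟨0, 2⟩, ⟨2, 2⟩, ⟨1, 2⟩, ⟨3, 1⟩, ⟨0, 1⟩, ⟨0, 2⟩, ⟨2, 1⟩, ⟨0, 0⟩, ⟨3, 2⟩, ⟨2, 2⟩, ⟨2, 3⟩, ⟨1, 0⟩, ⟨1, 3⟩, ⟨2, 3⟩, ⟨3, 3⟩, ⟨0, 0⟩, ⟨0, 0⟩, ⟨1, 1⟩, ⟨0, 0⟩, ⟨0, 1⟩, ⟨2, 0⟩, ⟨0, 3⟩, ⟨3, 1⟩],
  ![⟨0, 1⟩, ⟨3, 3⟩, ⟨0, 2⟩, ⟨0, 0⟩, ⟨2, 0⟩, ⟨1, 0⟩, ⟨3, 0⟩, ⟨3, 3⟩, ⟨1, 1⟩, ⟨0, 3⟩, ⟨1, 2⟩, ⟨3, 1⟩, ⟨2, 1⟩, ⟨1, 0⟩, ⟨0, 1⟩, ⟨2, 2⟩, ⟨2, 0⟩, ⟨1, 1⟩, ⟨0, 1⟩, ⟨3, 0⟩, ⟨1, 0⟩, ⟨3, 2⟩, ⟨0, 0⟩, ⟨3, 2⟩, ⟨0, 3⟩, ⟨2, 2⟩],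
  ![⟨1, 0⟩, ⟨2, 0⟩, ⟨3, 0⟩, ⟨3, 1⟩, ⟨3, 2⟩, ⟨2, 1⟩, ⟨3, 2⟩, ⟨1, 3⟩, ⟨2, 0⟩, ⟨0, 3⟩, ⟨1, 2⟩, ⟨3, 0⟩, ⟨0, 0⟩, ⟨1, 3⟩, ⟨1, 0⟩, ⟨2, 0⟩, ⟨1, 3⟩, ⟨1, 3⟩, ⟨0, 0⟩, ⟨0, 0⟩, ⟨1, 1⟩, ⟨2, 1⟩, ⟨2, 2⟩, ⟨2, 1⟩, ⟨0, 3⟩, ⟨3, 1⟩],
  ![⟨1, 0⟩, ⟨2, 3⟩, ⟨0, 1⟩, ⟨2, 0⟩, ⟨2, 2⟩, ⟨3, 3⟩, ⟨1, 3⟩, ⟨2, 1⟩, ⟨2, 3⟩, ⟨1, 2⟩, ⟨1, 1⟩, ⟨2, 2⟩, ⟨0, 0⟩, ⟨2, 3⟩, ⟨2, 0⟩, ⟨3, 1⟩, ⟨2, 0⟩, ⟨3, 3⟩, ⟨0, 1⟩, ⟨3, 0⟩, ⟨1, 0⟩, ⟨1, 0⟩, ⟨3, 2⟩, ⟨3, 1⟩, ⟨0, 0⟩, ⟨0, 2⟩],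
  ![⟨1, 1⟩, ⟨3, 0⟩, ⟨1, 0⟩, ⟨1, 1⟩, ⟨1, 1⟩, ⟨3, 1⟩, ⟨1, 2⟩, ⟨3, 0⟩, ⟨1, 3⟩, ⟨0, 3⟩, ⟨2, 3⟩, ⟨0, 0⟩, ⟨0, 3⟩, ⟨2, 2⟩, ⟨2, 0⟩, ⟨3, 1⟩, ⟨2, 0⟩, ⟨0, 1⟩, ⟨0, 1⟩, ⟨0, 0⟩, ⟨1, 1⟩, ⟨0, 3⟩, ⟨2, 2⟩, ⟨1, 2⟩, ⟨1, 2⟩, ⟨1, 1⟩],
  ![⟨2, 3⟩, ⟨2, 3⟩, ⟨3, 1⟩, ⟨3, 3⟩, ⟨2, 1⟩, ⟨0, 2⟩, ⟨3, 3⟩, ⟨0, 2⟩, ⟨0, 2⟩, ⟨0, 1⟩, ⟨3, 1⟩, ⟨2, 2⟩, ⟨0, 1⟩, ⟨0, 0⟩, ⟨3, 1⟩, ⟨1, 3⟩, ⟨2, 3⟩, ⟨1, 3⟩, ⟨0, 0⟩, ⟨1, 3⟩, ⟨1, 1⟩, ⟨3, 1⟩, ⟨1, 1⟩, ⟨1, 1⟩, ⟨1, 3⟩, ⟨3, 3⟩],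
  ![⟨0, 2⟩, ⟨1, 3⟩, ⟨3, 0⟩, ⟨3, 1⟩, ⟨1, 0⟩, ⟨2, 0⟩, ⟨0, 1⟩, ⟨2, 3⟩, ⟨0, 2⟩, ⟨1, 3⟩, ⟨2, 2⟩, ⟨1, 1⟩, ⟨2, 1⟩, ⟨1, 1⟩, ⟨0, 0⟩, ⟨2, 2⟩, ⟨2, 0⟩, ⟨3, 3⟩, ⟨0, 0⟩, ⟨1, 0⟩, ⟨0, 1⟩, ⟨3, 1⟩, ⟨0, 0⟩, ⟨3, 1⟩, ⟨1, 3⟩, ⟨0, 0⟩],
  ![⟨1, 1⟩, ⟨0, 1⟩, ⟨3, 1⟩, ⟨3, 3⟩, ⟨2, 2⟩, ⟨2, 0⟩, ⟨1, 2⟩, ⟨2, 3⟩, ⟨3, 3⟩, ⟨0, 1⟩, ⟨3, 1⟩, ⟨0, 1⟩, ⟨3, 2⟩, ⟨2, 0⟩, ⟨1, 0⟩, ⟨3, 1⟩, ⟨2, 0⟩, ⟨2, 1⟩, ⟨0, 1⟩, ⟨1, 0⟩, ⟨0, 1⟩, ⟨3, 1⟩, ⟨2, 2⟩, ⟨0, 2⟩, ⟨0, 2⟩, ⟨2, 2⟩],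
  ![⟨0, 2⟩, ⟨1, 2⟩, ⟨0, 1⟩, ⟨3, 0⟩, ⟨2, 0⟩, ⟨2, 0⟩, ⟨3, 0⟩, ⟨3, 2⟩, ⟨3, 2⟩, ⟨2, 2⟩, ⟨3, 0⟩, ⟨0, 1⟩, ⟨1, 2⟩, ⟨1, 3⟩, ⟨1, 0⟩, ⟨1, 1⟩, ⟨3, 3⟩, ⟨1, 0⟩, ⟨0, 1⟩, ⟨1, 3⟩, ⟨1, 1⟩, ⟨2, 2⟩, ⟨0, 0⟩, ⟨1, 1⟩, ⟨1, 3⟩, ⟨0, 2⟩],
  ![⟨2, 3⟩, ⟨2, 0⟩, ⟨3, 0⟩, ⟨1, 0⟩, ⟨0, 1⟩, ⟨1, 0⟩, ⟨2, 1⟩, ⟨2, 1⟩, ⟨1, 1⟩, ⟨1, 2⟩, ⟨2, 2⟩, ⟨3, 3⟩, ⟨3, 1⟩, ⟨1, 0⟩, ⟨1, 0⟩, ⟨1, 1⟩, ⟨1, 1⟩, ⟨1, 0⟩, ⟨0, 1⟩, ⟨0, 0⟩, ⟨0, 0⟩, ⟨3, 3⟩, ⟨1, 1⟩, ⟨0, 2⟩, ⟨0, 2⟩, ⟨2, 2⟩],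
  ![⟨1, 3⟩, ⟨1, 1⟩, ⟨0, 2⟩, ⟨2, 0⟩, ⟨2, 0⟩, ⟨0, 2⟩, ⟨2, 3⟩, ⟨0, 3⟩, ⟨3, 0⟩, ⟨2, 2⟩, ⟨0, 1⟩, ⟨3, 2⟩, ⟨3, 0⟩, ⟨2, 3⟩, ⟨2, 0⟩, ⟨0, 2⟩, ⟨1, 0⟩, ⟨2, 1⟩, ⟨0, 0⟩, ⟨3, 0⟩, ⟨1, 0⟩, ⟨2, 2⟩, ⟨0, 2⟩, ⟨3, 1⟩, ⟨1, 3⟩, ⟨2, 0⟩],
  ![⟨3, 1⟩, ⟨3, 1⟩, ⟨2, 2⟩, ⟨1, 0⟩, ⟨1, 1⟩, ⟨3, 0⟩, ⟨2, 2⟩, ⟨3, 1⟩, ⟨0, 2⟩, ⟨0, 0⟩, ⟨2, 0⟩, ⟨1, 1⟩, ⟨2, 3⟩, ⟨1, 0⟩, ⟨0, 1⟩, ⟨3, 3⟩, ⟨1, 0⟩, ⟨0, 2⟩, ⟨0, 0⟩, ⟨3, 1⟩, ⟨0, 0⟩, ⟨0, 0⟩, ⟨0, 0⟩, ⟨0, 0⟩, ⟨0, 0⟩, ⟨0, 0⟩],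
  ![⟨0, 3⟩, ⟨0, 3⟩, ⟨2, 3⟩, ⟨0, 3⟩, ⟨0, 2⟩, ⟨2, 3⟩, ⟨3, 1⟩, ⟨1, 3⟩, ⟨2, 1⟩, ⟨2, 3⟩, ⟨3, 0⟩, ⟨0, 0⟩, ⟨3, 2⟩, ⟨0, 0⟩, ⟨3, 1⟩, ⟨0, 0⟩, ⟨0, 0⟩, ⟨1, 2⟩, ⟨0, 0⟩, ⟨0, 0⟩, ⟨0, 0⟩, ⟨2, 0⟩, ⟨3, 3⟩, ⟨1, 3⟩, ⟨1, 3⟩, ⟨0, 2⟩],
  ![⟨1, 3⟩, ⟨1, 0⟩, ⟨1, 1⟩, ⟨1, 3⟩, ⟨2, 1⟩, ⟨0, 1⟩, ⟨3, 1⟩, ⟨2, 1⟩, ⟨2, 0⟩, ⟨2, 1⟩, ⟨0, 0⟩, ⟨1, 2⟩, ⟨3, 0⟩, ⟨2, 2⟩, ⟨2, 0⟩, ⟨3, 1⟩, ⟨2, 0⟩, ⟨2, 0⟩, ⟨0, 1⟩, ⟨3, 1⟩, ⟨0, 0⟩, ⟨1, 1⟩, ⟨0, 2⟩, ⟨3, 1⟩, ⟨1, 3⟩, ⟨0, 2⟩],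
  ![⟨2, 2⟩, ⟨3, 1⟩, ⟨3, 1⟩, ⟨0, 3⟩, ⟨1, 3⟩, ⟨3, 3⟩, ⟨2, 3⟩, ⟨2, 2⟩, ⟨2, 2⟩, ⟨3, 3⟩, ⟨2, 2⟩, ⟨0, 3⟩, ⟨3, 0⟩, ⟨1, 0⟩, ⟨0, 1⟩, ⟨0, 2⟩, ⟨1, 1⟩, ⟨2, 0⟩, ⟨0, 0⟩, ⟨3, 1⟩, ⟨0, 0⟩, ⟨0, 2⟩, ⟨0, 0⟩, ⟨2, 2⟩, ⟨0, 0⟩, ⟨2, 2⟩]]

/-- the remainders, divided by 4 -/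
def zO : Fin 19 → RuVec := ![
  ruOfArray ![![⟨-5, -5⟩, ⟨0, -1⟩, ⟨-1, -1⟩, ⟨1, 2⟩], ![⟨-2, 0⟩, ⟨0, -2⟩, ⟨1, 0⟩, ⟨1, -1⟩], ![⟨-3, 0⟩, ⟨1, -1⟩, ⟨3, -1⟩, ⟨1, 0⟩], ![⟨-1, 0⟩, ⟨-1, 0⟩, ⟨1, 0⟩, ⟨-2, -1⟩], ![⟨-3, 0⟩, ⟨0, 0⟩, ⟨-1, -2⟩, ⟨1, -1⟩], ![⟨1, -1⟩, ⟨-2, 0⟩, ⟨-1, -1⟩, ⟨1, 2⟩], ![⟨0, 0⟩, ⟨-3, -2⟩, ⟨0, 1⟩, ⟨-1, -1⟩]],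
  ruOfArray ![![⟨-6, -5⟩, ⟨0, 3⟩, ⟨0, -3⟩, ⟨0, 4⟩], ![⟨-2, 1⟩, ⟨2, -2⟩, ⟨1, 3⟩, ⟨0, -2⟩], ![⟨-2, -1⟩, ⟨0, -2⟩, ⟨3, 0⟩, ⟨1, 0⟩], ![⟨0, -2⟩, ⟨-1, 1⟩, ⟨0, -1⟩, ⟨-2, -1⟩], ![⟨-3, 0⟩, ⟨2, -1⟩, ⟨-1, -2⟩, ⟨0, -1⟩], ![⟨-1, -3⟩, ⟨-3, -1⟩, ⟨0, -1⟩, ⟨-1, 2⟩], ![⟨-1, -2⟩, ⟨0, -2⟩, ⟨1, 1⟩, ⟨0, -2⟩]],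
  ruOfArray ![![⟨-4, -5⟩, ⟨1, -2⟩, ⟨-2, -2⟩, ⟨0, 3⟩], ![⟨-2, 0⟩, ⟨2, 2⟩, ⟨2, 2⟩, ⟨-1, 0⟩], ![⟨-1, 0⟩, ⟨1, -2⟩, ⟨1, 1⟩, ⟨3, -1⟩], ![⟨2, 0⟩, ⟨0, 1⟩, ⟨0, 1⟩, ⟨-2, -1⟩], ![⟨-1, 0⟩, ⟨1, 2⟩, ⟨0, -1⟩, ⟨2, -1⟩], ![⟨0, 0⟩, ⟨-1, -1⟩, ⟨0, -2⟩, ⟨0, 1⟩], ![⟨0, -1⟩, ⟨1, -1⟩, ⟨0, 2⟩, ⟨-1, -1⟩]],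
  ruOfArray ![![⟨-5, -7⟩, ⟨0, -2⟩, ⟨-1, -3⟩, ⟨0, 4⟩], ![⟨-2, 0⟩, ⟨0, -1⟩, ⟨3, 1⟩, ⟨0, -2⟩], ![⟨-2, 0⟩, ⟨0, -3⟩, ⟨1, -1⟩, ⟨3, 0⟩], ![⟨0, -1⟩, ⟨3, 1⟩, ⟨1, 0⟩, ⟨-3, 0⟩], ![⟨-3, 1⟩, ⟨0, 0⟩, ⟨0, -1⟩, ⟨1, 0⟩], ![⟨-1, 0⟩, ⟨-3, 0⟩, ⟨-1, -2⟩, ⟨-1, 1⟩], ![⟨-2, -2⟩, ⟨1, -3⟩, ⟨3, -2⟩, ⟨-1, -2⟩]],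
  ruOfArray ![![⟨-6, -5⟩, ⟨0, 0⟩, ⟨-1, -2⟩, ⟨3, 0⟩], ![⟨-1, 1⟩, ⟨1, -1⟩, ⟨1, 2⟩, ⟨0, -2⟩], ![⟨-3, 1⟩, ⟨1, -1⟩, ⟨3, 0⟩, ⟨1, 1⟩], ![⟨1, -1⟩, ⟨2, 1⟩, ⟨0, -1⟩, ⟨0, 2⟩], ![⟨-2, 0⟩, ⟨0, 2⟩, ⟨-1, -1⟩, ⟨2, 1⟩], ![⟨2, 1⟩, ⟨-1, 0⟩, ⟨-1, -2⟩, ⟨-2, 0⟩], ![⟨-2, -1⟩, ⟨0, -1⟩, ⟨2, -2⟩, ⟨1, -1⟩]],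
  ruOfArray ![![⟨-7, -4⟩, ⟨0, 0⟩, ⟨1, 1⟩, ⟨4, 4⟩], ![⟨-1, 0⟩, ⟨1, 0⟩, ⟨2, 2⟩, ⟨0, -1⟩], ![⟨-2, 1⟩, ⟨0, -3⟩, ⟨2, 0⟩, ⟨1, 0⟩], ![⟨1, -3⟩, ⟨2, 1⟩, ⟨0, -1⟩, ⟨-2, -1⟩], ![⟨-1, 3⟩, ⟨1, -1⟩, ⟨-1, -1⟩, ⟨1, -1⟩], ![⟨-1, -1⟩, ⟨-3, 0⟩, ⟨-1, 0⟩, ⟨-1, 0⟩], ![⟨0, -2⟩, ⟨-1, -2⟩, ⟨0, 0⟩, ⟨-2, -1⟩]],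
  ruOfArray ![![⟨-6, -5⟩, ⟨0, -1⟩, ⟨-1, -1⟩, ⟨1, 2⟩], ![⟨-3, 0⟩, ⟨0, -2⟩, ⟨3, 1⟩, ⟨1, 0⟩], ![⟨-2, 1⟩, ⟨2, -1⟩, ⟨4, 0⟩, ⟨1, 0⟩], ![⟨1, 0⟩, ⟨2, 1⟩, ⟨-1, 1⟩, ⟨-3, 1⟩], ![⟨-2, 1⟩, ⟨1, -1⟩, ⟨0, -2⟩, ⟨3, -1⟩], ![⟨0, 0⟩, ⟨-1, -1⟩, ⟨-1, -1⟩, ⟨1, 1⟩], ![⟨-2, 0⟩, ⟨-1, -3⟩, ⟨2, 0⟩, ⟨1, -1⟩]],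
  ruOfArray ![![⟨-6, -7⟩, ⟨-1, -2⟩, ⟨0, -1⟩, ⟨0, 4⟩], ![⟨-2, 1⟩, ⟨1, -2⟩, ⟨2, 1⟩, ⟨0, -2⟩], ![⟨-2, 1⟩, ⟨0, -1⟩, ⟨3, -1⟩, ⟨3, 1⟩], ![⟨1, -1⟩, ⟨2, 2⟩, ⟨2, -1⟩, ⟨-2, -1⟩], ![⟨-3, 1⟩, ⟨2, 0⟩, ⟨-1, -2⟩, ⟨1, 0⟩], ![⟨2, -3⟩, ⟨-2, -2⟩, ⟨-3, -2⟩, ⟨1, 1⟩], ![⟨0, -1⟩, ⟨-1, -1⟩, ⟨1, 1⟩, ⟨-2, 1⟩]],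
  ruOfArray ![![⟨-4, -5⟩, ⟨1, 0⟩, ⟨2, -3⟩, ⟨0, 3⟩], ![⟨-2, 0⟩, ⟨2, -1⟩, ⟨2, 3⟩, ⟨0, -1⟩], ![⟨-1, 0⟩, ⟨2, -2⟩, ⟨2, -2⟩, ⟨2, 0⟩], ![⟨0, 0⟩, ⟨2, 3⟩, ⟨1, -1⟩, ⟨-2, -1⟩], ![⟨-2, 1⟩, ⟨2, 0⟩, ⟨-1, -1⟩, ⟨2, -2⟩], ![⟨0, -2⟩, ⟨-2, 1⟩, ⟨0, -1⟩, ⟨0, 3⟩], ![⟨0, -1⟩, ⟨1, -2⟩, ⟨2, 1⟩, ⟨-1, -1⟩]],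
  ruOfArray ![![⟨-6, -7⟩, ⟨1, -2⟩, ⟨-1, -1⟩, ⟨1, 1⟩], ![⟨-2, 0⟩, ⟨1, -1⟩, ⟨2, 1⟩, ⟨1, -1⟩], ![⟨-2, 0⟩, ⟨2, -2⟩, ⟨3, 0⟩, ⟨1, 1⟩], ![⟨1, 1⟩, ⟨2, 2⟩, ⟨0, 0⟩, ⟨-2, 0⟩], ![⟨-2, 0⟩, ⟨0, -1⟩, ⟨0, 0⟩, ⟨1, -1⟩], ![⟨2, 0⟩, ⟨-1, 1⟩, ⟨-1, -3⟩, ⟨0, -1⟩], ![⟨-2, -3⟩, ⟨0, -1⟩, ⟨2, 0⟩, ⟨0, -1⟩]],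
  ruOfArray ![![⟨-6, -5⟩, ⟨0, -4⟩, ⟨-3, 0⟩, ⟨4, 4⟩], ![⟨-2, 1⟩, ⟨1, -1⟩, ⟨3, 2⟩, ⟨2, -1⟩], ![⟨-1, 0⟩, ⟨1, -3⟩, ⟨2, 0⟩, ⟨0, -1⟩], ![⟨0, -4⟩, ⟨0, 0⟩, ⟨3, 2⟩, ⟨-4, 1⟩], ![⟨-2, 1⟩, ⟨1, 0⟩, ⟨0, -1⟩, ⟨0, -1⟩], ![⟨0, -1⟩, ⟨-1, -1⟩, ⟨-1, -1⟩, ⟨0, -2⟩], ![⟨-2, -3⟩, ⟨-1, -1⟩, ⟨1, -1⟩, ⟨-1, -3⟩]],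
  ruOfArray ![![⟨-6, -7⟩, ⟨1, -3⟩, ⟨-1, -1⟩, ⟨2, 2⟩], ![⟨-2, 0⟩, ⟨1, -1⟩, ⟨5, 2⟩, ⟨1, 0⟩], ![⟨-3, 0⟩, ⟨1, -2⟩, ⟨1, 0⟩, ⟨1, -2⟩], ![⟨1, -2⟩, ⟨2, 1⟩, ⟨0, 2⟩, ⟨-3, 0⟩], ![⟨-3, 2⟩, ⟨1, -1⟩, ⟨1, -1⟩, ⟨1, 0⟩], ![⟨1, -2⟩, ⟨-1, 1⟩, ⟨-1, -1⟩, ⟨2, 0⟩], ![⟨0, -2⟩, ⟨-1, -4⟩, ⟨3, 0⟩, ⟨-1, -2⟩]],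
  ruOfArray ![![⟨-7, -6⟩, ⟨-1, 0⟩, ⟨2, -1⟩, ⟨3, 2⟩], ![⟨-2, 1⟩, ⟨1, -2⟩, ⟨1, 2⟩, ⟨3, -3⟩], ![⟨-3, 1⟩, ⟨2, -3⟩, ⟨3, -2⟩, ⟨0, 1⟩], ![⟨3, -3⟩, ⟨0, 1⟩, ⟨2, -2⟩, ⟨-2, 1⟩], ![⟨-1, 0⟩, ⟨2, -1⟩, ⟨0, -2⟩, ⟨1, -4⟩], ![⟨1, -3⟩, ⟨-2, 0⟩, ⟨1, -3⟩, ⟨2, 0⟩], ![⟨3, -3⟩, ⟨-2, -3⟩, ⟨2, 0⟩, ⟨1, -1⟩]],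
  ruOfArray ![![⟨-5, -4⟩, ⟨2, 0⟩, ⟨-1, -3⟩, ⟨5, 2⟩], ![⟨0, 1⟩, ⟨1, -1⟩, ⟨3, 2⟩, ⟨0, -2⟩], ![⟨-2, 0⟩, ⟨1, -3⟩, ⟨1, 1⟩, ⟨1, 1⟩], ![⟨-1, -1⟩, ⟨2, 1⟩, ⟨-1, -2⟩, ⟨-2, 1⟩], ![⟨-1, 2⟩, ⟨0, -1⟩, ⟨-1, -2⟩, ⟨1, -1⟩], ![⟨-2, 0⟩, ⟨0, 1⟩, ⟨0, -1⟩, ⟨1, 1⟩], ![⟨0, -3⟩, ⟨-1, -1⟩, ⟨1, -1⟩, ⟨1, -2⟩]],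
  ruOfArray ![![⟨-6, -5⟩, ⟨0, 0⟩, ⟨0, -1⟩, ⟨3, 2⟩], ![⟨-1, 0⟩, ⟨1, -3⟩, ⟨1, 1⟩, ⟨-1, -2⟩], ![⟨-3, 2⟩, ⟨0, -3⟩, ⟨4, 0⟩, ⟨1, 0⟩], ![⟨1, -2⟩, ⟨1, -1⟩, ⟨1, -1⟩, ⟨-1, 1⟩], ![⟨-2, 1⟩, ⟨0, 0⟩, ⟨-1, -2⟩, ⟨0, -2⟩], ![⟨2, -2⟩, ⟨0, -1⟩, ⟨-2, 0⟩, ⟨0, 1⟩], ![⟨-1, -2⟩, ⟨-3, -1⟩, ⟨-2, -1⟩, ⟨1, -2⟩]],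
  ruOfArray ![![⟨-5, -2⟩, ⟨0, 0⟩, ⟨-1, 0⟩, ⟨2, 1⟩], ![⟨0, 0⟩, ⟨2, -1⟩, ⟨2, 0⟩, ⟨0, 0⟩], ![⟨-2, -1⟩, ⟨-1, -2⟩, ⟨1, -1⟩, ⟨2, -1⟩], ![⟨1, -1⟩, ⟨0, 1⟩, ⟨1, -1⟩, ⟨-1, -1⟩], ![⟨-1, 0⟩, ⟨1, 0⟩, ⟨1, -1⟩, ⟨0, -1⟩], ![⟨0, -1⟩, ⟨-1, 1⟩, ⟨1, -1⟩, ⟨-1, -2⟩], ![⟨-2, 0⟩, ⟨2, 0⟩, ⟨1, 1⟩, ⟨-2, -2⟩]],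
  ruOfArray ![![⟨-6, -7⟩, ⟨1, -4⟩, ⟨2, -3⟩, ⟨3, 2⟩], ![⟨-2, 0⟩, ⟨0, -3⟩, ⟨4, 2⟩, ⟨2, -1⟩], ![⟨-1, -1⟩, ⟨-1, -2⟩, ⟨1, 0⟩, ⟨0, -1⟩], ![⟨1, -2⟩, ⟨3, 1⟩, ⟨2, 1⟩, ⟨-3, 1⟩], ![⟨-1, 2⟩, ⟨1, 0⟩, ⟨0, -1⟩, ⟨1, -3⟩], ![⟨3, -3⟩, ⟨-2, 1⟩, ⟨1, 0⟩, ⟨4, 2⟩], ![⟨1, -4⟩, ⟨-2, -3⟩, ⟨2, 1⟩, ⟨-1, -1⟩]],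
  ruOfArray ![![⟨-6, -4⟩, ⟨0, 1⟩, ⟨3, -4⟩, ⟨3, 0⟩], ![⟨-2, 0⟩, ⟨2, -2⟩, ⟨2, 1⟩, ⟨1, -1⟩], ![⟨-2, 1⟩, ⟨-1, -2⟩, ⟨2, -1⟩, ⟨1, 0⟩], ![⟨1, -2⟩, ⟨1, 1⟩, ⟨2, -1⟩, ⟨0, 1⟩], ![⟨-1, 0⟩, ⟨2, -2⟩, ⟨0, 0⟩, ⟨-1, 0⟩], ![⟨1, -2⟩, ⟨0, 1⟩, ⟨-1, -2⟩, ⟨0, -1⟩], ![⟨0, -1⟩, ⟨-3, -3⟩, ⟨0, -3⟩, ⟨-1, -1⟩]],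
  ruOfArray ![![⟨-6, -6⟩, ⟨-1, -4⟩, ⟨-2, -2⟩, ⟨4, 1⟩], ![⟨-3, 1⟩, ⟨1, 0⟩, ⟨2, 1⟩, ⟨-2, -2⟩], ![⟨-4, -2⟩, ⟨-3, -2⟩, ⟨4, -1⟩, ⟨0, 0⟩], ![⟨-1, -2⟩, ⟨1, -1⟩, ⟨-1, -2⟩, ⟨-3, 0⟩], ![⟨-2, -1⟩, ⟨1, 1⟩, ⟨-2, -1⟩, ⟨-1, -2⟩], ![⟨-1, -2⟩, ⟨-2, 1⟩, ⟨-2, -3⟩, ⟨1, 0⟩], ![⟨-2, 0⟩, ⟨-2, -4⟩, ⟨1, 0⟩, ⟨-2, -1⟩]]]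

set_option maxRecDepth 100000 in
theorem ruB_cert : ∀ l p, ruB l p = (∑ m, cO l m * oV m p) + 4 * zO l p := by
  decide +kernel

end Cfsg.Agent.Lib.Helper8.Ru2
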