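import Cfsg.Agent.Lib.Helper8.Ru2.MemL

/-!
The Rudvalis lattice is the set of all vectors whose Hermitian products with the 19 basis vectors are
divisible by 4. (helper8)
-/

set_option autoImplicit false

namespace Cfsg.Agent.Lib.Helper8.Ru2

open Cfsg.Spor Cfsg.Agent.Lib.Helper8.RuLat

theorem smul_mem_ruLattice (c : GaussianInt) {v : RuVec} (hv : v ∈ ruLattice) : c • v ∈ ruLattice := by
  have e : c • v = c.re • v + c.im • (gI • v) := by
    funext p
    simp only [Pi.add_apply, Pi.smul_apply, smul_eq_mul, zsmul_eq_mul]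
    apply Zsqrtd.ext <;> simp [gI]
  rw [e]
  exact ruLattice.add_mem (ruLattice.zsmul_mem hv _) (ruLattice.zsmul_mem (gI_smul_mem_ruLattice hv) _)

/-- the four frame vectors of the first component -/
def eFirst : Fin 4 → RuVec := ![tb 0, (-gI) • ruRj (tb 0), (-gI) • ruRk (tb 0),
  (-1 : GaussianInt) • ruRj ((-gI) • ruRk (tb 0))]

theorem eFirst_mem : ∀ t, eFirst t ∈ ruLattice := by
  have h0 : tb 0 ∈ ruLattice := tb_mem 0 (by decide)
  intro t
  fin_cases t
  · exact h0
  · exact smul_mem_ruLattice _ (ruRj_mem h0)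
  · exact smul_mem_ruLattice _ (ruRk_mem h0)
  · exact smul_mem_ruLattice _ (ruRj_mem (smul_mem_ruLattice _ (ruRk_mem h0)))

theorem iterate_shiftInv_mem {v : RuVec} (hv : v ∈ ruLattice) : ∀ k : ℕ, ruShiftInv^[k] v ∈ ruLattice
  | 0 => hv
  | k + 1 => by
    rw [Function.iterate_succ_apply']
    exact ruShiftInv_mem (iterate_shiftInv_mem hv k)

set_option maxRecDepth 100000 in
theorem single_eq : ∀ (n : Fin 7) (t : Fin 4) (q : RuIdx),
    (Pi.single (n, t) (4 : GaussianInt) : RuVec) q = (ruShiftInv^[n.val] (eFirst t)) q := by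
  decide +kernel

theorem single_mem (p : RuIdx) : (Pi.single p (4 : GaussianInt) : RuVec) ∈ ruLattice := by
  obtain ⟨n, t⟩ := p
  have : (Pi.single (n, t) (4 : GaussianInt) : RuVec) = ruShiftInv^[n.val] (eFirst t) :=
    funext (single_eq n t)
  rw [this]
  exact iterate_shiftInv_mem (eFirst_mem t) _

theorem four_smul_mem (z : RuVec) : (4 : GaussianInt) • z ∈ ruLattice := by
  have e : (4 : GaussianInt) • z = ∑ p, z p • (Pi.single p (4 : GaussianInt) : RuVec) := by
    funext q
    rw [Finset.sum_apply]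
    simp only [Pi.smul_apply, smul_eq_mul, Pi.single_apply]
    rw [Finset.sum_eq_single q]
    · rw [if_pos rfl, mul_comm]
    · intro b _ hb
      rw [if_neg (Ne.symm hb), mul_zero]
    · intro h
      exact absurd (Finset.mem_univ _) h
  rw [e]
  exact ruLattice.sum_mem fun p _ => smul_mem_ruLattice _ (single_mem p)

theorem ruB_mem (l : Fin 19) : ruB l ∈ ruLattice := by
  have e : ruB l = (∑ m, cO l m • oV m) + (4 : GaussianInt) • zO l := by
    funext p
    rw [ruB_cert l p]
    simp [Finset.sum_apply]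
  rw [e]
  exact ruLattice.add_mem (ruLattice.sum_mem fun m _ => smul_mem_ruLattice _ (oV_mem m)) (four_smul_mem _)

theorem gA_mem (j : Fin 19) : gA j ∈ ruLattice := by
  rw [gA_eq]
  exact ruLattice.add_mem (ruLattice.sum_mem fun l _ => smul_mem_ruLattice _ (ruB_mem l)) (four_smul_mem _)

theorem gB_mem (j : Fin 37) : gB j ∈ ruLattice := by
  rw [gB_eq]
  exact ruLattice.add_mem (ruLattice.sum_mem fun l _ => smul_mem_ruLattice _ (ruB_mem l)) (four_smul_mem _)

theorem idxOf_pair (p : RuIdx) : idxOf (4 * p.1.val + p.2.val) = p := by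
  obtain ⟨⟨n, hn⟩, ⟨t, ht⟩⟩ := p
  apply Prod.ext
  · apply Fin.ext
    show (4 * n + t) / 4 % 7 = n
    omega
  · apply Fin.ext
    show (4 * n + t) % 4 = t
    omega

theorem rc_re (w : RuVec) (p : RuIdx) (h : 2 * (4 * p.1.val + p.2.val) < 64) :
    rc w ⟨2 * (4 * p.1.val + p.2.val), h⟩ = (w p).re := by
  have h1 := p.1.isLt
  have h2 := p.2.isLt
  unfold rc rcN
  simp only
  rw [if_pos (by omega), if_pos (by omega), show 2 * (4 * p.1.val + p.2.val) / 2 = 4 * p.1.val + p.2.val by omega,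
    idxOf_pair]

theorem rc_im (w : RuVec) (p : RuIdx) (h : 2 * (4 * p.1.val + p.2.val) + 1 < 64) :
    rc w ⟨2 * (4 * p.1.val + p.2.val) + 1, h⟩ = (w p).im := by
  have h1 := p.1.isLt
  have h2 := p.2.isLt
  unfold rc rcN
  simp only
  rw [if_pos (by omega), if_neg (by omega),
    show (2 * (4 * p.1.val + p.2.val) + 1) / 2 = 4 * p.1.val + p.2.val by omega, idxOf_pair]

theorem idx_bound (p : RuIdx) : 2 * (4 * p.1.val + p.2.val) + 1 < 64 := by
  have h1 := p.1.isLt
  have h2 := p.2.isLt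
  omega

theorem exists_four_smul (w : RuVec) (h : ∀ q : Fin 64, (4 : ℤ) ∣ rc w q) :
    ∃ z : RuVec, w = (4 : GaussianInt) • z := by
  refine ⟨fun p => ⟨(w p).re / 4, (w p).im / 4⟩, ?_⟩
  funext p
  have hb := idx_bound p
  have hre := h ⟨2 * (4 * p.1.val + p.2.val), by omega⟩
  have him := h ⟨2 * (4 * p.1.val + p.2.val) + 1, hb⟩
  rw [rc_re] at hre
  rw [rc_im] at him
  simp only [Pi.smul_apply, smul_eq_mul]
  apply Zsqrtd.ext
  · simp
    omega
  · simp
    omega

/-- the lattice is all of `ruM` -/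
theorem ruM_le_ruLattice : ruM ≤ ruLattice := by
  intro x hx
  obtain ⟨a, b, _, _, hab⟩ := decompZ hx
  set w : RuVec := x - (∑ i, a i • gA i + ∑ m, b m • gB m) with hw
  have hwr : ∀ q, rc w q = rc x q - (∑ i, a i * rc (gA i) q + ∑ m, b m * rc (gB m) q) := by
    intro q
    rw [← rcAdd_apply, hw, map_sub, map_add, map_sum, map_sum]
    simp only [map_zsmul, rcAdd_apply, smul_eq_mul]
  obtain ⟨z, hz⟩ := exists_four_smul w (fun q => by rw [hwr]; exact hab q)
  have hx' : x = w + (∑ i, a i • gA i + ∑ m, b m • gB m) := by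
    rw [hw]
    abel
  rw [hx', hz]
  exact ruLattice.add_mem (four_smul_mem z) (ruLattice.add_mem
    (ruLattice.sum_mem fun i _ => ruLattice.zsmul_mem (gA_mem i) _)
    (ruLattice.sum_mem fun m _ => ruLattice.zsmul_mem (gB_mem m) _))

theorem mem_ruLattice_iff (x : RuVec) : x ∈ ruLattice ↔ ∀ j, (4 : GaussianInt) ∣ herm x (ruB j) :=
  ⟨fun h => ruLattice_le_ruM h, fun h => ruM_le_ruLattice h⟩

end Cfsg.Agent.Lib.Helper8.Ru2
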