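import Cfsg.Agent.Lib.Helper8.Ru2.DfsLink
import Cfsg.Agent.Lib.Helper8.Ru2.MemL2

/-!
The vectors of norm 16 with given residues modulo 4: a vector with sixteen odd real coordinates has its
coordinates in `{1, -1, 0}`; a vector divisible by 4 has a single non-zero real coordinate. (helper8)
-/

set_option autoImplicit false

namespace Cfsg.Agent.Lib.Helper8.Ru2

open Cfsg.Spor Cfsg.Agent.Lib.Helper8.RuLat

/-- the integer in `{1, -1, 0}` with a given residue modulo 4 -/
def sg (a : ℕ) : ℤ := if a = 1 then 1 else if a = 3 then -1 else 0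

theorem one_le_sq (z : ℤ) (h : z ≤ -1 ∨ 1 ≤ z) : 1 ≤ z * z := by
  rcases h with h | h <;> nlinarith

theorem abs_le_one_of_sq (z : ℤ) (h : z * z ≤ 1) : -1 ≤ z ∧ z ≤ 1 := by
  constructor <;> nlinarith

/-- the step that counts the odd bytes -/
def sOdd : Step := ⟨0, ONES, 0, 0, 16⟩

theorem sOdd_ok : StepOK sOdd := by decide +kernel

/-- a final state is zero or has sixteen odd bytes -/
noncomputable def leafOK (X : ℕ) : Bool := (X == 0) || (lbF sOdd X == 16)

theorem res_lt (z : ℤ) : (z % 4).toNat < 4 := by omega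

theorem dig_code (x : RuVec) (r : Fin 64) : dig (code x) r = (rc x r % 4).toNat :=
  dig_pk _ (fun r => lt_trans (res_lt _) (by decide)) r

theorem dig_zero_k1 (r : Fin 64) : dig sOdd.k2a r = 0 := by
  revert r
  decide

/-- the number of odd bytes of the code of a vector -/
theorem lbF_sOdd (x : RuVec) : lbF sOdd (code x) = ∑ r : Fin 64, dig ONES r * ((rc x r % 4).toNat % 2) := by
  have h := lbF_pk sOdd sOdd_ok (fun r => (rc x r % 4).toNat) (fun r => res_lt _) ?_
  · rw [show code x = pk 64 (fun r => (rc x r % 4).toNat) from rfl, h]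
    refine Finset.sum_congr rfl fun r _ => ?_
    rw [dig_zero_k1, zero_mul, add_zero]
    rfl
  · have : ∑ r : Fin 64, (dig sOdd.k1 r * ((rc x r % 4).toNat % 2) + dig sOdd.k2a r * (w2 ((rc x r % 4).toNat) + 1)) ≤
        ∑ _r : Fin 64, 1 := by
      refine Finset.sum_le_sum fun r _ => ?_
      rw [dig_zero_k1, zero_mul, add_zero]
      have h1 : dig sOdd.k1 r ≤ 1 := dig_ONES_le r
      have h2 : (rc x r % 4).toNat % 2 ≤ 1 := by omega
      calc dig sOdd.k1 r * ((rc x r % 4).toNat % 2) ≤ 1 * 1 := Nat.mul_le_mul h1 h2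
        _ = 1 := rfl
    simp at this
    omega

/-- a vector of norm 16 with sixteen odd real coordinates has all real coordinates in `{1, -1, 0}` -/
theorem unit_of_code {x : RuVec} (hn : ruNorm x = 16) (hX : leafOK (code x) = true) (h0 : code x ≠ 0) :
    ∀ r, rc x r = sg (dig (code x) r) := by
  have h16 : lbF sOdd (code x) = 16 := by
    unfold leafOK at hX
    rw [Bool.or_eq_true] at hX
    rcases hX with h | h
    · exact absurd (by simpa using h) h0
    · simpa using h
  rw [lbF_sOdd] at h16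
  rw [ruNorm_rc] at hn
  have hle : ∀ r : Fin 64, ((dig ONES r * ((rc x r % 4).toNat % 2) : ℕ) : ℤ) ≤ rc x r * rc x r := by
    intro r
    have h1 : dig ONES r ≤ 1 := dig_ONES_le r
    have h3 := mul_self_nonneg (rc x r)
    rcases Nat.eq_zero_or_pos (dig ONES r) with h | h
    · rw [h, zero_mul]
      simpa using h3
    · have h' : dig ONES r = 1 := by omega
      rw [h', one_mul]
      rcases Nat.mod_two_eq_zero_or_one ((rc x r % 4).toNat) with h2 | h2
      · rw [h2]
        simpa using h3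
      · rw [h2]
        have hz : rc x r ≤ -1 ∨ 1 ≤ rc x r := by omega
        push_cast
        exact one_le_sq _ hz
  have hsum : ∑ r : Fin 64, ((dig ONES r * ((rc x r % 4).toNat % 2) : ℕ) : ℤ) = ∑ r : Fin 64, rc x r * rc x r := by
    rw [hn, ← Nat.cast_sum, h16]
    rfl
  have heq := (Finset.sum_eq_sum_iff_of_le (fun r _ => hle r)).1 hsum
  intro r
  have h1 := heq r (Finset.mem_univ _)
  have h2 : dig ONES r ≤ 1 := dig_ONES_le r
  rw [dig_code]
  have h3 : (dig ONES r * ((rc x r % 4).toNat % 2) : ℕ) ≤ 1 := by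
    have : (rc x r % 4).toNat % 2 ≤ 1 := by omega
    calc dig ONES r * ((rc x r % 4).toNat % 2) ≤ 1 * 1 := Nat.mul_le_mul h2 this
      _ = 1 := rfl
  have h4 : rc x r * rc x r ≤ 1 := by
    rw [← h1]
    exact_mod_cast h3
  have h5 : -1 ≤ rc x r ∧ rc x r ≤ 1 := abs_le_one_of_sq _ h4
  obtain ⟨h6, h7⟩ := h5
  have h8 : rc x r = -1 ∨ rc x r = 0 ∨ rc x r = 1 := by omega
  rcases h8 with h | h | h <;> rw [h] <;> decide

theorem code_ne_zero_of_dig {x : RuVec} (r : Fin 64) (h : dig (code x) r ≠ 0) : code x ≠ 0 := by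
  intro h0
  apply h
  rw [h0]
  unfold dig
  simp

/-- a vector of norm 16 divisible by 4 has a single non-zero real coordinate, which is 4 or -4 -/
theorem frame_of_code_zero {x : RuVec} (hn : ruNorm x = 16) (h0 : code x = 0) :
    ∃ (r0 : Fin 64) (s : Bool), ∀ r, rc x r = if r = r0 then cond s 4 (-4) else 0 := by
  have hd : ∀ r, (4 : ℤ) ∣ rc x r := by
    intro r
    have h' : (rc x r % 4).toNat = 0 := pk_eq_zero 64 (fun r => (rc x r % 4).toNat) h0 r
    omega
  rw [ruNorm_rc] at hn
  have hex : ∃ r0, rc x r0 ≠ 0 := by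
    by_contra hcon
    simp only [ne_eq, not_exists, not_not] at hcon
    simp [hcon] at hn
  obtain ⟨r0, hr0⟩ := hex
  have hsq : 16 ≤ rc x r0 * rc x r0 := by
    obtain ⟨k, hk⟩ := hd r0
    have hk0 : k ≠ 0 := by
      rintro rfl
      exact hr0 (by rw [hk]; ring)
    have : 1 ≤ k * k := by
      rcases lt_or_gt_of_ne hk0 with h | h <;> nlinarith
    rw [hk]
    nlinarith
  have hsplit := Finset.add_sum_erase Finset.univ (fun r => rc x r * rc x r) (Finset.mem_univ r0)
  have hnn : ∀ r ∈ Finset.univ.erase r0, 0 ≤ rc x r * rc x r := fun r _ => mul_self_nonneg _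
  have hrest0 : 0 ≤ ∑ r ∈ Finset.univ.erase r0, rc x r * rc x r := Finset.sum_nonneg hnn
  have hrest : ∑ r ∈ Finset.univ.erase r0, rc x r * rc x r = 0 := by linarith
  have hsq' : rc x r0 * rc x r0 = 16 := by linarith
  have hz := (Finset.sum_eq_zero_iff_of_nonneg hnn).1 hrest
  have h4 : rc x r0 = 4 ∨ rc x r0 = -4 := by
    have h1 : (rc x r0 - 4) * (rc x r0 + 4) = 0 := by ring_nf; linarith
    rcases mul_eq_zero.1 h1 with h | h
    · left; linarith
    · right; linarith
  refine ⟨r0, decide (rc x r0 = 4), ?_⟩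
  intro r
  by_cases hr : r = r0
  · rw [if_pos hr, hr]
    rcases h4 with h | h <;> rw [h] <;> simp
  · rw [if_neg hr]
    have := hz r (Finset.mem_erase.2 ⟨hr, Finset.mem_univ _⟩)
    exact mul_self_eq_zero.1 this

/-- a vector is determined by its real coordinates -/
theorem rc_injective {x y : RuVec} (h : ∀ r, rc x r = rc y r) : x = y := by
  funext p
  have hb := idx_bound p
  have hre := h ⟨2 * (4 * p.1.val + p.2.val), by omega⟩
  have him := h ⟨2 * (4 * p.1.val + p.2.val) + 1, hb⟩
  rw [rc_re, rc_re] at hre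
  rw [rc_im, rc_im] at him
  exact Zsqrtd.ext hre him

end Cfsg.Agent.Lib.Helper8.Ru2
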