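import Cfsg.Agent.Lib.Helper8.Ru2.ChainLink

/-!
The automorphism group of the Rudvalis lattice is finite, of order at most 16257 · 2304 · 78 · 25 · 8; an
automorphism fixing the five vectors of the base is the identity. (helper8)
-/

set_option autoImplicit false

namespace Cfsg.Agent.Lib.Helper8.Ru2

open Cfsg.Spor Cfsg.Agent.Lib.Helper8.RuLat

/-- the bases of the stabiliser chain -/
def B1 : List ruLattice := [e0L]
def B2 : List ruLattice := wL ⟨1, by decide⟩ :: B1
def B3 : List ruLattice := wL ⟨2, by decide⟩ :: B2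
def B4 : List ruLattice := wL ⟨3, by decide⟩ :: B3
def B5 : List ruLattice := wL ⟨4, by decide⟩ :: B4

theorem mem_base (m i : ℕ) (hmi : m ≤ 2 * i) (bs : List ruLattice) (g : fourRu)
    (hg : g ∈ fixer fourRu bs)
    (hmem : ∀ t : Fin 28, 1 ≤ t.val → t.val ≤ i → wL t ∈ bs) (he : e0L ∈ bs) (j : Fin 28)
    (hj : 1 ≤ j.val) :
    g • wL j ∈ Tcode (leavesAll.filter (predP (valT j) (condsT j m))) :=
  level_cand j hj m g (hg e0L he)
    (fun k hk => fix_bBL g i (fun t h1 h2 => hg (wL t) (hmem t h1 h2)) k (by omega))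

theorem e0_mem_B1 : e0L ∈ B1 := List.mem_cons_self
theorem e0_mem_B2 : e0L ∈ B2 := List.mem_cons_of_mem _ e0_mem_B1
theorem e0_mem_B3 : e0L ∈ B3 := List.mem_cons_of_mem _ e0_mem_B2
theorem e0_mem_B4 : e0L ∈ B4 := List.mem_cons_of_mem _ e0_mem_B3
theorem e0_mem_B5 : e0L ∈ B5 := List.mem_cons_of_mem _ e0_mem_B4

theorem mem_B1 : ∀ t : Fin 28, 1 ≤ t.val → t.val ≤ 0 → wL t ∈ B1 := by
  intro t h1 h2
  omega

theorem mem_B2 : ∀ t : Fin 28, 1 ≤ t.val → t.val ≤ 1 → wL t ∈ B2 := by
  intro t h1 h2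
  obtain ⟨n, hn⟩ := t
  have : n = 1 := by
    simp only at h1 h2
    omega
  subst this
  exact List.mem_cons_self

theorem mem_B3 : ∀ t : Fin 28, 1 ≤ t.val → t.val ≤ 2 → wL t ∈ B3 := by
  intro t h1 h2
  by_cases h : t.val ≤ 1
  · exact List.mem_cons_of_mem _ (mem_B2 t h1 h)
  · obtain ⟨n, hn⟩ := t
    have : n = 2 := by
      simp only at h h2
      omega
    subst this
    exact List.mem_cons_self

theorem mem_B4 : ∀ t : Fin 28, 1 ≤ t.val → t.val ≤ 3 → wL t ∈ B4 := by
  intro t h1 h2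
  by_cases h : t.val ≤ 2
  · exact List.mem_cons_of_mem _ (mem_B3 t h1 h)
  · obtain ⟨n, hn⟩ := t
    have : n = 3 := by
      simp only at h h2
      omega
    subst this
    exact List.mem_cons_self

theorem mem_B5 : ∀ t : Fin 28, 1 ≤ t.val → t.val ≤ 4 → wL t ∈ B5 := by
  intro t h1 h2
  by_cases h : t.val ≤ 3
  · exact List.mem_cons_of_mem _ (mem_B4 t h1 h)
  · obtain ⟨n, hn⟩ := t
    have : n = 4 := by
      simp only at h h2
      omega
    subst this
    exact List.mem_cons_self

/-! ### the stabiliser of the base is trivial -/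

theorem fixed_of_single (g : fourRu) (hg : g ∈ fixer fourRu B5) (j : Fin 28) (hj : 5 ≤ j.val) :
    g.1 (wL j) = wL j := by
  have h := mem_base 8 4 (by decide) B5 g hg mem_B5 e0_mem_B5 j (by omega)
  rw [single_filt j hj] at h
  obtain ⟨h1, h2⟩ := h
  have hc : code ((g.1 (wL j) : ruLattice) : RuVec) = kW j := List.mem_singleton.1 h1
  apply Subtype.ext
  apply rc_injective
  intro r
  have h3 : rc ((g.1 (wL j) : ruLattice) : RuVec) r = sg (dig (code ((g.1 (wL j) : ruLattice) : RuVec)) r) :=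
    h2 r
  rw [h3, hc]
  exact (wv_rc j r (by omega)).symm

theorem fixed_all (g : fourRu) (hg : g ∈ fixer fourRu B5) (j : Fin 28) : g.1 (wL j) = wL j := by
  by_cases h5 : 5 ≤ j.val
  · exact fixed_of_single g hg j h5
  · by_cases h1 : 1 ≤ j.val
    · exact hg (wL j) (mem_B5 j h1 (by omega))
    · have : j = 0 := Fin.ext (by simp only [Fin.val_zero]; omega)
      rw [this, wL_zero]
      exact hg e0L e0_mem_B5

set_option maxRecDepth 1000000 in
theorem dW_ok : ∀ p q : RuIdx, ∑ j, dW (idx28 p) j * wv j q = if p = q then 164 else 0 := by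
  decide +kernel

/-- a vector orthogonal to the 28 vectors is zero -/
theorem eq_zero_of_orth (y : RuVec) (h : ∀ j, herm y (wv j) = 0) : y = 0 := by
  funext p
  have h1 : herm y (∑ j, dW (idx28 p) j • wv j) = 0 := by
    rw [herm_sum_right]
    apply Finset.sum_eq_zero
    intro j _
    rw [h j, mul_zero]
  have h2 : (∑ j, dW (idx28 p) j • wv j) = (164 : GaussianInt) • (Pi.single p 1 : RuVec) := by
    funext q
    rw [Finset.sum_apply]
    simp only [Pi.smul_apply, smul_eq_mul]
    rw [dW_ok p q, Pi.single_apply]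
    by_cases hpq : p = q
    · rw [if_pos hpq, if_pos hpq.symm, mul_one]
    · rw [if_neg hpq, if_neg (Ne.symm hpq), mul_zero]
  rw [h2, herm_smul_right] at h1
  have h3 : herm y (Pi.single p 1 : RuVec) = y p := by
    unfold herm
    rw [Finset.sum_eq_single p]
    · rw [Pi.single_eq_same, star_one, mul_one]
    · intro b _ hb
      rw [Pi.single_eq_of_ne hb, star_zero, mul_zero]
    · intro hp
      exact absurd (Finset.mem_univ _) hp
  rw [h3] at h1
  have h4 : star (164 : GaussianInt) ≠ 0 := by decide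
  exact (mul_eq_zero.1 h1).resolve_left h4

theorem fix5_trivial (g : fourRu) (hg : g ∈ fixer fourRu B5) : g = 1 := by
  apply Subtype.ext
  apply Equiv.ext
  intro v
  show g.1 v = v
  apply Subtype.ext
  have hz : ((g.1 v : ruLattice) : RuVec) - (v : RuVec) = 0 := by
    apply eq_zero_of_orth
    intro j
    have h := fourRu_herm g v (wL j)
    rw [fixed_all g hg j] at h
    have h' : herm ((g.1 v : ruLattice) : RuVec) (wv j) = herm (v : RuVec) (wv j) := h
    rw [sub_eq_add_neg, herm_add_left, herm_neg_left, h']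
    ring
  exact sub_eq_zero.1 hz

/-! ### the order -/

theorem fixer_B5_card : Finite (fixer fourRu B5) ∧ Nat.card (fixer fourRu B5) = 1 := by
  have hb : fixer fourRu B5 = ⊥ := (Subgroup.eq_bot_iff_forall _).2 fix5_trivial
  rw [hb]
  exact ⟨inferInstance, Subgroup.card_bot⟩

theorem len1 : (leavesAll.filter (predP (valT ⟨1, by decide⟩) (condsT ⟨1, by decide⟩ 0))).length = 2304 :=
  (congrArg (fun p => (leavesAll.filter p).length) link1).trans filt1

theorem len2 : (leavesAll.filter (predP (valT ⟨2, by decide⟩) (condsT ⟨2, by decide⟩ 2))).length = 78 :=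
  (congrArg (fun p => (leavesAll.filter p).length) link2).trans filt2

theorem len3 : (leavesAll.filter (predP (valT ⟨3, by decide⟩) (condsT ⟨3, by decide⟩ 4))).length = 25 :=
  (congrArg (fun p => (leavesAll.filter p).length) link3).trans filt3

theorem len4 : (leavesAll.filter (predP (valT ⟨4, by decide⟩) (condsT ⟨4, by decide⟩ 6))).length = 8 :=
  (congrArg (fun p => (leavesAll.filter p).length) link4).trans filt4

theorem e0_norm : ruNorm e0 = 16 := by
  have h := wv_norm 0
  rw [show wv 0 = e0 from funext wv_zero] at h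
  exact h

/-- the automorphism group is finite, with at most 16257 · 2304 · 78 · 25 · 8 elements -/
theorem fourRu_card_le : Finite fourRu ∧ Nat.card fourRu ≤ 16257 * 2304 * 78 * 25 * 8 := by
  obtain ⟨f5, c5⟩ := fixer_B5_card
  obtain ⟨f4, c4⟩ := fixer_step fourRu B4 (wL ⟨4, by decide⟩) _ (Tcode_finite _)
    (fun g hg => mem_base 6 3 (by decide) B4 g hg mem_B4 e0_mem_B4 ⟨4, by decide⟩ (by decide)) f5
  obtain ⟨f3, c3⟩ := fixer_step fourRu B3 (wL ⟨3, by decide⟩) _ (Tcode_finite _)
    (fun g hg => mem_base 4 2 (by decide) B3 g hg mem_B3 e0_mem_B3 ⟨3, by decide⟩ (by decide)) f4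
  obtain ⟨f2, c2⟩ := fixer_step fourRu B2 (wL ⟨2, by decide⟩) _ (Tcode_finite _)
    (fun g hg => mem_base 2 1 (by decide) B2 g hg mem_B2 e0_mem_B2 ⟨2, by decide⟩ (by decide)) f3
  obtain ⟨f1, c1⟩ := fixer_step fourRu B1 (wL ⟨1, by decide⟩) _ (Tcode_finite _)
    (fun g hg => mem_base 0 0 (by decide) B1 g hg mem_B1 e0_mem_B1 ⟨1, by decide⟩ (by decide)) f2
  obtain ⟨f0, c0⟩ := fixer_step fourRu ([] : List ruLattice) e0L Tmin Tmin_finite
    (fun g _ => (fourRu_norm g e0L).trans e0_norm) f1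
  have n4 := (Tcode_ncard _).trans (le_of_eq len4)
  have n3 := (Tcode_ncard _).trans (le_of_eq len3)
  have n2 := (Tcode_ncard _).trans (le_of_eq len2)
  have n1 := (Tcode_ncard _).trans (le_of_eq len1)
  have n0 := Tmin_ncard
  rw [fixer_nil] at f0 c0
  have e : Nat.card (⊤ : Subgroup fourRu) = Nat.card fourRu := Subgroup.card_top
  have hfin : Finite fourRu := Finite.of_equiv _ (Subgroup.topEquiv (G := fourRu)).toEquiv
  refine ⟨hfin, ?_⟩
  rw [← e]
  calc Nat.card (⊤ : Subgroup fourRu) ≤ Tmin.ncard * Nat.card (fixer fourRu B1) := c0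
    _ ≤ 16257 * (2304 * (78 * (25 * (8 * 1)))) := by
      apply Nat.mul_le_mul n0
      refine c1.trans (Nat.mul_le_mul n1 ?_)
      refine c2.trans (Nat.mul_le_mul n2 ?_)
      refine c3.trans (Nat.mul_le_mul n3 ?_)
      refine c4.trans (Nat.mul_le_mul n4 ?_)
      exact le_of_eq c5
    _ = 16257 * 2304 * 78 * 25 * 8 := by norm_num

end Cfsg.Agent.Lib.Helper8.Ru2
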