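import Cfsg.Agent.Lib.Helper8.Ru2.GenChk
import Cfsg.Agent.Lib.Helper8.Ru2.Upper

/-!
Words in the five automorphisms, followed along explicit vectors; a word that maps the five vectors of the
base to themselves, or to their negatives, is the identity, or minus the identity. (helper8)
-/

set_option autoImplicit false

namespace Cfsg.Agent.Lib.Helper8.Ru2

open Cfsg.Spor Cfsg.Agent.Lib.Helper8.RuLat

/-- the check of a trajectory: `us = [u₀, …, uₙ₋₁]`, `uₙ = v`, and `uₖ₋₁ = gₖ uₖ` -/
def trajChk : List (Fin 5) → List RuVec → RuVec → Bool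
  | [], [], _ => true
  | g :: gs, u0 :: rest, v => decide (actM (MR g) (rest.headD v) = u0) && trajChk gs rest v
  | _, _, _ => false

theorem traj_sound : ∀ (gs : List (Fin 5)) (us : List RuVec) (v : ruLattice),
    trajChk gs us v.1 = true → ((((gs.map genAut).prod).1 v : ruLattice) : RuVec) = us.headD v.1 := by
  intro gs
  induction gs with
  | nil =>
    intro us v h
    cases us with
    | nil => rfl
    | cons u0 rest => simp [trajChk] at h
  | cons g gs ih =>
    intro us v h
    cases us with
    | nil => simp [trajChk] at h
    | cons u0 rest =>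
      simp only [trajChk, Bool.and_eq_true, decide_eq_true_eq] at h
      obtain ⟨h1, h2⟩ := h
      have hih := ih rest v h2
      rw [List.map_cons, List.prod_cons]
      show (((genAut g).1 (((gs.map genAut).prod).1 v) : ruLattice) : RuVec) = u0
      rw [genAut_apply, hih, h1]

/-- the check of a word: the trajectory, and the image is the vector or its negative -/
def wordChk (gs : List (Fin 5)) (us : List RuVec) (b : RuVec) (s : Bool) : Bool :=
  trajChk gs us b && decide (us.headD b = cond s (-b) b)

theorem word_sound (gs : List (Fin 5)) (us : List RuVec) (v : ruLattice) (s : Bool)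
    (h : wordChk gs us v.1 s = true) :
    ((((gs.map genAut).prod).1 v : ruLattice) : RuVec) = cond s (-v.1) v.1 := by
  unfold wordChk at h
  simp only [Bool.and_eq_true, decide_eq_true_eq] at h
  rw [traj_sound gs us v h.1, h.2]

/-! ### the scalars -/

/-- multiplication by `i` -/
def iAut : fourRu :=
  ⟨{ toFun := ruI
     invFun := fun v => -ruI v
     left_inv := fun v => by
       apply Subtype.ext
       show -(gI • gI • (v : RuVec)) = v
       rw [smul_smul, gI_mul_gI, neg_smul, one_smul, neg_neg]
     right_inv := fun v => by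
       apply Subtype.ext
       show gI • (-(gI • (v : RuVec))) = v
       rw [smul_neg, smul_smul, gI_mul_gI, neg_smul, one_smul, neg_neg] },
   (mem_fourRu _).2 ⟨fun v w => Subtype.ext (smul_add gI (v : RuVec) (w : RuVec)), fun _ => rfl, fun v => by
     show ruNorm (gI • (v : RuVec)) = ruNorm (v : RuVec)
     rw [ruNorm_smul, norm_gI, one_mul]⟩⟩

theorem iAut_apply (v : ruLattice) : iAut.1 v = ruI v := rfl

theorem iAut_central : iAut ∈ Subgroup.center fourRu := by
  rw [Subgroup.mem_center_iff]
  intro g
  apply Subtype.ext
  apply Equiv.ext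
  intro v
  show g.1 (ruI v) = ruI (g.1 v)
  exact fourRu_I g v

/-- minus the identity -/
def negAut : fourRu := iAut * iAut

theorem negAut_apply (v : ruLattice) : ((negAut.1 v : ruLattice) : RuVec) = -(v : RuVec) := by
  show gI • gI • (v : RuVec) = -(v : RuVec)
  rw [smul_smul, gI_mul_gI, neg_smul, one_smul]

theorem negAut_central : negAut ∈ Subgroup.center fourRu :=
  (Subgroup.center fourRu).mul_mem iAut_central iAut_central

theorem negAut_mul_self : negAut * negAut = 1 := by
  apply Subtype.ext
  apply Equiv.ext
  intro v
  apply Subtype.ext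
  show ((negAut.1 (negAut.1 v) : ruLattice) : RuVec) = (v : RuVec)
  rw [negAut_apply, negAut_apply, neg_neg]

theorem negAut_ne_one : negAut ≠ 1 := by
  intro h
  have h1 := negAut_apply e0L
  rw [h] at h1
  have h2 : (e0L : RuVec) = -(e0L : RuVec) := h1
  have h3 := congrFun h2 (0, 0)
  revert h3
  decide

/-! ### words that act as a scalar on the base -/

theorem mem_B5_cases (b : ruLattice) (hb : b ∈ B5) : ∃ k : Fin 5, b = wL (Fin.castLE (by decide) k) := by
  simp only [B5, B4, B3, B2, B1, List.mem_cons, List.not_mem_nil, or_false] at hb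
  rcases hb with rfl | rfl | rfl | rfl | rfl
  · exact ⟨4, rfl⟩
  · exact ⟨3, rfl⟩
  · exact ⟨2, rfl⟩
  · exact ⟨1, rfl⟩
  · exact ⟨0, wL_zero.symm⟩

/-- a word mapping the five vectors of the base to themselves or to their negatives -/
theorem word_central (gs : List (Fin 5)) (s : Bool) (tr : Fin 5 → List RuVec)
    (h : ∀ k : Fin 5, wordChk gs (tr k) (wv (Fin.castLE (by decide) k)) s = true) :
    (gs.map genAut).prod = cond s negAut 1 := by
  have hk : ∀ k : Fin 5, ((((gs.map genAut).prod).1 (wL (Fin.castLE (by decide) k)) : ruLattice) : RuVec) =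
      cond s (-(wv (Fin.castLE (by decide) k))) (wv (Fin.castLE (by decide) k)) :=
    fun k => word_sound gs (tr k) (wL (Fin.castLE (by decide) k)) s (h k)
  cases s
  · apply fix5_trivial
    intro b hb
    obtain ⟨k, rfl⟩ := mem_B5_cases b hb
    exact Subtype.ext (hk k)
  · have h1 : negAut * (gs.map genAut).prod = 1 := by
      apply fix5_trivial
      intro b hb
      obtain ⟨k, rfl⟩ := mem_B5_cases b hb
      apply Subtype.ext
      show ((negAut.1 (((gs.map genAut).prod).1 (wL (Fin.castLE (by decide) k))) : ruLattice) : RuVec) = _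
      rw [negAut_apply, hk k]
      simp
      rfl
    calc (gs.map genAut).prod = (negAut * negAut) * (gs.map genAut).prod := by
          rw [negAut_mul_self, one_mul]
      _ = negAut * (negAut * (gs.map genAut).prod) := mul_assoc _ _ _
      _ = negAut := by rw [h1, mul_one]

theorem word_mem_center (gs : List (Fin 5)) (s : Bool) (tr : Fin 5 → List RuVec)
    (h : ∀ k : Fin 5, wordChk gs (tr k) (wv (Fin.castLE (by decide) k)) s = true) :
    (gs.map genAut).prod ∈ Subgroup.center fourRu := by
  rw [word_central gs s tr h]
  cases s
  · exact (Subgroup.center fourRu).one_mem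
  · exact negAut_central

end Cfsg.Agent.Lib.Helper8.Ru2
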